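import Cfsg.Agent.Lib.TwMult.OrthN
import Cfsg.Agent.Lib.LieTwisted.Twist.E6Thms

/-!
²E₆(q) as a split (B,N)-pair of rank four, and the bound on the part of its multiplier prime to the
characteristic.
-/

set_option autoImplicit false
set_option maxRecDepth 100000
set_option linter.unusedSectionVars false

namespace Cfsg.Agent.Lib.TwMult.E6

open Cfsg.Lie
open Cfsg.Agent.Lib.ChevStructure Cfsg.Agent.Lib.LieTwisted Cfsg.Agent.Lib.LieTwisted.Twist
open Cfsg.Agent.Lib.LieTwisted.Twist.E6 (C osD idxD Js Js_spec)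
open scoped MatrixGroups

universe u

/-- The alternating word. -/
def altL {α : Type*} : α → α → ℕ → List α
  | _, _, 0 => []
  | a, b, k + 1 => a :: altL b a k

/-- The Coxeter matrix of the twisted Weyl group. -/
abbrev MF : CoxeterMatrix (Fin 4) := CoxeterMatrix.F₄

/-- An entry of the Coxeter matrix. -/
def mij (i j : Fin 4) : ℕ := MF i j

theorem mij_ne : ∀ i j : Fin 4, mij i j ≠ 0 := by decide +kernel

/-- The alternating words carry simple roots to simple roots. -/
def permOK (i j : Fin 4) : Bool :=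
  (Js.getD (if (mij i j - 1) % 2 = 0 then i.val else j.val) []).all fun a =>
    (Js.getD j.val []).any fun b =>
      Data.E6.fast.actW (expand Js (altL i.val j.val (mij i j - 1))) (Data.E6.fast.p a) == Data.E6.fast.p b

theorem perms_ok : ∀ i j : Fin 4, i ≠ j → permOK i j = true := by decide +kernel

theorem rels_ok : ∀ a b : Fin 4, relOK Data.E6.fast Js a.val b.val (mij a b) = true := by decide +kernel

variable {K : Type u} [Field K] [Fintype K] {q : ℕ} {φ : K ≃+* K} (F : Frob.Facts K q 2 φ) (hq1 : 1 < q)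
  (hK : Fintype.card K = q ^ 2)

local notation "OO" => Twist.E6.orth F hq1 hK
local notation "TT" => Orth.tw (Twist.E6.orth F hq1 hK)

/-- The twisted reflection of an orbit. -/
noncomputable abbrev wo (a : Fin 4) : Equiv.Perm (Rt chevE6) := (TT).wO a

theorem wO_rel (a b : Fin 4) : ((wo F hq1 hK) a * (wo F hq1 hK) b) ^ mij a b = 1 :=
  rel_of_relOK Cert.E6.certified (TT) Js (Js_spec F hq1 hK) (rels_ok a b)

theorem wO_sq (a : Fin 4) : (wo F hq1 hK) a * (wo F hq1 hK) a = 1 := (TT).J_inv a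

theorem altP_val : ∀ (k : ℕ) (i j : Fin 4), altP ((wo F hq1 hK) i) ((wo F hq1 hK) j) k =
    ((altL i j k).map (wo F hq1 hK)).prod
  | 0, _, _ => rfl
  | k + 1, i, j => by
    rw [altP, altP_val k j i]
    rfl

theorem altL_val : ∀ (k : ℕ) (i j : Fin 4), (altL i j k).map Fin.val = altL i.val j.val k
  | 0, _, _ => rfl
  | k + 1, i, j => congrArg (i.val :: ·) (altL_val k j i)

theorem pprod_word (L : List (Fin 4)) (r : Rt chevE6) :
    ((L.map (wo F hq1 hK)).prod r).val = Data.E6.fast.actW (expand Js (L.map Fin.val)) r.val := by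
  have h1 : C.pprod ((TT).ow L) = (L.map (wo F hq1 hK)).prod := (TT).pprod_ow L
  have h2 : ((TT).ow L).map Fin.val = expand Js (L.map Fin.val) :=
    expand_val Cert.E6.certified (TT) Js (Js_spec F hq1 hK) L
  have h3 := Cert.E6.certified.actW_eq ((TT).ow L) r
  rw [h2] at h3
  rw [← h1]
  exact h3

theorem inv'_eq (m : Fin 4) {r : Rt chevE6} :
    r ∈ C.inv' ((wo F hq1 hK) m) ↔ ∃ a ∈ Js.getD m.val [], r.val = Data.E6.fast.p a := by
  rw [show C.inv' ((wo F hq1 hK) m) = C.p '' {j | j ∈ (OO).Jl m} from (OO).inv'_Jl m]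
  have hJ : ((OO).Jl m).map Fin.val = Js.getD m.val [] := Js_spec F hq1 hK m
  constructor
  · rintro ⟨j, hj, rfl⟩
    exact ⟨j.val, hJ ▸ List.mem_map_of_mem hj, rfl⟩
  · rintro ⟨a, ha, hr⟩
    rw [← hJ, List.mem_map] at ha
    obtain ⟨j, hj, rfl⟩ := ha
    exact ⟨j, hj, Fin.ext hr.symm⟩

theorem word_perm {i j : Fin 4} (hij : i ≠ j) :
    ∀ r ∈ C.inv' ((wo F hq1 hK) (if Even (mij i j - 1) then i else j)),
      altP ((wo F hq1 hK) i) ((wo F hq1 hK) j) (mij i j - 1) r ∈ C.inv' ((wo F hq1 hK) j) := by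
  intro r hr
  obtain ⟨a, ha, hra⟩ := (inv'_eq F hq1 hK _).1 hr
  have h := perms_ok i j hij
  simp only [permOK, List.all_eq_true, List.any_eq_true, beq_iff_eq] at h
  have ha' : a ∈ Js.getD (if (mij i j - 1) % 2 = 0 then i.val else j.val) [] := by
    by_cases he : Even (mij i j - 1)
    · rw [if_pos (Nat.even_iff.1 he)]; rwa [if_pos he] at ha
    · rw [if_neg fun h => he (Nat.even_iff.2 h)]; rwa [if_neg he] at ha
  obtain ⟨b, hb, hab⟩ := h a ha'
  refine (inv'_eq F hq1 hK j).2 ⟨b, hb, ?_⟩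
  rw [altP_val, pprod_word, altL_val, hra]
  exact hab

/-- The twisted Weyl group of ²E₆. -/
noncomputable def wData : TwN.WData (TT) where
  M := CoxeterMatrix.F₄
  M_ne i j := mij_ne i j
  card := (Nat.card_congr (Twist.E6.exists_iso F hq1 hK).some.toEquiv).symm
  rel a b := wO_rel F hq1 hK a b
  perm i j hij r hr := word_perm F hq1 hK hij r hr

theorem tor_inj_aux (m : Fin 4) (u : Kˣ)
    (h : C.HT K (OrthRank.tup (OO) m u) = 1) : u = 1 := by
  obtain ⟨k1, k3, k2, -, -⟩ := Twist.E6.ker_eqs h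
  have hos : OrthRank.tup (OO) m u (osD m) = u := OrthRank.tup_os (OO) m _
  have h3 : u ^ 3 = 1 := hos ▸ Twist.E6.ker_pow3 h (osD m)
  fin_cases m
  · exact hos.symm.trans k1
  · exact hos.symm.trans k3
  · have h0 : OrthRank.tup (OO) (⟨2, by decide⟩ : Fin 4) u ⟨0, by decide⟩ = 1 := OrthRank.tup_off (OO) _ (show (OO).idx (⟨0, by decide⟩ : Fin chevE6.rank) ≠ (⟨2, by decide⟩ : Fin 4) from fun h => absurd (congrArg Fin.val h) (show (idxD (⟨0, by decide⟩ : Fin chevE6.rank)).val ≠ 2 by decide))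
    rw [show OrthRank.tup (OO) (⟨2, by decide⟩ : Fin 4) u ⟨0, by decide⟩ = 1 from h0, one_pow] at k2
    exact hos.symm.trans k2
  · have h2 : OrthRank.tup (OO) (⟨3, by decide⟩ : Fin 4) u ⟨2, by decide⟩ = 1 := OrthRank.tup_off (OO) _ (show (OO).idx (⟨2, by decide⟩ : Fin chevE6.rank) ≠ (⟨3, by decide⟩ : Fin 4) from fun h => absurd (congrArg Fin.val h) (show (idxD (⟨2, by decide⟩ : Fin chevE6.rank)).val ≠ 3 by decide))
    have h0 : OrthRank.tup (OO) (⟨3, by decide⟩ : Fin 4) u ⟨0, by decide⟩ = u := hos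
    rw [h2, h0] at k2
    rwa [pow_succ, ← k2, one_mul] at h3

/-- The part prime to the characteristic of the multiplier. -/
theorem card_ker_dvd {p : ℕ} (hp : p.Prime) [CharP K p] {e : ℕ} (hqp : q = p ^ e) {E : Type u} [Group E]
    [Finite E] {σ : E →* ↥(TT).W} (hσ : Cfsg.IsStemExtension σ) (hker : p.Coprime (Nat.card σ.ker)) :
    Nat.card σ.ker ∣ Nat.gcd 3 (q + 1) := by
  rw [← Twist.E6.ker_TF F hq1 hK]
  exact OrthN.card_ker_dvd (OO) (fun m u _ h => tor_inj_aux F hq1 hK m u h) (wData F hq1 hK) hq1 hp hqp hσ hker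

end Cfsg.Agent.Lib.TwMult.E6
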