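import Cfsg.Agent.Lib.CurtisTits.CenterE
import Cfsg.Agent.Lib.ChevLift.Mult
import Cfsg.Agent.Lib.LieTwisted.Twist.E6Thms
import Cfsg.Agent.Lib.Schur.Fusion

/-!
A stem extension of ²E₆(q) with kernel of order three when three divides q + 1: the derived group of
the preimage in Steinberg's group of type E₆.
-/

set_option autoImplicit false
set_option maxRecDepth 100000
set_option linter.unusedSectionVars false

namespace Cfsg.Agent.Lib.TwMult.E6Cover

open Cfsg.Lie
open Cfsg.Agent.Lib.ChevStructure Cfsg.Agent.Lib.CurtisTits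

universe u

theorem prod_pointwise {G α : Type*} [Monoid G] (f g : α → G) (h : ∀ a b, Commute (f a) (g b)) :
    ∀ L : List α, (L.map f).prod * (L.map g).prod = (L.map fun a => f a * g a).prod
  | [] => by simp
  | a :: L => by
    have hc : Commute (g a) (L.map f).prod := Commute.list_prod_right _ _ fun x hx => by
      obtain ⟨b, _, rfl⟩ := List.mem_map.1 hx
      exact (h b a).symm
    simp only [List.map_cons, List.prod_cons]
    rw [← prod_pointwise f g h L, mul_assoc, mul_assoc, ← mul_assoc (L.map f).prod, ← hc.eq, mul_assoc]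

variable {K : Type u} [Field K]

local notation "CC" => Cert.E6.core

/-- The map onto the Chevalley group, into the general linear group. -/
noncomputable def θ : chevE6.SteinbergGroup K →* GL chevE6.Idx K :=
  (chevE6.group K).subtype.comp (stMap CertE6.cert suppOne_E6)

theorem θ_gen {r : ℕ} (hr : r < chevE6.nroots) (t : K) :
    (θ (chevE6.stGen K r t) : Matrix chevE6.Idx chevE6.Idx K) = chevE6.x K r t :=
  stMap_gen CertE6.cert suppOne_E6 ⟨r, hr⟩ t

theorem gen_add {r : ℕ} (hr : r < chevE6.nroots) (t u : K) :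
    chevE6.stGen K r t * chevE6.stGen K r u = chevE6.stGen K r (t + u) := by
  refine mul_inv_eq_one.1 ?_
  simp only [ChevalleyDatum.stGen, ← map_mul, ← map_inv]
  exact PresentedGroup.one_of_mem (Or.inl (Or.inl ⟨r, t, u, hr, rfl⟩))

theorem gen_zero {r : ℕ} (hr : r < chevE6.nroots) : chevE6.stGen K r (0 : K) = 1 := by
  have h := gen_add (K := K) hr 0 0
  rw [add_zero] at h; exact mul_eq_left.1 h

theorem gen_pow {r : ℕ} (hr : r < chevE6.nroots) (t : K) : ∀ k : ℕ,
    chevE6.stGen K r t ^ k = chevE6.stGen K r ((k : K) * t)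
  | 0 => by rw [pow_zero, Nat.cast_zero, zero_mul, gen_zero hr]
  | k + 1 => by rw [pow_succ, gen_pow hr t k, gen_add hr, Nat.cast_succ, add_mul, one_mul]

/-- The root subgroups of `r` and `s` commute by a relator. -/
def free2 (r s : ℕ) : Bool :=
  decide (r < chevE6.nroots) && decide (s < chevE6.nroots) && decide (s ≠ r) && decide (s ≠ chevE6.neg r) &&
    (chevE6.commTerms r s).isEmpty

theorem gen_comm {r s : ℕ} (h : free2 r s = true) (t u : K) :
    Commute (chevE6.stGen K r t) (chevE6.stGen K s u) := by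
  simp only [free2, Bool.and_eq_true, decide_eq_true_eq, List.isEmpty_iff] at h
  obtain ⟨⟨⟨⟨hr, hs⟩, h1⟩, h2⟩, h3⟩ := h
  have hrel := PresentedGroup.one_of_mem (rels := chevE6.steinbergRels K)
    (Or.inl (Or.inr ⟨r, s, t, u, hr, hs, h1, h2, rfl⟩))
  simp only [ChevalleyDatum.commWord, h3, List.map_nil, ChevalleyDatum.stWord, List.prod_nil, inv_one, mul_one,
    map_mul, map_inv] at hrel
  show chevE6.stGen K r t * chevE6.stGen K s u = chevE6.stGen K s u * chevE6.stGen K r t
  simp only [ChevalleyDatum.stGen]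
  rw [mul_assoc, ← mul_inv_rev, inv_mul_eq_one] at hrel
  exact hrel

variable (K) in
/-- The preimage of ²E₆(q). -/
noncomputable def Pre (q : ℕ) : Subgroup (chevE6.SteinbergGroup K) := (twistedE6 K q).comap θ

variable {q : ℕ}

theorem pairGen_mem {a b : ℕ} (hab : (a, b) ∈ [(e6p1, e6p6), (e6m1, e6m6), (e6p3, e6p5), (e6m3, e6m5)])
    (ha : a < chevE6.nroots) (hb : b < chevE6.nroots) (t : K) :
    chevE6.stGen K a t * chevE6.stGen K b (t ^ q) ∈ Pre K q := by
  refine Subgroup.mem_comap.2 (Subgroup.subset_closure ⟨[(a, t), (b, t ^ q)], Or.inr ⟨t, (a, b), hab, rfl⟩, ?_⟩)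
  rw [map_mul, Units.val_mul, θ_gen ha, θ_gen hb]
  simp [ChevalleyDatum.wordMat]

/-- The derived group of the preimage. -/
noncomputable def Γ (K : Type u) [Field K] (q : ℕ) : Subgroup (chevE6.SteinbergGroup K) := ⁅Pre K q, Pre K q⁆

variable [Fintype K] (hq : IsPrimePow q) (hK : Fintype.card K = q ^ 2)

theorem ker_central {z : chevE6.SteinbergGroup K} (hz : θ z = 1) :
    z ∈ Subgroup.center (chevE6.SteinbergGroup K) := by
  rw [← stMap_ker CertE6.cert suppOne_E6, MonoidHom.mem_ker]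
  exact Subtype.ext hz

include hq hK

theorem mem_range {w : GL chevE6.Idx K} (hw : w ∈ twistedE6 K q) : ∃ x, θ x = w := by
  obtain ⟨φ, F, e⟩ := LieTwisted.Twist.E6.exists_model hq hK
  have : w ∈ chevE6.group K := (LieTwisted.Twist.E6.orth F hq.one_lt hK).G1_le (show w ∈ (LieTwisted.Twist.E6.orth F hq.one_lt hK).tw.W by rw [e]; exact hw)
  obtain ⟨x, hx⟩ := stMap_surj (K := K) CertE6.cert suppOne_E6 ⟨w, this⟩
  exact ⟨x, congrArg Subtype.val hx⟩

theorem card_center (h3 : 3 ∣ q + 1) : Nat.card (Subgroup.center (chevE6.SteinbergGroup K)) = 3 := by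
  rw [card_center_E6, Nat.card_eq_fintype_card, hK]
  refine Nat.gcd_eq_left (h3.trans ⟨q - 1, ?_⟩)
  rw [← Nat.sq_sub_sq, one_pow]

theorem map_Γ : (Γ K q).map θ = twistedE6 K q := by
  have hP : (Pre K q).map θ = twistedE6 K q :=
    Subgroup.map_comap_eq_self fun w hw => mem_range hq hK hw
  rw [Γ, Subgroup.map_commutator, hP]
  have h := congrArg (Subgroup.map (twistedE6 K q).subtype) (LieTwisted.Twist.E6.perfect hq hK)
  rwa [Subgroup.map_subtype_commutator, ← MonoidHom.range_eq_map, Subgroup.range_subtype] at h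

theorem Γ_le : Γ K q ≤ Pre K q := by
  intro x hx
  exact Subgroup.mem_comap.2 ((map_Γ hq hK).le (Subgroup.mem_map_of_mem _ hx))

theorem Γ_perfect : ⁅Γ K q, Γ K q⁆ = Γ K q := by
  refine le_antisymm (Subgroup.commutator_mono (Γ_le hq hK) (Γ_le hq hK)) ?_
  refine Subgroup.commutator_le.2 fun a ha b hb => ?_
  obtain ⟨a', ha', ea⟩ := (map_Γ hq hK).ge (Subgroup.mem_comap.1 ha)
  obtain ⟨b', hb', eb⟩ := (map_Γ hq hK).ge (Subgroup.mem_comap.1 hb)
  rw [Schur.Fusion.commutator_congr (fun _ hz => ker_central hz) ea.symm eb.symm]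
  exact Subgroup.commutator_mem_commutator ha' hb'

/-- An element of the preimage of order prime to three lies in the derived group. -/
theorem mem_Γ (h3 : 3 ∣ q + 1) {x : chevE6.SteinbergGroup K} (hx : x ∈ Pre K q) {n : ℕ} (hn : Nat.Coprime 3 n)
    (hxn : x ^ n = 1) : x ∈ Γ K q := by
  obtain ⟨g, hg, eg⟩ := (map_Γ hq hK).ge (Subgroup.mem_comap.1 hx)
  have hz : θ (g⁻¹ * x) = 1 := by rw [map_mul, map_inv, eg, inv_mul_cancel]
  have hzc := ker_central hz
  have hz3 : (g⁻¹ * x) ^ 3 = 1 := by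
    have h := pow_card_eq_one' (x := (⟨_, hzc⟩ : Subgroup.center (chevE6.SteinbergGroup K)))
    rw [card_center hq hK h3] at h
    exact congrArg Subtype.val h
  have hzn : (g⁻¹ * x) ^ n ∈ Γ K q := by
    have hc : Commute g (g⁻¹ * x) := Subgroup.mem_center_iff.1 hzc g
    have h := hc.mul_pow n
    rw [mul_inv_cancel_left, hxn] at h
    rw [eq_inv_of_mul_eq_one_right h.symm]
    exact inv_mem (pow_mem hg n)
  obtain ⟨m, hm⟩ := exists_pow_eq_self_of_coprime (x := g⁻¹ * x) (n := n)
    (hn.symm.coprime_dvd_right (orderOf_dvd_of_pow_eq_one hz3))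
  have : g⁻¹ * x ∈ Γ K q := hm ▸ pow_mem hzn m
  have := mul_mem hg this
  rwa [mul_inv_cancel_left] at this

theorem pairGen_Γ (h3 : 3 ∣ q + 1) {a b : ℕ}
    (hab : (a, b) ∈ [(e6p1, e6p6), (e6m1, e6m6), (e6p3, e6p5), (e6m3, e6m5)])
    (ha : a < chevE6.nroots) (hb : b < chevE6.nroots) (hf : free2 a b = true) (t : K) :
    chevE6.stGen K a t * chevE6.stGen K b (t ^ q) ∈ Γ K q := by
  obtain ⟨p, e, hp, he, hqp⟩ := id hq
  have hp' : p.Prime := hp.nat_prime
  have hcard : Fintype.card K = p ^ (e * 2) := by rw [hK, ← hqp, pow_mul]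
  haveI : Fact p.Prime := ⟨hp'⟩
  haveI : CharP K p := charP_of_card_eq_prime_pow hcard
  refine mem_Γ hq hK h3 (pairGen_mem hab ha hb t) (n := p) ?_ ?_
  · refine (Nat.coprime_primes Nat.prime_three hp').2 fun h => ?_
    have h3q : 3 ∣ q := by rw [← hqp, h]; exact dvd_pow_self p (by omega)
    have h31 : 3 ∣ 1 := (Nat.dvd_add_right h3q).1 h3
    omega
  · rw [(gen_comm hf t _).mul_pow, gen_pow ha, gen_pow hb, CharP.cast_eq_zero, zero_mul, zero_mul, gen_zero ha,
      gen_zero hb, mul_one]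

theorem pairH_Γ (h3 : 3 ∣ q + 1) {i j : Fin chevE6.rank} {a a' b b' : ℕ}
    (hi : ((CC).p i).val = a) (hj : ((CC).p j).val = b)
    (hna : chevE6.neg a = a') (hnb : chevE6.neg b = b')
    (hab : (a, b) ∈ [(e6p1, e6p6), (e6m1, e6m6), (e6p3, e6p5), (e6m3, e6m5)])
    (hab' : (a', b') ∈ [(e6p1, e6p6), (e6m1, e6m6), (e6p3, e6p5), (e6m3, e6m5)])
    (hlt : a < chevE6.nroots ∧ a' < chevE6.nroots ∧ b < chevE6.nroots ∧ b' < chevE6.nroots)
    (hf : free2 a b = true ∧ free2 a b' = true ∧ free2 a' b = true ∧ free2 a' b' = true)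
    (u : Kˣ) : hSt CertE6.cert suppOne_E6 i u * hSt CertE6.cert suppOne_E6 j (u ^ q) ∈ Γ K q := by
  obtain ⟨φ, F, -⟩ := LieTwisted.Twist.E6.exists_model hq hK
  let L : List (Bool × K) := [(false, (u : K)), (true, -(u : K)⁻¹), (false, (u : K)), (false, -1),
    (true, -(-1 : K)⁻¹), (false, -1)]
  let fa : Bool × K → chevE6.SteinbergGroup K := fun x => chevE6.stGen K (cond x.1 a' a) x.2
  let fb : Bool × K → chevE6.SteinbergGroup K := fun x => chevE6.stGen K (cond x.1 b' b) (x.2 ^ q)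
  have h1 : hSt CertE6.cert suppOne_E6 i u = (L.map fa).prod := by
    rw [hSt_eq, hi]
    simp only [L, fa, ChevalleyDatum.stH, ChevalleyDatum.stWord, ChevalleyDatum.hWord, ChevalleyDatum.nWord, hna,
      List.map_cons, List.map_nil, List.cons_append, List.nil_append, List.prod_cons, List.prod_nil, mul_one,
      map_mul, ChevalleyDatum.stGen, cond_true, cond_false]
  have hq' : ∀ x : K, φ x = x ^ q := F.apply
  have h2 : hSt CertE6.cert suppOne_E6 j (u ^ q) = (L.map fb).prod := by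
    rw [hSt_eq, hj]
    simp only [L, fb, List.map_cons, List.map_nil, ← hq', map_neg, map_inv₀, map_one]
    simp only [ChevalleyDatum.stH, ChevalleyDatum.stWord, ChevalleyDatum.hWord, ChevalleyDatum.nWord, hnb,
      List.map_cons, List.map_nil, List.cons_append, List.nil_append, List.prod_cons, List.prod_nil, mul_one,
      map_mul, ChevalleyDatum.stGen, cond_true, cond_false, hq', Units.val_pow_eq_pow_val]
  rw [h1, h2, prod_pointwise fa fb ?_ L]
  · refine Subgroup.list_prod_mem _ fun x hx => ?_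
    obtain ⟨⟨s, t⟩, -, rfl⟩ := List.mem_map.1 hx
    cases s
    · exact pairGen_Γ hq hK h3 hab hlt.1 hlt.2.2.1 hf.1 t
    · exact pairGen_Γ hq hK h3 hab' hlt.2.1 hlt.2.2.2 hf.2.2.2 t
  · rintro ⟨s, t⟩ ⟨s', t'⟩
    cases s <;> cases s'
    · exact gen_comm hf.1 _ _
    · exact gen_comm hf.2.1 _ _
    · exact gen_comm hf.2.2.1 _ _
    · exact gen_comm hf.2.2.2 _ _

/-- A central element of order three of the derived group. -/
theorem exists_center_mem (h3 : 3 ∣ q + 1) : ∃ z ∈ Γ K q, θ z = 1 ∧ z ≠ 1 := by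
  classical
  haveI : Fact (Nat.Prime 3) := ⟨Nat.prime_three⟩
  obtain ⟨w, hw⟩ := exists_prime_orderOf_dvd_card' (G := Kˣ) 3 (by
    rw [Nat.card_units, Nat.card_eq_fintype_card, hK]
    refine h3.trans ⟨q - 1, ?_⟩
    rw [← Nat.sq_sub_sq, one_pow])
  have hw3 : w ^ 3 = 1 := hw ▸ pow_orderOf_eq_one w
  have hqm : q % 3 = 2 := by omega
  have hwq : w ^ q = w ^ 2 := by rw [pow_eq_pow_mod q hw3, hqm]
  have hwq2 : (w ^ 2) ^ q = w := by
    rw [← pow_mul, pow_eq_pow_mod _ hw3, Nat.mul_mod, hqm, pow_one]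
  let c : Fin chevE6.rank → Kˣ := Pi.mulSingle (⟨0, by decide⟩ : Fin chevE6.rank) w *
    Pi.mulSingle (⟨5, by decide⟩ : Fin chevE6.rank) (w ^ q) *
    (Pi.mulSingle (⟨2, by decide⟩ : Fin chevE6.rank) (w ^ 2) *
      Pi.mulSingle (⟨4, by decide⟩ : Fin chevE6.rank) ((w ^ 2) ^ q))
  refine ⟨torus CertE6.cert suppOne_E6 c, ?_, ?_, ?_⟩
  · simp only [c, map_mul, torus_single]
    refine mul_mem ?_ ?_
    · exact pairH_Γ hq hK h3 (a := e6p1) (a' := e6m1) (b := e6p6) (b' := e6m6) (by decide +kernel)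
        (by decide +kernel) (by decide +kernel) (by decide +kernel) (by simp) (by simp) (by decide +kernel)
        (by decide +kernel) w
    · exact pairH_Γ hq hK h3 (a := e6p3) (a' := e6m3) (b := e6p5) (b' := e6m5) (by decide +kernel)
        (by decide +kernel) (by decide +kernel) (by decide +kernel) (by simp) (by simp) (by decide +kernel)
        (by decide +kernel) (w ^ 2)
  · have hc : ∀ k, c k = w ^ kerE6.w k := by
      intro k
      have hk : ∀ k : Fin chevE6.rank, k.val = 0 ∨ k.val = 1 ∨ k.val = 2 ∨ k.val = 3 ∨ k.val = 4 ∨ k.val = 5 := by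
        decide +kernel
      have hwz : (w ^ (2 : ℤ)) = w ^ 2 := zpow_natCast w 2
      rcases hk k with h | h | h | h | h | h <;>
        simp [c, kerE6, h, Pi.mulSingle_apply, Fin.ext_iff, hwq, hwq2, hwz]
    have h : c ∈ matKer Kˣ (fun k i => A chevE6 k ((CC).p i)) := by
      intro i
      simp only [hc]
      calc ∏ k, (w ^ kerE6.w k) ^ A chevE6 k ((CC).p i) = w ^ ∑ k, kerE6.w k * A chevE6 k ((CC).p i) := by
            simp only [← zpow_mul]
            induction (Finset.univ : Finset (Fin chevE6.rank)) using Finset.induction_on with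
            | empty => simp
            | insert a t ha ih => rw [Finset.prod_insert ha, Finset.sum_insert ha, zpow_add, ih]
        _ = 1 := by rw [kerE6.hv, zpow_mul, zpow_natCast, hw3, one_zpow]
    have h' := (mem_matKer CertE6.cert suppOne_E6 c).1 h
    exact congrArg Subtype.val h'
  · intro h
    have hinj := torus_injective (K := K) CertE6.cert suppOne_E6 CertE8.cert suppOne_E8 embE6 invE8 invE8_ok
    have h0 := congrFun (hinj (h.trans (map_one _).symm)) ⟨0, by decide⟩
    have hw1 : w = 1 := by simpa [c, Pi.mulSingle_apply, Fin.ext_iff] using h0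
    rw [hw1, orderOf_one] at hw
    omega

/-- When three divides q + 1, ²E₆(q) has a stem extension with kernel cyclic of order three. -/
theorem exists_stem (h3 : 3 ∣ q + 1) :
    ∃ (G : Type u) (_ : Group G) (_ : Finite G) (σ : G →* ↥(twistedE6 K q)),
      Cfsg.IsStemExtension σ ∧ Nonempty (σ.ker ≃* Multiplicative (ZMod 3)) := by
  haveI : Finite (chevE6.SteinbergGroup K) := ChevLift.finite_steinberg CertE6.cert suppOne_E6
  let σ : ↥(Γ K q) →* ↥(twistedE6 K q) :=
    (θ.comp (Γ K q).subtype).codRestrict _ fun x => Subgroup.mem_comap.1 (Γ_le hq hK x.2)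
  have hzero : ∀ x : ↥(Γ K q), x ∈ σ.ker → θ (x : chevE6.SteinbergGroup K) = 1 := fun x hx =>
    congrArg Subtype.val (MonoidHom.mem_ker.1 hx)
  have hsurj : Function.Surjective σ := fun y => by
    obtain ⟨x, hx, e⟩ := (map_Γ hq hK).ge y.2
    exact ⟨⟨x, hx⟩, Subtype.ext e⟩
  have hperf : commutator ↥(Γ K q) = ⊤ := by
    refine Subgroup.map_injective (Γ K q).subtype_injective ?_
    rw [Subgroup.map_subtype_commutator, ← MonoidHom.range_eq_map, Subgroup.range_subtype]
    exact Γ_perfect hq hK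
  have hst : Cfsg.IsStemExtension σ := ⟨hsurj, fun x hx => Subgroup.mem_center_iff.2 fun y =>
    Subtype.ext (Subgroup.mem_center_iff.1 (ker_central (hzero x hx)) y), hperf ▸ le_top⟩
  refine ⟨↥(Γ K q), inferInstance, inferInstance, σ, hst, ?_⟩
  let ι : ↥σ.ker →* ↥(Subgroup.center (chevE6.SteinbergGroup K)) :=
    ((Γ K q).subtype.comp σ.ker.subtype).codRestrict _ fun x => ker_central (hzero x.1 x.2)
  have hd : Nat.card σ.ker ∣ 3 := card_center hq hK h3 ▸ Subgroup.card_dvd_of_injective ι fun x y h =>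
    Subtype.ext (Subtype.ext (congrArg (fun z : ↥(Subgroup.center (chevE6.SteinbergGroup K)) => z.1) h))
  obtain ⟨z, hz, hz1, hz2⟩ := exists_center_mem hq hK h3
  have hne : Nat.card σ.ker ≠ 1 := fun h => hz2 (by
    have hm : (⟨z, hz⟩ : ↥(Γ K q)) ∈ σ.ker := MonoidHom.mem_ker.2 (Subtype.ext hz1)
    rw [Subgroup.card_eq_one.1 h, Subgroup.mem_bot] at hm
    exact congrArg Subtype.val hm)
  have hc3 : Nat.card σ.ker = 3 := ((Nat.dvd_prime Nat.prime_three).1 hd).resolve_left hne
  haveI : Fact (Nat.Prime 3) := ⟨Nat.prime_three⟩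
  have : IsCyclic σ.ker := isCyclic_of_prime_card hc3
  exact ⟨mulEquivOfCyclicCardEq (by rw [hc3, Nat.card_congr Multiplicative.toAdd, Nat.card_zmod])⟩

end Cfsg.Agent.Lib.TwMult.E6Cover
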