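import Cfsg.Agent.Lib.TwMult.E6Data

/-!
A central series of the group U¹ of ²E₆ with twenty-four layers, one for each orbit of positive roots.
-/

set_option autoImplicit false
set_option maxRecDepth 100000
set_option linter.unusedSectionVars false

namespace Cfsg.Agent.Lib.TwMult.E6

open Cfsg.Lie
open Cfsg.Agent.Lib.ChevStructure Cfsg.Agent.Lib.LieTwisted Cfsg.Agent.Lib.LieTwisted.Twist
open Cfsg.Agent.Lib.LieTwisted.Twist.E6 (C)
open scoped MatrixGroups commutatorElement

local notation "π" => Frob.rootPerm Twist.E6.g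

universe u

/-- The roots of the layers from the given one on. -/
def SR (j : ℕ) : Set (Rt chevE6) := {r | 36 ≤ r.val ∧ j ≤ pidx r}

/-- The same roots in increasing order. -/
def LR (j : ℕ) : List (Rt chevE6) :=
  (List.finRange chevE6.nroots).filter fun r => decide (36 ≤ r.val ∧ j ≤ pidx r)

theorem mem_LR {j : ℕ} {r : Rt chevE6} : r ∈ LR j ↔ r ∈ SR j := by simp [LR, SR]

theorem SR_pos (j : ℕ) : SR j ⊆ C.Pos := fun r hr => (pos_iff36 r).2 hr.1

theorem SR_zero : SR 0 = C.Pos := Set.ext fun r => by simp [SR, pos_iff36]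

theorem SR_anti {i j : ℕ} (h : i ≤ j) : SR j ⊆ SR i := fun _ hr => ⟨hr.1, h.trans hr.2⟩

/-- The height of a root. -/
def hgt (r : Rt chevE6) : ℤ := ∑ k : Fin chevE6.rank, Data.E6.fast.v r.val k.val

theorem hgt_eq (r : Rt chevE6) : hgt r = ∑ k, C.v r k := rfl

theorem hgt_pos : ∀ r : Rt chevE6, 36 ≤ r.val → 1 ≤ hgt r := by decide +kernel

theorem hgt_mono : ∀ r : Rt chevE6, ∀ s : Rt chevE6, 36 ≤ r.val → 36 ≤ s.val → hgt r < hgt s →
    pidx r < pidx s := by decide +kernel

theorem LR_closed (n : ℕ) : ∀ r ∈ LR n, ∀ s ∈ LR n, ∀ (q : Rt chevE6) (i j : ℕ), 1 ≤ i → 1 ≤ j →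
    C.v q = (i : ℤ) • C.v r + (j : ℤ) • C.v s → q ∈ LR n := by
  intro r hr s hs q i j hi hj hv
  rw [mem_LR] at hr hs ⊢
  have hq : 36 ≤ q.val :=
    (pos_iff36 q).1 (comm'.pos_closed ((pos_iff36 r).2 hr.1) ((pos_iff36 s).2 hs.1) hj hv)
  have e : hgt q = (i : ℤ) * hgt r + (j : ℤ) * hgt s := by
    simp only [hgt_eq, hv, Pi.add_apply, Pi.smul_apply, smul_eq_mul, Finset.sum_add_distrib, ← Finset.mul_sum]
  have h1 : 1 ≤ hgt r := hgt_pos r hr.1
  have h2 : 1 ≤ hgt s := hgt_pos s hs.1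
  have hlt : hgt r < hgt q := by
    rw [e]
    have : (1 : ℤ) ≤ i := by exact_mod_cast hi
    have : (1 : ℤ) ≤ j := by exact_mod_cast hj
    nlinarith
  exact ⟨hq, hr.2.trans (hgt_mono r q hr.1 hq hlt).le⟩

variable {K : Type u} [Field K]

/-- Root elements of positive roots conjugate the group of a layer into itself, and move it only
inside later layers. -/
theorem conj_X (j : ℕ) {r q : Rt chevE6} (hr : 36 ≤ r.val) (hq : q ∈ SR j) (t u : K) :
    (C.X K q u)⁻¹ * ((C.X K r t)⁻¹ * C.X K q u * C.X K r t) ∈ C.US K (SR (j + 1)) := by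
  by_cases hrq : q = r
  · subst hrq
    rw [C.X_inv, C.X_inv, C.X_add, C.X_add, C.X_add, show -u + (-t + u + t) = 0 by ring, C.X_zero]
    exact one_mem _
  have hrev : q ≠ r.rev := fun h => by
    have h1 := C.ht_pos ((pos_iff36 q).2 hq.1)
    have h2 := C.ht_pos ((pos_iff36 r).2 hr)
    rw [h, C.ht_rev] at h1
    omega
  have e := comm'.comm_X r q hrq hrev t u
  rw [show (C.X K r t)⁻¹ * C.X K q u * C.X K r t = (C.X K r t)⁻¹ * (C.X K q u * C.X K r t) from mul_assoc _ _ _, e,
    mul_assoc (C.X K r t), inv_mul_cancel_left, inv_mul_cancel_left]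
  refine list_prod_mem fun g hg => ?_
  rw [List.mem_map] at hg
  obtain ⟨c, hc, rfl⟩ := hg
  obtain ⟨h72, h36, -, h2⟩ := terms_later r q hr hq.1 (Ne.symm hrq) c hc
  refine C.XN_mem_US K (S := SR (j + 1)) (q := Rn c.1) ⟨?_, ?_⟩ ?_ _
  · show 36 ≤ c.1 % 72
    rw [Nat.mod_eq_of_lt h72]; exact h36
  · exact Nat.succ_le_of_lt (lt_of_le_of_lt hq.2 h2)
  · show c.1 = c.1 % 72
    rw [Nat.mod_eq_of_lt h72]

theorem pos_le_normalizer (n : ℕ) :
    C.US K C.Pos ≤ Subgroup.normalizer (C.US K (SR n) : Set (GL chevE6.Idx K)) := by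
  refine (Subgroup.closure_le _).2 ?_
  rintro x ⟨r, hr, t, rfl⟩
  have key : ∀ t : K, ∀ g ∈ C.US K (SR n), (C.X K r t)⁻¹ * g * C.X K r t ∈ C.US K (SR n) := by
    intro t g hg
    have hle : C.US K (SR n) ≤ (C.US K (SR n)).comap (MulAut.conj (C.X K r t)⁻¹).toMonoidHom := by
      refine (Subgroup.closure_le _).2 ?_
      rintro y ⟨q, hq, u, rfl⟩
      have h := mul_mem (C.X_mem_US K hq u)
        (C.US_mono K (SR_anti (Nat.le_succ n)) (conj_X n ((pos_iff36 r).1 hr) hq t u))
      rw [mul_inv_cancel_left] at h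
      show (C.X K r t)⁻¹ * C.X K q u * (C.X K r t)⁻¹⁻¹ ∈ C.US K (SR n)
      rwa [inv_inv]
    have := hle hg
    rwa [Subgroup.mem_comap, MulEquiv.coe_toMonoidHom, MulAut.conj_apply, inv_inv] at this
  refine Subgroup.mem_normalizer_iff.2 fun g => ⟨fun hg => ?_, fun hg => ?_⟩
  · have h := key (-t) g hg
    rwa [← C.X_inv, inv_inv] at h
  · have h := key t _ hg
    rwa [show (C.X K r t)⁻¹ * (C.X K r t * g * (C.X K r t)⁻¹) * C.X K r t = g by group] at h

theorem conj_mem_SR (n : ℕ) {v w : GL chevE6.Idx K} (hv : v ∈ C.US K C.Pos) (hw : w ∈ C.US K (SR n)) :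
    v * w * v⁻¹ ∈ C.US K (SR n) :=
  (Subgroup.mem_normalizer_iff.1 (pos_le_normalizer n hv) w).1 hw

/-- The commutator with a layer lies in the later layers. -/
theorem comm_mem (n : ℕ) {v : GL chevE6.Idx K} (hv : v ∈ C.US K C.Pos) :
    ∀ {w : GL chevE6.Idx K}, w ∈ C.US K (SR n) → ⁅v, w⁆ ∈ C.US K (SR (n + 1)) := by
  induction hv using Subgroup.closure_induction with
  | mem x hx =>
    intro w hw
    obtain ⟨r, hr, t, rfl⟩ := hx
    induction hw using Subgroup.closure_induction with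
    | mem y hy =>
      obtain ⟨q, hq, u, rfl⟩ := hy
      have h := conj_X n ((pos_iff36 r).1 hr) hq (-t) u
      rw [← C.X_inv, inv_inv] at h
      have := conj_mem_SR (n + 1) (C.US_mono K (SR_pos n) (C.X_mem_US K hq u)) h
      convert this using 1
      rw [commutatorElement_def]; group
    | one => rw [commutatorElement_one_right]; exact one_mem _
    | mul a b ha _ iha ihb =>
      rw [commutatorElement_mul_right_eq_mul_conj, mul_assoc, mul_assoc, ← mul_assoc a]
      exact mul_mem iha (conj_mem_SR (n + 1) (C.US_mono K (SR_pos n) ha) ihb)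
    | inv a ha iha =>
      have := conj_mem_SR (n + 1) (inv_mem (C.US_mono K (SR_pos n) ha)) (inv_mem iha)
      convert this using 1
      rw [commutatorElement_def, commutatorElement_def]; group
  | one => intro w _; rw [commutatorElement_one_left]; exact one_mem _
  | mul a b ha _ iha ihb =>
    intro w hw
    rw [commutatorElement_mul_left_eq_conj_mul]
    exact mul_mem (conj_mem_SR (n + 1) ha (ihb hw)) (iha hw)
  | inv a ha iha =>
    intro w hw
    have := conj_mem_SR (n + 1) (inv_mem ha) (inv_mem (iha hw))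
    convert this using 1
    rw [commutatorElement_def, commutatorElement_def]; group

/-- The element with given coordinates in a layer. -/
noncomputable def co2 (j : ℕ) (a b : K) : GL chevE6.Idx K := C.X K (rp j) a * C.X K (π (rp j)) b

theorem X_rp_mem {j : ℕ} (hj : j < 24) (a : K) : C.X K (rp j) a ∈ C.US K (SR j) :=
  C.X_mem_US K (S := SR j) ⟨(pidx_rp ⟨j, hj⟩).1, (pidx_rp ⟨j, hj⟩).2.1.ge⟩ a

theorem X_rp'_mem {j : ℕ} (hj : j < 24) (b : K) : C.X K (π (rp j)) b ∈ C.US K (SR j) :=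
  C.X_mem_US K (S := SR j) ⟨(pidx_rp ⟨j, hj⟩).2.2.1, (pidx_rp ⟨j, hj⟩).2.2.2.ge⟩ b

theorem co2_mem {j : ℕ} (hj : j < 24) (a b : K) : co2 j a b ∈ C.US K (SR j) :=
  mul_mem (X_rp_mem hj a) (X_rp'_mem hj b)

theorem co2_zero (j : ℕ) : co2 j (0 : K) 0 = 1 := by rw [co2, C.X_zero, C.X_zero, one_mul]

theorem co2_mul (j : ℕ) (a b a' b' : K) : co2 j a b * co2 j a' b' = co2 j (a + a') (b + b') := by
  have h : Commute (C.X K (π (rp j)) b) (C.X K (rp j) a') := (cm_comm (orbit_cm (rp j)) a' b).symm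
  simp only [co2]
  rw [mul_assoc, ← mul_assoc (C.X K (π (rp j)) b), h.eq, mul_assoc (C.X K (rp j) a'), C.X_add, ← mul_assoc, C.X_add]

theorem co2_inv (j : ℕ) (a b : K) : (co2 j a b)⁻¹ = co2 j (-a) (-b) :=
  inv_eq_of_mul_eq_one_right (by rw [co2_mul, add_neg_cancel, add_neg_cancel, co2_zero])

/-- Coordinates of an element of a layer. -/
theorem exists_coord {j : ℕ} (hj : j < 24) {g : GL chevE6.Idx K} (hg : g ∈ C.US K (SR j)) :
    ∃ a b, (co2 j a b)⁻¹ * g ∈ C.US K (SR (j + 1)) := by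
  induction hg using Subgroup.closure_induction with
  | mem x hx =>
    obtain ⟨q, hq, u, rfl⟩ := hx
    rcases eq_or_lt_of_le hq.2 with h | h
    · rcases layer_cases q hq.1 with h' | h' <;> rw [← h] at h'
      · exact ⟨u, 0, by rw [co2, h', C.X_zero, mul_one, inv_mul_cancel]; exact one_mem _⟩
      · exact ⟨0, u, by rw [co2, h', C.X_zero, one_mul, inv_mul_cancel]; exact one_mem _⟩
    · exact ⟨0, 0, by rw [co2_zero, inv_one, one_mul]; exact C.X_mem_US K (S := SR (j + 1)) ⟨hq.1, h⟩ u⟩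
  | one => exact ⟨0, 0, by rw [co2_zero]; simp⟩
  | mul x y _ hy ihx ihy =>
    obtain ⟨a, b, h1⟩ := ihx
    obtain ⟨a', b', h2⟩ := ihy
    refine ⟨a + a', b + b', ?_⟩
    have h3 := conj_mem_SR (j + 1) (inv_mem (C.US_mono K (SR_pos j) (co2_mem hj a' b'))) h1
    have h4 := mul_mem h3 h2
    rw [← co2_mul]
    convert h4 using 1
    group
  | inv x _ ihx =>
    obtain ⟨a, b, h1⟩ := ihx
    refine ⟨-a, -b, ?_⟩
    have h2 := conj_mem_SR (j + 1) (C.US_mono K (SR_pos j) (co2_mem hj a b)) (inv_mem h1)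
    rw [← co2_inv, inv_inv]
    convert h2 using 1
    group

theorem coord_eq_zero {j : ℕ} (hj : j < 24) {a b : K} (hb : π (rp j) = rp j → b = 0)
    (h : co2 j a b ∈ C.US K (SR (j + 1))) : a = 0 ∧ b = 0 := by
  classical
  obtain ⟨h1, h2, h3, h4⟩ := pidx_rp ⟨j, hj⟩
  have hsort : ∀ n, (LR n).Pairwise (· < ·) := fun n => (List.pairwise_lt_finRange _).filter _
  have hfilter : ∀ (P : Rt chevE6 → Bool) (L : List (Rt chevE6)) (t : Rt chevE6 → K),
      (∀ r ∈ L, P r = false → t r = 0) → C.wordX K L t = C.wordX K (L.filter P) t := by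
    intro P L t ht
    induction L with
    | nil => rfl
    | cons x L ih =>
      have ih' := ih fun r hr => ht r (List.mem_cons_of_mem _ hr)
      simp only [Core.wordX, List.map_cons, List.prod_cons] at ih' ⊢
      cases hx : P x
      · rw [List.filter_cons_of_neg (by simp [hx]), ht x (List.mem_cons_self ..) hx, C.X_zero, one_mul, ih']
      · rw [List.filter_cons_of_pos hx, List.map_cons, List.prod_cons, ih']
  obtain ⟨t, ht⟩ := comm'.exists_word (R := K) (hsort (j + 1)) (fun r hr => SR_pos _ (mem_LR.1 hr))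
    (LR_closed (j + 1)) (by rwa [show {r | r ∈ LR (j + 1)} = SR (j + 1) from Set.ext fun _ => mem_LR])
  let f : Rt chevE6 → K := fun r => if r = rp j then a else if r = π (rp j) then b else 0
  let t' : Rt chevE6 → K := fun r => if pidx r = j then 0 else t r
  have key : ∀ i : Fin 24, (LR i.val).filter (fun r => decide (pidx r = i.val)) =
      if π (rp i.val) = rp i.val then [rp i.val] else
      if rp i.val < π (rp i.val) then [rp i.val, π (rp i.val)] else [π (rp i.val), rp i.val] := by decide +kernel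
  have e1 : C.wordX K (LR j) f = co2 j a b := by
    rw [hfilter (fun r => decide (pidx r = j)) _ f (fun r hr hd => ?_), key ⟨j, hj⟩]
    · by_cases hfix : π (rp j) = rp j
      · simp [Core.wordX, f, co2, hfix, hb hfix, C.X_zero]
      · by_cases hlt : rp j < π (rp j)
        · simp [Core.wordX, f, co2, hfix, hlt]
        · simp [Core.wordX, f, co2, hfix, hlt]
          exact ((cm_comm (orbit_cm (rp j)) a b).eq).symm
    · have hd' : pidx r ≠ j := by simpa using hd
      simp [f, show r ≠ rp j from fun e => hd' (e ▸ h2), show r ≠ π (rp j) from fun e => hd' (e ▸ h4)]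
  have e2 : C.wordX K (LR j) t' = C.wordX K (LR (j + 1)) t := by
    have hL : (LR j).filter (fun r => decide (pidx r ≠ j)) = LR (j + 1) := by
      rw [LR, LR, List.filter_filter]
      refine List.filter_congr fun r _ => ?_
      rw [Bool.eq_iff_iff]
      simp only [Bool.and_eq_true, decide_eq_true_iff]
      omega
    rw [hfilter (fun r => decide (pidx r ≠ j)) _ t' (fun r _ hd => ?_), hL]
    · exact C.wordX_congr K fun r hr => if_neg (by have := (mem_LR.1 hr).2; omega)
    · have hd' : pidx r = j := by simpa using hd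
      simp [t', hd']
  have hu := C.wordX_unique K (hsort j) (fun r hr => SR_pos _ (mem_LR.1 hr))
    (e1.trans (ht.trans e2.symm))
  have ha : a = 0 := by simpa [f, t', h2] using hu (rp j) (mem_LR.2 ⟨h1, h2.ge⟩)
  refine ⟨ha, ?_⟩
  by_cases hfix : π (rp j) = rp j
  · exact hb hfix
  · simpa [f, t', h4, hfix] using hu (π (rp j)) (mem_LR.2 ⟨h3, h4.ge⟩)

end Cfsg.Agent.Lib.TwMult.E6
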