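import Cfsg.Agent.Lib.TwMult.E6Data

/-!
Torus elements of ²E₆(q) given by coroots.
-/

set_option autoImplicit false
set_option maxRecDepth 100000
set_option linter.unusedSectionVars false

namespace Cfsg.Agent.Lib.TwMult.E6

open Cfsg.Lie
open Cfsg.Agent.Lib.ChevStructure Cfsg.Agent.Lib.LieTwisted Cfsg.Agent.Lib.LieTwisted.Twist
open Cfsg.Agent.Lib.LieTwisted.Twist.E6 (C)
open scoped MatrixGroups

local notation "π" => Frob.rootPerm Twist.E6.g

universe u

variable {K : Type u} [Field K]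

/-- The parameters of the coroot of a fixed root. -/
def cFix (r : Rt chevE6) (t : Kˣ) : Fin chevE6.rank → Kˣ := fun j => t ^ co chevE6 r j

/-- The parameters of the coroots of an orbit. -/
def cMov (φ : K ≃+* K) (r : Rt chevE6) (t : Kˣ) : Fin chevE6.rank → Kˣ := fun j =>
  t ^ co chevE6 r j * Units.map (φ : K →* K) t ^ co chevE6 (π r) j

theorem chA_cFix (r s : Rt chevE6) (t : Kˣ) : C.chA (cFix r t) s = t ^ pr chevE6 r s := by
  rw [Core.chA, pr, C.zpow_fsum]
  exact Finset.prod_congr rfl fun j _ => (zpow_mul t _ _).symm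

theorem chA_cMov (φ : K ≃+* K) (r s : Rt chevE6) (t : Kˣ) :
    C.chA (cMov φ r t) s = t ^ pr chevE6 r s * Units.map (φ : K →* K) t ^ pr chevE6 (π r) s := by
  rw [Core.chA, pr, pr, C.zpow_fsum, C.zpow_fsum, ← Finset.prod_mul_distrib]
  exact Finset.prod_congr rfl fun j _ => by rw [cMov, mul_zpow, zpow_mul, zpow_mul]

variable [Fintype K] {q : ℕ} {φ : K ≃+* K} (F : Frob.Facts K q 2 φ) (hq1 : 1 < q)
  (hK : Fintype.card K = q ^ 2)

include F in
theorem units_phi2 (t : Kˣ) : Units.map (φ : K →* K) (Units.map (φ : K →* K) t) = t :=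
  Units.ext (phi2 F t)

theorem tau_cFix {r : Rt chevE6} (hr : π r = r) {t : Kˣ} (ht : φ (t : K) = t) :
    (Twist.E6.orth F hq1 hK).τc (cFix r t) = cFix r t := by
  funext i
  obtain ⟨j, rfl⟩ := (Twist.E6.orth F hq1 hK).ρ.surjective i
  show Units.map (φ : K →* K) (cFix r t ((Frob.nodePerm Twist.E6.g).symm (Frob.nodePerm Twist.E6.g j))) =
    cFix r t (Frob.nodePerm Twist.E6.g j)
  simp only [cFix, Equiv.symm_apply_apply, map_zpow]
  rw [show Units.map (φ : K →* K) t = t from Units.ext ht]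
  congr 1
  conv_lhs => rw [← co_pi r j, hr]

theorem tau_cMov (r : Rt chevE6) (t : Kˣ) :
    (Twist.E6.orth F hq1 hK).τc (cMov φ r t) = cMov φ r t := by
  funext i
  obtain ⟨j, rfl⟩ := (Twist.E6.orth F hq1 hK).ρ.surjective i
  show Units.map (φ : K →* K) (cMov φ r t ((Frob.nodePerm Twist.E6.g).symm (Frob.nodePerm Twist.E6.g j))) =
    cMov φ r t (Frob.nodePerm Twist.E6.g j)
  simp only [cMov, Equiv.symm_apply_apply, map_mul, map_zpow, units_phi2 F]
  rw [mul_comm]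
  congr 1
  · congr 1
    rw [← co_pi (π r) j, (sg_pair r).2]
  · congr 1
    exact (co_pi r j).symm

/-- A torus element of the twisted group. -/
noncomputable def tw_tor {c : Fin chevE6.rank → Kˣ} (h : (Twist.E6.orth F hq1 hK).τc c = c) :
    ↥(Twist.E6.orth F hq1 hK).tw.W :=
  ⟨C.HT K c, (Twist.E6.orth F hq1 hK).tw.diag_mem _ (C.mem_diagonal_iff.2 ⟨c, rfl⟩)
    (by show (Twist.E6.orth F hq1 hK).Θ _ = _; rw [(Twist.E6.orth F hq1 hK).Θ_HT, h])⟩

theorem tw_tor_mem {c : Fin chevE6.rank → Kˣ} (h : (Twist.E6.orth F hq1 hK).τc c = c) :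
    tw_tor F hq1 hK h ∈ tor (Twist.E6.orth F hq1 hK).tw :=
  (mem_tor _).2 (C.mem_diagonal_iff.2 ⟨c, rfl⟩)

theorem tor_conj_ex {c : Fin chevE6.rank → Kˣ} (h : (Twist.E6.orth F hq1 hK).τc c = c) {r : Rt chevE6}
    (t : K) (hval : π r ≠ r → (C.chA c (π r) : K) = φ (C.chA c r : K)) :
    C.HT K c * ex φ r t * (C.HT K c)⁻¹ = ex φ r ((C.chA c r : K) * t) := by
  by_cases hr : π r = r
  · rw [ex_fixed hr, ex_fixed hr, C.HT_X_conj]
  · rw [ex_moved hr, ex_moved hr, show ∀ a b z : GL chevE6.Idx K, a * (b * z) * a⁻¹ = a * b * a⁻¹ * (a * z * a⁻¹)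
      from fun a b z => by group, C.HT_X_conj, C.HT_X_conj, hval hr]
    congr 2
    rw [map_mul]; ring

theorem pr_pi : ∀ r : Rt chevE6, ∀ s : Rt chevE6, pr chevE6 (π r) (π s) = pr chevE6 r s := by decide +kernel

theorem chA_cFix_pi {r s : Rt chevE6} (hr : π r = r) {t : Kˣ} (ht : φ (t : K) = t) :
    (C.chA (cFix r t) (π s) : K) = φ (C.chA (cFix r t) s : K) := by
  rw [chA_cFix, chA_cFix, ← pr_pi r s, hr, show φ ((t ^ pr chevE6 r (π s) : Kˣ) : K) =
    (Units.map (φ : K →* K) (t ^ pr chevE6 r (π s)) : K) from rfl, map_zpow,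
    show Units.map (φ : K →* K) t = t from Units.ext ht]

include F in
theorem chA_cMov_pi (r s : Rt chevE6) (t : Kˣ) :
    (C.chA (cMov φ r t) (π s) : K) = φ (C.chA (cMov φ r t) s : K) := by
  rw [chA_cMov, chA_cMov]
  show _ = ((Units.map (φ : K →* K) (t ^ pr chevE6 r s * Units.map (φ : K →* K) t ^ pr chevE6 (π r) s) : Kˣ) : K)
  rw [map_mul, map_zpow, map_zpow, units_phi2 F]
  have h1 : pr chevE6 r (π s) = pr chevE6 (π r) s := by
    conv_rhs => rw [← pr_pi (π r) s, (sg_pair r).2]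
  rw [h1, ← pr_pi r s, mul_comm (Units.map (φ : K →* K) t ^ pr chevE6 (π r) (π s))]

end Cfsg.Agent.Lib.TwMult.E6
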