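import Cfsg.Agent.Lib.TwMult.Pair
import Mathlib

/-!
Commuting of lifts in central extensions: closure under conjugation, coprime orders, invariant
biadditive pairings.
-/

set_option autoImplicit false
set_option linter.unusedSectionVars false

namespace Cfsg.Agent.Lib.TwMult

open Subgroup
open scoped commutatorElement

universe u v

variable {G : Type v} [Group G] {E : Type u} [Group E]

/-- All lifts of the two elements commute. -/
def LC (σ : E →* G) (g g' : G) : Prop := ∀ x y : E, σ x = g → σ y = g' → Commute x y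

theorem LC.symm {σ : E →* G} {g g' : G} (h : LC σ g g') : LC σ g' g := fun x y hx hy => (h y x hy hx).symm

theorem LC.of_commutator {σ : E →* G} (hk : σ.ker ≤ center E) (hσ : Function.Surjective σ) {g h g' y : G}
    (e : g = ⁅h, g'⁆) (h1 : Commute h y) (h2 : Commute g' y) : LC σ g y := by
  intro X Y hX hY
  obtain ⟨H, rfl⟩ := hσ h
  obtain ⟨G', rfl⟩ := hσ g'
  exact commute_lift_commutator hk (hX.trans e) (hY ▸ h1) (hY ▸ h2)

theorem LC.conj {σ : E →* G} (hσ : Function.Surjective σ) {g g' : G} (h : LC σ g g') (n : G) :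
    LC σ (n * g * n⁻¹) (n * g' * n⁻¹) := by
  intro x y hx hy
  obtain ⟨N, rfl⟩ := hσ n
  have h1 := h (N⁻¹ * x * N) (N⁻¹ * y * N) (by rw [map_mul, map_mul, map_inv, hx]; group)
    (by rw [map_mul, map_mul, map_inv, hy]; group)
  rw [← commutatorElement_eq_one_iff_commute] at h1 ⊢
  rw [show ⁅N⁻¹ * x * N, N⁻¹ * y * N⁆ = N⁻¹ * ⁅x, y⁆ * N by simp [commutatorElement_def, mul_assoc]] at h1
  calc ⁅x, y⁆ = N * (N⁻¹ * ⁅x, y⁆ * N) * N⁻¹ := by group
    _ = 1 := by rw [h1]; group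

theorem LC.of_coprime {σ : E →* G} (hk : σ.ker ≤ center E) {g g' : G} (hc : Commute g g') {m n : ℕ}
    (hg : g ^ m = 1) (hg' : g' ^ n = 1) (hmn : m.Coprime n) : LC σ g g' := by
  rintro x y rfl rfl
  have h1 : ⁅x, y⁆ ^ n = 1 := Schur.Fusion.commutator_pow_eq_one hk hc hg'
  have h2 : ⁅x, y⁆ ^ m = 1 := by
    have h := Schur.Fusion.commutator_pow_eq_one hk hc.symm hg
    rwa [← commutatorElement_inv, inv_pow, inv_eq_one] at h
  have h3 := pow_gcd_eq_one.2 ⟨h2, h1⟩
  rw [hmn, pow_one] at h3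
  exact commutatorElement_eq_one_iff_commute.1 h3

theorem comm_mul_right {x y y' : E} (h : Commute ⁅x, y'⁆ y) : ⁅x, y * y'⁆ = ⁅x, y⁆ * ⁅x, y'⁆ := by
  rw [commutatorElement_mul_right_eq_mul_conj, mul_assoc ⁅x, y⁆ y, ← h.eq, mul_assoc, mul_inv_cancel_right]

theorem comm_mul_left {x x' y : E} (h : Commute ⁅x', y⁆ x) : ⁅x * x', y⁆ = ⁅x', y⁆ * ⁅x, y⁆ := by
  rw [commutatorElement_mul_left_eq_conj_mul, ← h.eq, mul_inv_cancel_right]

/-- A biadditive central pairing on a field invariant under all scalings vanishes. -/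
theorem pairing_eq_one {K : Type*} [Field K] (β : K → K → E) (hc : ∀ t t' d, Commute (β t t') d)
    (add1 : ∀ t t' r, β (t + t') r = β t r * β t' r) (add2 : ∀ r t t', β r (t + t') = β r t * β r t')
    (inv : ∀ s, s ≠ 0 → ∀ t t', β (s * t) (s * t') = β t t')
    (big : ∃ x y : K, x ≠ 0 ∧ x ≠ 1 ∧ y ≠ 0 ∧ y ≠ 1 ∧ x + y ≠ 0 ∧ x + y ≠ 1) : ∀ t t', β t t' = 1 := by
  intro t t'
  have z1 : ∀ a, β 0 a = 1 := fun a => by have := add1 0 0 a; rwa [add_zero, left_eq_mul] at this
  have z2 : ∀ a, β a 0 = 1 := fun a => by have := add2 a 0 0; rwa [add_zero, left_eq_mul] at this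
  have m1 : ∀ a b, β (-a) b = (β a b)⁻¹ := fun a b =>
    eq_inv_of_mul_eq_one_left (by rw [← add1, neg_add_cancel, z1])
  have m2 : ∀ a b, β a (-b) = (β a b)⁻¹ := fun a b =>
    eq_inv_of_mul_eq_one_left (by rw [← add2, neg_add_cancel, z2])
  obtain ⟨x, y, hx0, hx1, hy0, hy1, hxy0, hxy1⟩ := big
  have key : ∀ z : K, z ≠ 0 → z ≠ 1 → β (z * t) t' * β t (z * t') = β t t' := by
    intro z h0 h1
    have h := inv (1 - z) (sub_ne_zero.2 (Ne.symm h1)) t t'
    have hn : β (-(z * t)) (-(z * t')) = β t t' := by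
      rw [← neg_mul, ← neg_mul]; exact inv (-z) (neg_ne_zero.2 h0) t t'
    rw [show (1 - z) * t = t + -(z * t) by ring, show (1 - z) * t' = t' + -(z * t') by ring, add1, add2,
      add2, hn] at h
    rw [m1, m2, mul_assoc, mul_eq_left, inv_mul_eq_one, eq_inv_mul_iff_mul_eq] at h
    exact h
  have k3 := key (x + y) hxy0 hxy1
  rw [add_mul, add_mul, add1, add2, (hc (y * t) t' _).mul_mul_mul_comm, key x hx0 hx1, key y hy0 hy1,
    mul_eq_left] at k3
  exact k3

theorem field_big {K : Type*} [Field K] [Fintype K] (h : 5 ≤ Fintype.card K) :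
    ∃ x y : K, x ≠ 0 ∧ x ≠ 1 ∧ y ≠ 0 ∧ y ≠ 1 ∧ x + y ≠ 0 ∧ x + y ≠ 1 := by
  classical
  obtain ⟨x, hx⟩ := Finset.exists_mem_notMem_of_card_lt_card (s := ({0, 1} : Finset K)) (t := Finset.univ)
    (lt_of_le_of_lt Finset.card_le_two (by rw [Finset.card_univ]; omega))
  obtain ⟨y, hy⟩ := Finset.exists_mem_notMem_of_card_lt_card (s := ({0, 1, -x, 1 - x} : Finset K))
    (t := Finset.univ) (lt_of_le_of_lt Finset.card_le_four (by rw [Finset.card_univ]; omega))
  simp only [Finset.mem_insert, Finset.mem_singleton, not_or] at hx hy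
  refine ⟨x, y, hx.2.1, hx.2.2, hy.2.1, hy.2.2.1, fun e => hy.2.2.2.1 ?_, fun e => hy.2.2.2.2 ?_⟩ <;>
    linear_combination e

/-- Generators with commutators in a central subgroup. -/
theorem commutator_mem_of_gen {Z0 : Subgroup E} {S : Set E}
    (hcent : ∀ z ∈ Z0, ∀ s ∈ S, Commute z s) (h : ∀ x ∈ S, ∀ y ∈ S, ⁅x, y⁆ ∈ Z0) :
    (∀ z ∈ Z0, ∀ x ∈ closure S, Commute z x) ∧ ∀ x ∈ closure S, ∀ y ∈ closure S, ⁅x, y⁆ ∈ Z0 := by
  have hc : ∀ z ∈ Z0, ∀ x ∈ closure S, Commute z x := fun z hz x hx => by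
    induction hx using closure_induction with
    | mem x hx => exact hcent z hz x hx
    | one => exact Commute.one_right z
    | mul x y _ _ ihx ihy => exact ihx.mul_right ihy
    | inv x _ ih => exact ih.inv_right
  refine ⟨hc, ?_⟩
  have inv1 : ∀ x y : E, y ∈ closure S → x ∈ closure S → ⁅x, y⁆ ∈ Z0 → ⁅x⁻¹, y⁆ ∈ Z0 := by
    intro x y _ hx hxy
    have e : ⁅x⁻¹, y⁆ = x⁻¹ * ⁅x, y⁆⁻¹ * x := by simp [commutatorElement_def, mul_assoc]
    rw [e, mul_assoc, (hc _ (inv_mem hxy) x hx).eq, inv_mul_cancel_left]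
    exact inv_mem hxy
  have h1 : ∀ y ∈ S, ∀ x ∈ closure S, ⁅x, y⁆ ∈ Z0 := fun y hy x hx => by
    induction hx using closure_induction with
    | mem x hx => exact h x hx y hy
    | one => rw [commutatorElement_one_left]; exact one_mem _
    | mul a b ha hb iha ihb => rw [comm_mul_left (hc _ ihb a ha)]; exact mul_mem ihb iha
    | inv a ha ih => exact inv1 a y (subset_closure hy) ha ih
  intro x hx y hy
  induction hy using closure_induction with
  | mem y hy => exact h1 y hy x hx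
  | one => rw [commutatorElement_one_right]; exact one_mem _
  | mul a b ha hb iha ihb => rw [comm_mul_right (hc _ ihb a ha)]; exact mul_mem iha ihb
  | inv a ha ih =>
    rw [← commutatorElement_inv]
    refine inv_mem (inv1 a x hx ha ?_)
    rw [← commutatorElement_inv]
    exact inv_mem ih

end Cfsg.Agent.Lib.TwMult
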