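import Mathlib
import Cfsg.Agent.Lib.TwMult.LiftComm
import Cfsg.Agent.Lib.Schur.Fusion

/-!
A unipotent group with a central series of layers parameterised by subfields lifts through every
central extension when the torus separates the non-commuting generators from the layers and the lifts
of each layer commute.
-/

set_option autoImplicit false
set_option linter.unusedSectionVars false

namespace Cfsg.Agent.Lib.TwMult.Sub

open Subgroup
open scoped commutatorElement

universe u v w

/-- A central series with layers parameterised by a field. -/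
structure Layers (G : Type v) [Group G] (K : Type w) [Field K] where
  U : Subgroup G
  H : Subgroup G
  len : ℕ
  S : ℕ → Subgroup G
  S_zero : S 0 = U
  S_len : S len = ⊥
  anti : ∀ j, S (j + 1) ≤ S j
  central : ∀ j < len, ∀ u ∈ U, ∀ v ∈ S j, ⁅u, v⁆ ∈ S (j + 1)
  H_S : ∀ j ≤ len, ∀ h ∈ H, ∀ v ∈ S j, h * v * h⁻¹ ∈ S j
  H_comm : ∀ a ∈ H, ∀ b ∈ H, a * b = b * a
  m : ℕ
  X : Fin m → Subgroup G
  X_le : ∀ i, X i ≤ U
  gen : U ≤ ⨆ i, X i
  Fd : ℕ → Subfield K
  φ : ∀ j, Fd j → G
  φ_mem : ∀ j < len, ∀ t, φ j t ∈ S j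
  φ_add : ∀ j < len, ∀ t t', (φ j (t + t'))⁻¹ * (φ j t * φ j t') ∈ S (j + 1)
  φ_surj : ∀ j < len, ∀ x ∈ S j, ∃ t, (φ j t)⁻¹ * x ∈ S (j + 1)
  φ_inj : ∀ j < len, ∀ t, φ j t ∈ S (j + 1) → t = 0
  scale : ∀ j < len, ∀ s : Fd j, s ≠ 0 → ∃ h ∈ H, ∀ t, (φ j (s * t))⁻¹ * (h * φ j t * h⁻¹) ∈ S (j + 1)
  big : ∀ j < len, ∃ s : Fd j, s ≠ 0 ∧ s ≠ 1

namespace Layers

variable {G : Type v} [Group G] {K : Type w} [Field K] (D : Layers G K)

/-- What is needed of the lifts for the pair of a generating subgroup and a layer. -/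
def Good (i : Fin D.m) (j : ℕ) : Prop :=
  (∃ h ∈ D.H, (∀ x ∈ D.S j, ⁅h, x⁆ ∈ D.S (j + 1)) ∧ ∀ x ∈ D.X i, ∃ x' ∈ D.X i, x = ⁅h, x'⁆) ∨ D.X i ≤ D.S j

/-- The lifts of a generating subgroup commute with those of representatives of a layer. -/
def Special {E : Type u} [Group E] (σ : E →* G) (i : Fin D.m) (j : ℕ) : Prop :=
  ∀ x y : E, σ x ∈ D.X i → (∃ t, σ y = D.φ j t) → Commute x y

theorem S_le : ∀ j, D.S j ≤ D.U
  | 0 => D.S_zero.le
  | j + 1 => (D.anti j).trans (S_le j)

theorem φ_zero {j : ℕ} (hj : j < D.len) : D.φ j 0 ∈ D.S (j + 1) := by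
  have h := D.φ_add j hj 0 0
  rwa [add_zero, inv_mul_cancel_left] at h

theorem φ_neg {j : ℕ} (hj : j < D.len) (t : D.Fd j) : D.φ j t * D.φ j (-t) ∈ D.S (j + 1) := by
  have h := D.φ_add j hj t (-t)
  rw [add_neg_cancel] at h
  have := mul_mem (D.φ_zero hj) h
  rwa [mul_inv_cancel_left] at this

/-- A central extension splits over the group of a torus-separated series. -/
theorem exists_complement {E : Type u} [Group E] (σ : E →* G) (hk : σ.ker ≤ center E)
    (hσ : Function.Surjective σ) (hgood : ∀ j < D.len, ∀ i, D.Good i j ∨ D.Special σ i j)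
    (hlc : ∀ j < D.len, ∀ t t' : D.Fd j, LC σ (D.φ j t) (D.φ j t')) :
    ∃ Y : Subgroup E, Y.map σ = D.U ∧ Y ⊓ σ.ker = ⊥ := by
  suffices main : ∀ k j, j + k = D.len → ∃ Y : Subgroup E, Y.map σ = D.S j ∧ Y ⊓ σ.ker = ⊥ ∧
      (∀ e : E, σ e ∈ D.U ∨ σ e ∈ D.H → ∀ y ∈ Y, e * y * e⁻¹ ∈ Y) by
    obtain ⟨Y, h1, h2, -⟩ := main D.len 0 (zero_add _)
    exact ⟨Y, h1.trans D.S_zero, h2⟩
  intro k
  induction k with
  | zero =>
    rintro j rfl
    refine ⟨⊥, ?_, by simp, fun e _ y hy => ?_⟩
    · rw [Subgroup.map_bot]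
      exact D.S_len.symm
    · rw [mem_bot.1 hy]; simp
  | succ k ih =>
    intro j hjk
    have hj : j < D.len := by omega
    obtain ⟨N, hN, hNk, hNc⟩ := ih (j + 1) (by omega)
    set P : Subgroup E := (D.U ⊔ D.H).comap σ with hP
    have hPU : ∀ {e : E}, σ e ∈ D.U → e ∈ P := fun h => mem_comap.2 (mem_sup_left h)
    have hPH : ∀ {e : E}, σ e ∈ D.H → e ∈ P := fun h => mem_comap.2 (mem_sup_right h)
    have hPS : ∀ {i : ℕ} {e : E}, σ e ∈ D.S i → e ∈ P := fun {i} {e} h => hPU (D.S_le i h)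
    have hPnorm : ∀ p ∈ P, ∀ y ∈ N, p * y * p⁻¹ ∈ N := by
      have hgen : P ≤ normalizer (N : Set E) := by
        have hle : D.U ⊔ D.H ≤ (normalizer (N : Set E)).map σ := by
          have key : ∀ g : G, (g ∈ D.U ∨ g ∈ D.H) → g ∈ (normalizer (N : Set E)).map σ := by
            intro g hg
            obtain ⟨e, rfl⟩ := hσ g
            refine mem_map_of_mem σ (mem_normalizer_iff.2 fun y => ⟨hNc e hg y, fun hy => ?_⟩)
            have := hNc e⁻¹ (by simpa using hg) _ hy
            rwa [show e⁻¹ * (e * y * e⁻¹) * e⁻¹⁻¹ = y by group] at this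
          exact sup_le (fun g hg => key g (Or.inl hg)) (fun g hg => key g (Or.inr hg))
        intro p hp
        obtain ⟨r, hr, e⟩ := hle (mem_comap.1 hp)
        have hz : r⁻¹ * p ∈ σ.ker := by simp [MonoidHom.mem_ker, e]
        rw [← mul_inv_cancel_left r p]
        refine mul_mem hr (mem_normalizer_iff.2 fun y => ?_)
        rw [← mem_center_iff.1 (hk hz) y, mul_inv_cancel_right]
      exact fun p hp y hy => (mem_normalizer_iff.1 (hgen hp) y).1 hy
    have hNP : N ≤ P := fun y hy => hPS (hN ▸ mem_map_of_mem σ hy)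
    haveI : (N.subgroupOf P).Normal := ⟨fun n hn g => hPnorm g.1 g.2 n.1 hn⟩
    let q : ↥P →* ↥P ⧸ N.subgroupOf P := QuotientGroup.mk' _
    have hq : ∀ a : ↥P, q a = 1 ↔ (a : E) ∈ N := fun a =>
      (QuotientGroup.eq_one_iff a).trans mem_subgroupOf
    have hkc : ∀ a : ↥P, (a : E) ∈ σ.ker → ∀ b, Commute (q a) b := fun a ha b => by
      obtain ⟨b', rfl⟩ := QuotientGroup.mk'_surjective (N.subgroupOf P) b
      show q a * q b' = q b' * q a
      rw [← map_mul, ← map_mul]
      exact congrArg q (Subtype.ext (mem_center_iff.1 (hk ha) b').symm)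
    -- elements of the next term are central modulo `N`
    have hnext : ∀ a : ↥P, σ a ∈ D.S (j + 1) → ∀ b, Commute (q a) b := by
      intro a ha b
      rw [← hN] at ha
      obtain ⟨r, hr, e⟩ := ha
      have hz : (r⁻¹ * (a : E)) ∈ σ.ker := by simp [MonoidHom.mem_ker, e]
      have e2 : q a = q ⟨r, hNP hr⟩ * q ⟨r⁻¹ * a, mul_mem (inv_mem (hNP hr)) a.2⟩ := by
        rw [← map_mul]; exact congrArg q (Subtype.ext (mul_inv_cancel_left r (a : E)).symm)
      rw [e2, (hq _).2 hr, one_mul]
      exact hkc _ hz b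
    have hcomm : ∀ a b : ↥P, ⁅σ (a : E), σ (b : E)⁆ ∈ D.S (j + 1) → ∀ c, Commute ⁅q a, q b⁆ c := by
      intro a b h c
      rw [← map_commutatorElement]
      exact hnext _ (by simpa [commutatorElement_def] using h) c
    have hcongr : ∀ a b : ↥P, (σ (a : E))⁻¹ * σ (b : E) ∈ D.S (j + 1) →
        ∃ c, (∀ d, Commute c d) ∧ q b = q a * c := fun a b h =>
      ⟨q (a⁻¹ * b), hnext _ (by simpa using h), by rw [← map_mul, mul_inv_cancel_left]⟩
    -- lifts of the representatives
    choose φt hφt using fun t => hσ (D.φ j t)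
    let Φ : D.Fd j → ↥P := fun t => ⟨φt t, hPS (i := j) ((hφt t).symm ▸ D.φ_mem j hj t)⟩
    have hΦ : ∀ a : ↥P, σ (a : E) ∈ D.S j → ∃ t c, (∀ d, Commute c d) ∧ q a = q (Φ t) * c := by
      intro a ha
      obtain ⟨t, ht⟩ := D.φ_surj j hj _ ha
      obtain ⟨c, hc, e⟩ := hcongr (Φ t) a (by simpa [Φ, hφt] using ht)
      exact ⟨t, c, hc, e⟩
    -- the layer commutes with itself
    have hself : ∀ t t' : D.Fd j, Commute (q (Φ t)) (q (Φ t')) := fun t t' => by
      rw [commute_iff_eq, ← map_mul, ← map_mul]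
      exact congrArg q (Subtype.ext (hlc j hj t t' (φt t) (φt t') (hφt t) (hφt t')).eq)
    -- all generators commute with the layer
    have hlayer : ∀ a b : ↥P, σ (a : E) ∈ D.U → σ (b : E) ∈ D.S j → Commute (q a) (q b) := by
      intro a b ha hb
      obtain ⟨t, c, hc, eb⟩ := hΦ b hb
      rw [eb]
      refine Commute.mul_right ?_ (hc _).symm
      let Z : Subgroup ↥P := (centralizer {q (Φ t)}).comap q
      have hgen : (D.U.comap σ) ≤ Z.map P.subtype := by
        have hker : σ.ker ≤ Z.map P.subtype := fun z hz =>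
          ⟨⟨z, mem_comap.2 (by rw [MonoidHom.mem_ker.1 hz]; exact one_mem _)⟩, mem_comap.2
            (mem_centralizer_singleton_iff.2 (hkc _ hz _).eq), rfl⟩
        have hX : ∀ i, D.X i ≤ (Z.map P.subtype).map σ := by
          intro i g hg
          obtain ⟨e, rfl⟩ := hσ g
          have heP : e ∈ P := hPU (D.X_le i hg)
          refine mem_map_of_mem σ ⟨⟨e, heP⟩, mem_comap.2 (mem_centralizer_singleton_iff.2 ?_), rfl⟩
          rcases hgood j hj i with (⟨h, hh, hfix, hdec⟩ | hXS) | hsp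
          · obtain ⟨x', hx', ex⟩ := hdec _ hg
            obtain ⟨eh, rfl⟩ := hσ h
            obtain ⟨ex', rfl⟩ := hσ x'
            let a' : ↥P := ⟨eh, hPH hh⟩
            let b' : ↥P := ⟨ex', hPU (D.X_le i hx')⟩
            obtain ⟨c', hc', ee⟩ := hcongr ⁅a', b'⁆ ⟨e, heP⟩ (by
              show (σ (⁅eh, ex'⁆))⁻¹ * σ e ∈ _
              rw [map_commutatorElement, ← ex, inv_mul_cancel]; exact one_mem _)
            have hz1 := hcomm a' (Φ t) (by simpa [a', Φ, hφt] using hfix _ (D.φ_mem j hj t))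
            have hz2 := hcomm b' (Φ t) (by
              simpa [b', Φ, hφt] using D.central j hj _ (D.X_le i hx') _ (D.φ_mem j hj t))
            rw [ee]
            refine (Commute.mul_left ?_ (hc' _)).eq
            rw [map_commutatorElement]
            set A := q a'
            set B := q b'
            set V := q (Φ t)
            show ⁅A, B⁆ * V = V * ⁅A, B⁆
            set z1 := ⁅A, V⁆ with e1
            set z2 := ⁅B, V⁆ with e2
            have hA : A * V = z1 * (V * A) := by simp [e1, commutatorElement_def, mul_assoc]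
            have hB : B * V = z2 * (V * B) := by simp [e2, commutatorElement_def, mul_assoc]
            have hA' : A⁻¹ * V = z1⁻¹ * (V * A⁻¹) := by
              rw [eq_inv_mul_iff_mul_eq, ← mul_assoc, (hz1 A⁻¹).eq, mul_assoc, inv_mul_eq_iff_eq_mul,
                ← mul_assoc A V, hA, mul_assoc z1, mul_assoc V, mul_inv_cancel, mul_one]
            have hB' : B⁻¹ * V = z2⁻¹ * (V * B⁻¹) := by
              rw [eq_inv_mul_iff_mul_eq, ← mul_assoc, (hz2 B⁻¹).eq, mul_assoc, inv_mul_eq_iff_eq_mul,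
                ← mul_assoc B V, hB, mul_assoc z2, mul_assoc V, mul_inv_cancel, mul_one]
            have hzi1 : ∀ d, Commute z1⁻¹ d := fun d => (hz1 d).inv_left
            have hzi2 : ∀ d, Commute z2⁻¹ d := fun d => (hz2 d).inv_left
            calc ⁅A, B⁆ * V = A * B * A⁻¹ * (B⁻¹ * V) := by rw [commutatorElement_def]; simp only [mul_assoc]
              _ = z2⁻¹ * (A * B * (A⁻¹ * V) * B⁻¹) := by
                rw [hB', ← mul_assoc, ← (hzi2 (A * B * A⁻¹)).eq]; simp only [mul_assoc]
              _ = z2⁻¹ * z1⁻¹ * (A * (B * V) * A⁻¹ * B⁻¹) := by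
                rw [hA', ← mul_assoc (A * B), ← (hzi1 (A * B)).eq]; simp only [mul_assoc]
              _ = z2⁻¹ * z1⁻¹ * z2 * (A * V * B * A⁻¹ * B⁻¹) := by
                rw [hB, ← mul_assoc A, ← (hz2 A).eq]; simp only [mul_assoc]
              _ = z2⁻¹ * z1⁻¹ * z2 * z1 * (V * ⁅A, B⁆) := by
                rw [hA, commutatorElement_def]; simp only [mul_assoc]
              _ = V * ⁅A, B⁆ := by
                rw [mul_assoc z2⁻¹ z1⁻¹ z2, (hzi1 z2).eq, inv_mul_cancel_left, inv_mul_cancel, one_mul]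
          · obtain ⟨t', c', hc', ee⟩ := hΦ ⟨e, heP⟩ (hXS hg)
            rw [ee]
            exact ((hself t' t).mul_left (hc' _)).eq
          · rw [← map_mul, ← map_mul]
            exact congrArg q (Subtype.ext (hsp e (φt t) hg ⟨t, hφt t⟩).eq)
        have h1 : D.U ≤ (Z.map P.subtype).map σ := D.gen.trans (iSup_le hX)
        intro e he
        obtain ⟨r, hr, er⟩ := h1 (mem_comap.1 he)
        rw [← mul_inv_cancel_left r e]
        exact mul_mem hr (hker (by simp [MonoidHom.mem_ker, er]))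
      obtain ⟨a', ha', e⟩ := hgen (mem_comap.2 ha)
      rw [show a = a' from Subtype.ext e.symm]
      exact mem_centralizer_singleton_iff.1 (mem_comap.1 ha')
    -- the complement
    obtain ⟨s0, hs0, hs1⟩ := D.big j hj
    obtain ⟨h0, hh0, hact⟩ := D.scale j hj s0 hs0
    obtain ⟨eh, rfl⟩ := hσ h0
    let g0 : ↥P := ⟨eh, hPH hh0⟩
    have hS : ∀ {h : ↥P}, σ (h : E) ∈ D.H → ∀ {m : ↥P}, σ (m : E) ∈ D.S j → σ ((⁅h, m⁆ : ↥P) : E) ∈ D.S j :=
      fun {h} hh {m} hm => by
        have := mul_mem (D.H_S j hj.le _ hh _ hm) (inv_mem hm)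
        simpa [commutatorElement_def] using this
    let Yq : Subgroup (↥P ⧸ N.subgroupOf P) :=
      { carrier := {x | ∃ m : ↥P, σ (m : E) ∈ D.S j ∧ x = ⁅q g0, q m⁆}
        one_mem' := ⟨1, by simp, by simp⟩
        mul_mem' := by
          rintro _ _ ⟨m, hm, rfl⟩ ⟨m', hm', rfl⟩
          refine ⟨m * m', by simpa using mul_mem hm hm', ?_⟩
          have h : Commute (q m) ⁅q g0, q m'⁆ :=
            map_commutatorElement q g0 m' ▸ hlayer m _ (D.S_le j hm) (hS (h := g0) hh0 hm')
          rw [map_mul, commutatorElement_mul_right_eq_mul_conj, mul_assoc (⁅q g0, q m⁆) (q m), h.eq, mul_assoc,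
            mul_inv_cancel_right]
        inv_mem' := by
          rintro _ ⟨m, hm, rfl⟩
          refine ⟨m⁻¹, by simpa using inv_mem hm, ?_⟩
          have h : Commute (q m⁻¹) ⁅q g0, q m⁆ :=
            map_commutatorElement q g0 m ▸ hlayer m⁻¹ _ (by simpa using inv_mem (D.S_le j hm)) (hS (h := g0) hh0 hm)
          apply inv_eq_of_mul_eq_one_left
          have e : ⁅q g0, q (m⁻¹ * m)⁆ = ⁅q g0, q m⁻¹⁆ * ⁅q g0, q m⁆ := by
            rw [map_mul, commutatorElement_mul_right_eq_mul_conj, mul_assoc (⁅q g0, q m⁻¹⁆) (q m⁻¹),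
              h.eq, mul_assoc, mul_inv_cancel_right]
          rw [← e, inv_mul_cancel, map_one, commutatorElement_one_right] }
    have hYq : ∀ x : ↥P, q x ∈ Yq ↔ ∃ m : ↥P, σ (m : E) ∈ D.S j ∧ q x = ⁅q g0, q m⁆ := fun x => Iff.rfl
    have hσY : ∀ x : ↥P, q x ∈ Yq → σ (x : E) ∈ D.S j := by
      intro x hx
      obtain ⟨m, hm, e⟩ := (hYq x).1 hx
      rw [← map_commutatorElement, QuotientGroup.mk'_eq_mk'] at e
      obtain ⟨z, hz, ez⟩ := e
      have h1 : σ (z : E) ∈ D.S j := D.anti j (hN ▸ mem_map_of_mem σ hz)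
      have h2 := mul_mem (hS (h := g0) hh0 hm) (inv_mem h1)
      have : (x : E) = ((⁅g0, m⁆ : ↥P) : E) * (z : E)⁻¹ := by
        rw [← ez]; simp
      rwa [this, map_mul, map_inv]
    refine ⟨(Yq.comap q).map P.subtype, ?_, ?_, ?_⟩
    · refine le_antisymm ?_ fun g hg => ?_
      · rintro _ ⟨_, ⟨x, hx, rfl⟩, rfl⟩
        exact hσY x hx
      · obtain ⟨t, ht⟩ := D.φ_surj j hj g hg
        have hne : s0 - 1 ≠ 0 := sub_ne_zero.2 hs1
        set t' := t / (s0 - 1)
        set x : ↥P := ⁅g0, Φ t'⁆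
        have hx : q x ∈ Yq := ⟨Φ t', by simp [Φ, hφt, D.φ_mem j hj], map_commutatorElement q _ _⟩
        have hxm : σ (x : E) ∈ (((Yq.comap q).map P.subtype).map σ) :=
          mem_map_of_mem σ (mem_map_of_mem (K := Yq.comap q) P.subtype (mem_comap.2 hx))
        have hmemN : ∀ y ∈ D.S (j + 1), y ∈ ((Yq.comap q).map P.subtype).map σ := by
          intro y hy
          rw [← hN] at hy
          obtain ⟨r, hr, rfl⟩ := hy
          exact mem_map_of_mem σ ⟨⟨r, hNP hr⟩, by
            show q _ ∈ Yq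
            rw [(hq ⟨r, hNP hr⟩).2 hr]; exact one_mem _, rfl⟩
        have e1 := hact t'
        have hcalc : (σ (x : E))⁻¹ * g ∈ D.S (j + 1) := by
          have e2 := D.φ_add j hj t t'
          have et : t + t' = s0 * t' := by
            have : t = (s0 - 1) * t' := by simp [t', mul_div_cancel₀ _ hne]
            rw [this]; ring
          rw [et] at e2
          set A := σ eh * D.φ j t' * (σ eh)⁻¹
          set B := D.φ j t'
          set Cc := D.φ j (s0 * t')
          have hσx : σ (x : E) = A * B⁻¹ := by simp [x, g0, Φ, hφt, A, B, commutatorElement_def]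
          have hB : B ∈ D.U := D.S_le j (D.φ_mem j hj t')
          rw [hσx, mul_inv_rev, inv_inv]
          have hnorm : ∀ w ∈ D.S (j + 1), B * w * B⁻¹ ∈ D.S (j + 1) := fun w hw => by
            by_cases hj1 : j + 1 < D.len
            · have := mul_mem (D.anti _ (D.central (j + 1) hj1 B hB w hw)) hw
              simpa [commutatorElement_def] using this
            · have hlen : D.len = j + 1 := by omega
              rw [← hlen, D.S_len, mem_bot] at hw
              simp [hw]
          have e3 : A⁻¹ * (D.φ j t * B) ∈ D.S (j + 1) := by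
            have := mul_mem (inv_mem e1) e2
            convert this using 1; group
          have e4 := mul_mem (hnorm _ e3) ht
          convert e4 using 1; group
        rw [← mul_inv_cancel_left (σ (x : E)) g]
        exact mul_mem hxm (hmemN _ hcalc)
    · rw [eq_bot_iff]
      rintro _ ⟨⟨x, hx, rfl⟩, hx1⟩
      obtain ⟨m, hm, e⟩ := (hYq x).1 hx
      obtain ⟨t, c, hc, em⟩ := hΦ m hm
      rw [em, commutatorElement_mul_right_eq_mul_conj, commutatorElement_eq_one_iff_commute.2 (hc (q g0)).symm,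
        mul_one, mul_inv_cancel_right, ← map_commutatorElement] at e
      rw [QuotientGroup.mk'_eq_mk'] at e
      obtain ⟨z, hz, ez⟩ := e
      have hσz : σ ((⁅g0, Φ t⁆ : ↥P) : E) ∈ D.S (j + 1) := by
        rw [← ez, Subgroup.coe_mul, map_mul, show σ (x : E) = 1 from hx1, one_mul]
        exact hN ▸ mem_map_of_mem σ hz
      have e1 := hact t
      have hst : D.φ j (s0 * t) ∈ D.S (j + 1) → t = 0 := fun h =>
        (mul_eq_zero.1 (D.φ_inj j hj _ h)).resolve_left hs0
      have hcom : σ eh * D.φ j t * (σ eh)⁻¹ * (D.φ j t)⁻¹ ∈ D.S (j + 1) := by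
        simpa [g0, Φ, hφt, commutatorElement_def] using hσz
      have ht0 : t = 0 := by
        by_contra htne
        have h3 : (D.φ j (s0 * t))⁻¹ * ((σ eh * D.φ j t * (σ eh)⁻¹ * (D.φ j t)⁻¹) * D.φ j t) ∈ D.S (j + 1) := by
          convert e1 using 1; group
        have h4 := D.φ_add j hj t ((s0 - 1) * t)
        rw [show t + (s0 - 1) * t = s0 * t by ring] at h4
        have hU : D.φ j t ∈ D.U := D.S_le j (D.φ_mem j hj t)
        set Sx := D.S (j + 1)
        have hnorm : ∀ g ∈ D.U, ∀ w ∈ Sx, g * w * g⁻¹ ∈ Sx := fun g hg w hw => by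
          by_cases hj1 : j + 1 < D.len
          · have := mul_mem (D.anti _ (D.central (j + 1) hj1 g hg w hw)) hw
            simpa [commutatorElement_def] using this
          · have hlen : D.len = j + 1 := by omega
            have hw' := hw
            simp only [Sx, ← hlen, D.S_len, mem_bot] at hw'
            subst hw'
            simp
        have h5 : (D.φ j t)⁻¹ * (σ eh * D.φ j t * (σ eh)⁻¹ * (D.φ j t)⁻¹) * D.φ j t ∈ Sx := by
          have := hnorm _ (inv_mem hU) _ hcom
          simpa using this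
        have h6 : (D.φ j (s0 * t))⁻¹ * D.φ j t ∈ Sx := by
          have := mul_mem h3 (inv_mem h5)
          convert this using 1; group
        have h7 : D.φ j ((s0 - 1) * t) ∈ Sx := by
          have := mul_mem (inv_mem h6) h4
          convert this using 1; group
        exact htne ((mul_eq_zero.1 (D.φ_inj j hj _ h7)).resolve_left (sub_ne_zero.2 hs1))
      subst ht0
      have hN0 : ((⁅g0, Φ 0⁆ : ↥P) : E) ∈ N := by
        have hm0 : σ (φt 0) ∈ D.S (j + 1) := (hφt 0).symm ▸ D.φ_zero hj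
        have h := commutatorElement_eq_one_iff_commute.2 (hnext (Φ 0) hm0 (q g0)).symm
        rw [← map_commutatorElement] at h
        exact (hq _).1 h
      rw [← ez] at hN0
      have hxN : (x : E) ∈ N := by
        have := mul_mem hN0 (inv_mem (mem_subgroupOf.1 hz))
        simpa using this
      rw [mem_bot]
      have : (x : E) ∈ N ⊓ σ.ker := mem_inf.2 ⟨hxN, hx1⟩
      rw [hNk, mem_bot] at this
      exact this
    · rintro e he _ ⟨x, hx, rfl⟩
      have hxS := hσY x hx
      rcases he with he | he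
      · refine ⟨⟨e, hPU he⟩ * x * ⟨e, hPU he⟩⁻¹, ?_, rfl⟩
        show q _ ∈ Yq
        rw [map_mul, map_mul, map_inv, (hlayer ⟨e, hPU he⟩ x he hxS).eq, mul_inv_cancel_right]
        exact hx
      · let g : ↥P := ⟨e, hPH he⟩
        refine ⟨g * x * g⁻¹, ?_, rfl⟩
        show q _ ∈ Yq
        obtain ⟨m, hm, e'⟩ := (hYq x).1 hx
        refine ⟨g * m * g⁻¹, by simpa [g] using D.H_S j hj.le _ he _ hm, ?_⟩
        rw [map_mul, map_mul, map_inv, e', conjugate_commutatorElement, ← map_inv, ← map_mul, ← map_mul,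
          ← map_mul, ← map_mul]
        obtain ⟨c, hc, ec⟩ := hcongr g0 (g * g0 * g⁻¹) (by
          simp [g, g0, D.H_comm _ he _ hh0])
        rw [ec, commutatorElement_mul_left_eq_conj_mul, commutatorElement_eq_one_iff_commute.2 (hc _)]
        group

end Layers

end Cfsg.Agent.Lib.TwMult.Sub
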