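import Cfsg.Agent.Lib.TwMult.E6Pairs
import Cfsg.Agent.Lib.TwMult.E6Torus
import Cfsg.Agent.Lib.TwMult.E6Series
import Cfsg.Agent.Lib.TwMult.LayersSub

/-!
The group U¹ of ²E₆(q), `q ≠ 2`, lifts through every central extension of the twisted group.
-/

set_option autoImplicit false
set_option maxRecDepth 100000
set_option linter.unusedSectionVars false

namespace Cfsg.Agent.Lib.TwMult.E6

open Cfsg.Lie
open Cfsg.Agent.Lib.ChevStructure Cfsg.Agent.Lib.LieTwisted Cfsg.Agent.Lib.LieTwisted.Twist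
open Cfsg.Agent.Lib.LieTwisted.Twist.E6 (C)
open scoped MatrixGroups commutatorElement

local notation "π" => Frob.rootPerm Twist.E6.g

universe u

variable {K : Type u} [Field K]

/-- The fixed field. -/
def fixF (φ : K ≃+* K) : Subfield K := RingHom.eqLocusField (φ : K →+* K) (RingHom.id K)

theorem mem_fixF {φ : K ≃+* K} {t : K} : t ∈ fixF φ ↔ φ t = t := Iff.rfl

/-- The field of parameters of a layer. -/
def FdL (φ : K ≃+* K) (j : ℕ) : Subfield K := if π (rp j) = rp j then fixF φ else ⊤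

theorem valid_Fd {φ : K ≃+* K} {j : ℕ} (t : FdL φ j) : valid φ (rp j) (t : K) := fun h => by
  have ht : (t : K) ∈ fixF φ := by
    have := t.2
    simp only [FdL, if_pos h] at this
    exact this
  exact mem_fixF.1 ht

variable [Fintype K] {q : ℕ} {φ : K ≃+* K} (F : Frob.Facts K q 2 φ) (hq1 : 1 < q)
  (hK : Fintype.card K = q ^ 2)

local notation "TT" => Orth.tw (Twist.E6.orth F hq1 hK)

theorem ex_co2 (φ : K ≃+* K) (j : ℕ) (t : K) :
    ex φ (rp j) t = co2 j t (if π (rp j) = rp j then 0 else (sg (rp j) : K) * φ t) := by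
  by_cases h : π (rp j) = rp j
  · rw [ex_fixed h, if_pos h, co2, C.X_zero, mul_one]
  · rw [ex_moved h, if_neg h, co2]

theorem ex_mem_SR {j : ℕ} (hj : j < 24) (t : K) : ex φ (rp j) t ∈ C.US K (SR j) := by
  rw [ex_co2]; exact co2_mem hj _ _

theorem Rg_le {j : ℕ} (hj : j < 24) : Rg F hq1 hK (rp j) ≤ uS (TT) (SR j) := by
  rintro g ⟨t, -, e⟩
  exact (mem_uS (TT)).2 (e ▸ ex_mem_SR hj t)

include F in
theorem exists_fixed_unit (h2 : 2 < q) : ∃ w : Kˣ, φ (w : K) = w ∧ w ≠ 1 := by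
  classical
  by_contra hn
  push Not at hn
  have hle : Nat.card {t : K // φ t = t} ≤ 2 := by
    let f : {t : K // φ t = t} → Bool := fun t => decide (t.1 = 0)
    have hf : Function.Injective f := by
      intro a b h
      refine Subtype.ext ?_
      simp only [f, decide_eq_decide] at h
      by_cases ha : a.1 = 0
      · rw [ha, h.1 ha]
      · have hb : b.1 ≠ 0 := fun hb => ha (h.2 hb)
        have h1 := congrArg Units.val (hn (Units.mk0 a.1 ha) a.2)
        have h2 := congrArg Units.val (hn (Units.mk0 b.1 hb) b.2)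
        simp only [Units.val_mk0, Units.val_one] at h1 h2
        rw [h1, h2]
    simpa using Nat.card_le_card_of_injective f hf
  rw [F.card_fix] at hle
  omega

theorem τ_SR {j : ℕ} {g : GL chevE6.Idx K} (hg : g ∈ C.US K (SR j)) : (TT).τ g ∈ C.US K (SR j) :=
  (TT).τ_US (S' := SR j) (fun r hr => ⟨(π_layer r hr.1).1, by
    show j ≤ pidx (π r)
    rw [(π_layer r hr.1).2]; exact hr.2⟩) hg

theorem surj_layer {j : ℕ} (hj : j < 24) {g : ↥(TT).W} (hg : g ∈ uS (TT) (SR j)) :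
    ∃ t : FdL φ j, (el F hq1 hK (valid_Fd t))⁻¹ * g ∈ uS (TT) (SR (j + 1)) := by
  obtain ⟨a0, b0, h0⟩ := exists_coord hj ((mem_uS (TT)).1 hg)
  obtain ⟨a, b, hb, h⟩ : ∃ a b, (π (rp j) = rp j → b = 0) ∧
      (co2 j a b)⁻¹ * (g : GL chevE6.Idx K) ∈ C.US K (SR (j + 1)) := by
    by_cases hf : π (rp j) = rp j
    · refine ⟨a0 + b0, 0, fun _ => rfl, ?_⟩
      rwa [show co2 j (a0 + b0) 0 = co2 j a0 b0 by simp only [co2, hf, C.X_zero, mul_one, C.X_add]]
    · exact ⟨a0, b0, fun h => absurd h hf, h0⟩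
  have hco : co2 j a b ∈ C.US K C.Pos := C.US_mono K (SR_pos j) (co2_mem hj a b)
  have hτ := τ_SR F hq1 hK h
  rw [(TT).τ_mul _ (inv_mem (C.US_le_group _ hco)) _ ((TT).W_le g.2), (TT).τ_inv (C.US_le_group _ hco),
    (TT).W_fix _ g.2] at hτ
  have h3 := mul_mem h (inv_mem hτ)
  rw [show (co2 j a b)⁻¹ * (g : GL chevE6.Idx K) * (((TT).τ (co2 j a b))⁻¹ * (g : GL chevE6.Idx K))⁻¹ =
    (co2 j a b)⁻¹ * (TT).τ (co2 j a b) by group] at h3
  by_cases hf : π (rp j) = rp j
  · have e : (TT).τ (co2 j a b) = co2 j (φ a) 0 := by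
      rw [hb hf, co2, C.X_zero, mul_one, Θ_X F hq1 hK, sg_fixed _ hf, Int.cast_one, one_mul, hf, co2, C.X_zero,
        mul_one]
    rw [e, hb hf, co2_inv, co2_mul] at h3
    obtain ⟨h4, -⟩ := coord_eq_zero hj (fun _ => by simp) h3
    have hfix : φ a = a := by linear_combination h4
    refine ⟨⟨a, by simp only [FdL, if_pos hf]; exact mem_fixF.2 hfix⟩, (mem_uS (TT)).2 ?_⟩
    show (ex φ (rp j) a)⁻¹ * (g : GL chevE6.Idx K) ∈ _
    rwa [ex_co2, if_pos hf, ← hb hf]
  · have e : (TT).τ (co2 j a b) = co2 j ((sg (π (rp j)) : K) * φ b) ((sg (rp j) : K) * φ a) := by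
      rw [co2, (TT).τ_mul _ (C.X_mem_group _ a) _ (C.X_mem_group _ b), Θ_X F hq1 hK, Θ_X F hq1 hK,
        (sg_pair (rp j)).2]
      exact (cm_comm (orbit_cm (rp j)) _ _).eq.symm
    rw [e, co2_inv, co2_mul] at h3
    obtain ⟨-, h4⟩ := coord_eq_zero hj (fun h => absurd h hf) h3
    refine ⟨⟨a, by simp only [FdL, if_neg hf]; trivial⟩, (mem_uS (TT)).2 ?_⟩
    show (ex φ (rp j) a)⁻¹ * (g : GL chevE6.Idx K) ∈ _
    rwa [ex_co2, if_neg hf, show (sg (rp j) : K) * φ a = b by linear_combination h4]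

theorem scale_layer {j : ℕ} (hj : j < 24) {s : FdL φ j} (hs : s ≠ 0) : ∃ h ∈ tor (TT), ∀ t : FdL φ j,
    h * el F hq1 hK (valid_Fd t) * h⁻¹ = el F hq1 hK (valid_Fd (s * t)) := by
  obtain ⟨h1, h2⟩ := sc_ok ⟨j, hj⟩
  simp only at h1 h2
  have hs' : (s : K) ≠ 0 := fun h => hs (Subtype.ext h)
  set u : Kˣ := Units.mk0 (s : K) hs'
  by_cases hf : π (rp j) = rp j
  · rw [if_pos hf] at h2
    have hu : φ (u : K) = u := valid_Fd s hf
    refine ⟨tw_tor F hq1 hK (tau_cFix F hq1 hK h2 hu), tw_tor_mem F hq1 hK _, fun t => Subtype.ext ?_⟩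
    show C.HT K (cFix (scRoot j) u) * ex φ (rp j) t * (C.HT K (cFix (scRoot j) u))⁻¹ = ex φ (rp j) (s * t : K)
    rw [tor_conj_ex F hq1 hK (tau_cFix F hq1 hK h2 hu) _ (fun h => absurd hf h), chA_cFix, h1, zpow_one]
    rfl
  · rw [if_neg hf] at h2
    refine ⟨tw_tor F hq1 hK (tau_cMov F hq1 hK (scRoot j) u), tw_tor_mem F hq1 hK _, fun t => Subtype.ext ?_⟩
    show C.HT K (cMov φ (scRoot j) u) * ex φ (rp j) t * (C.HT K (cMov φ (scRoot j) u))⁻¹ = ex φ (rp j) (s * t : K)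
    rw [tor_conj_ex F hq1 hK (tau_cMov F hq1 hK (scRoot j) u) _ (fun _ => chA_cMov_pi F _ _ u), chA_cMov, h1,
      h2.2, zpow_one, zpow_zero, mul_one]
    rfl

/-- A central series of U¹ with one orbit in each layer. -/
noncomputable def layers (h2 : 2 < q) : Sub.Layers ↥(TT).W K where
  U := uS (TT) C.Pos
  H := tor (TT)
  len := 24
  S j := uS (TT) (SR j)
  S_zero := by rw [SR_zero]
  S_len := by
    have he : SR 24 = ∅ := Set.eq_empty_iff_forall_notMem.2 fun r hr => by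
      have := pidx_lt r; have := hr.2; omega
    rw [eq_bot_iff]
    intro g hg
    rw [he, uS, Core.US] at hg
    exact Subgroup.mem_bot.2 (Subtype.ext (by simpa using Subgroup.mem_subgroupOf.1 hg))
  anti j := fun g hg => (mem_uS (TT)).2 (C.US_mono K (SR_anti (Nat.le_succ j)) ((mem_uS (TT)).1 hg))
  central j _ u hu v hv := (mem_uS (TT)).2 (comm_mem j ((mem_uS (TT)).1 hu) ((mem_uS (TT)).1 hv))
  H_S j _ := tor_conj_uS (TT) (SR j)
  H_comm := tor_comm (TT)
  m := 24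
  X i := Rg F hq1 hK (rp i.val)
  X_le i g hg := (mem_uS (TT)).2 (C.US_mono K (SR_pos i.val) ((mem_uS (TT)).1 (Rg_le F hq1 hK i.isLt hg)))
  gen := by
    suffices h : ∀ k j, j + k = 24 → uS (TT) (SR j) ≤ ⨆ i : Fin 24, Rg F hq1 hK (rp i.val) by
      rw [← SR_zero]; exact h 24 0 rfl
    intro k
    induction k with
    | zero =>
      intro j hj g hg
      have : g = 1 := by
        have he : SR j = ∅ := Set.eq_empty_iff_forall_notMem.2 fun r hr => by
          have := pidx_lt r; have := hr.2; omega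
        rw [he, uS, Core.US] at hg
        exact Subtype.ext (by simpa using Subgroup.mem_subgroupOf.1 hg)
      rw [this]; exact one_mem _
    | succ k ih =>
      intro j hjk g hg
      obtain ⟨t, ht⟩ := surj_layer F hq1 hK (show j < 24 by omega) hg
      rw [← mul_inv_cancel_left (el F hq1 hK (valid_Fd t)) g]
      exact mul_mem (Subgroup.mem_iSup_of_mem (⟨j, by omega⟩ : Fin 24) (el_mem F hq1 hK (valid_Fd t)))
        (ih (j + 1) (by omega) ht)
  Fd := FdL φ
  φ j t := el F hq1 hK (valid_Fd (j := j) t)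
  φ_mem _ hj t := Rg_le F hq1 hK hj (el_mem F hq1 hK (valid_Fd t))
  φ_add j _ t t' := by
    rw [show el F hq1 hK (valid_Fd t) * el F hq1 hK (valid_Fd t') = el F hq1 hK (valid_Fd (t + t')) from
      Subtype.ext (ex_add _ _ _), inv_mul_cancel]
    exact one_mem _
  φ_surj _ hj _ hx := surj_layer F hq1 hK hj hx
  φ_inj j hj t h := by
    have h' := (mem_uS (TT)).1 h
    change ex φ (rp j) (t : K) ∈ _ at h'
    rw [ex_co2] at h'
    exact Subtype.ext (coord_eq_zero hj (fun hf => if_pos hf) h').1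
  scale j hj s hs := by
    obtain ⟨h, hh, hc⟩ := scale_layer F hq1 hK hj hs
    exact ⟨h, hh, fun t => by rw [hc, inv_mul_cancel]; exact one_mem _⟩
  big j _ := by
    obtain ⟨w, hw, hw1⟩ := exists_fixed_unit F h2
    have hmem : (w : K) ∈ FdL φ j := by
      unfold FdL
      split
      · exact mem_fixF.2 hw
      · trivial
    exact ⟨⟨w, hmem⟩, fun h => w.ne_zero (congrArg Subtype.val h),
      fun h => hw1 (Units.ext (congrArg Subtype.val h))⟩

theorem sep_good (h2 : 2 < q) (i : Fin 24) {j : ℕ} (hj : j < 24) (hc : cmo (rp i.val) (rp j) = false) :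
    ∃ h ∈ tor (TT), (∀ x ∈ uS (TT) (SR j), ⁅h, x⁆ ∈ uS (TT) (SR (j + 1))) ∧
      ∀ x ∈ Rg F hq1 hK (rp i.val), ∃ x' ∈ Rg F hq1 hK (rp i.val), x = ⁅h, x'⁆ := by
  obtain ⟨hg, h0, h1⟩ := sep_ok i ⟨j, hj⟩ hc
  simp only at hg h0 h1
  obtain ⟨w, hw, hw1⟩ := exists_fixed_unit F h2
  set γ := sepRoot i.val j
  have hτ := tau_cFix F hq1 hK hg hw
  refine ⟨tw_tor F hq1 hK hτ, tw_tor_mem F hq1 hK hτ, fun x hx => ?_, ?_⟩
  · obtain ⟨t, ht⟩ := surj_layer F hq1 hK hj hx
    refine (mem_uS (TT)).2 ?_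
    set g := C.HT K (cFix γ w)
    set c := ex φ (rp j) (t : K)
    have hc' : g * c * g⁻¹ = c := by
      simp only [g, c]
      rw [tor_conj_ex F hq1 hK hτ _ (fun _ => chA_cFix_pi hg hw), chA_cFix, h0, zpow_zero, Units.val_one,
        one_mul]
    set n := c⁻¹ * (x : GL chevE6.Idx K)
    have hn : n ∈ C.US K (SR (j + 1)) := (mem_uS (TT)).1 ht
    have hgn : g * n * g⁻¹ ∈ C.US K (SR (j + 1)) :=
      (Subgroup.mem_normalizer_iff.1 (C.diag_le_normalizer (SR (j + 1)) (C.mem_diagonal_iff.2 ⟨_, rfl⟩)) n).1 hn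
    have hcP : c ∈ C.US K C.Pos := C.US_mono K (SR_pos j) (ex_mem_SR hj _)
    have := conj_mem_SR (j + 1) hcP (mul_mem hgn (inv_mem hn))
    convert this using 1
    show ⁅g, (x : GL chevE6.Idx K)⁆ = _
    calc ⁅g, (x : GL chevE6.Idx K)⁆ = g * c * g⁻¹ * (g * n * g⁻¹) * n⁻¹ * c⁻¹ := by
          rw [commutatorElement_def]; simp only [n]; group
      _ = c * (g * n * g⁻¹ * n⁻¹) * c⁻¹ := by rw [hc']; group
  · rintro x ⟨c, hv, e⟩
    set l : Kˣ := w ^ pr chevE6 γ (rp i.val) with hl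
    have hl1 : (l : K) - 1 ≠ 0 := by
      refine sub_ne_zero.2 fun h => hw1 ?_
      have h' : l = 1 := Units.ext h
      rcases h1 with h1 | h1 <;> rw [hl, h1] at h'
      · simpa using h'
      · simpa using h'
    have hlf : φ (l : K) = l := by
      show ((Units.map (φ : K →* K) l : Kˣ) : K) = l
      rw [hl, map_zpow, show Units.map (φ : K →* K) w = w from Units.ext hw]
    have hv' : valid φ (rp i.val) (c / ((l : K) - 1)) := fun hf => by
      rw [map_div₀, map_sub, map_one, hlf, hv hf]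
    refine ⟨el F hq1 hK hv', el_mem F hq1 hK hv', Subtype.ext ?_⟩
    show (x : GL chevE6.Idx K) = ⁅C.HT K (cFix γ w), ex φ (rp i.val) (c / ((l : K) - 1))⁆
    rw [e, commutatorElement_def, tor_conj_ex F hq1 hK hτ _ (fun _ => chA_cFix_pi hg hw), chA_cFix, ← hl,
      ex_inv, ex_add]
    congr 1
    field_simp
    ring

theorem cmo_self : ∀ j : Fin 24, cmo (rp j.val) (rp j.val) = true := by decide +kernel

/-- U¹ lifts through every central extension. -/
theorem exists_complement_U (h2 : 2 < q) {E : Type u} [Group E] (σ : E →* ↥(TT).W)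
    (hk : σ.ker ≤ Subgroup.center E) (hσ : Function.Surjective σ) :
    ∃ Y : Subgroup E, Y.map σ = uS (TT) C.Pos ∧ Y ⊓ σ.ker = ⊥ := by
  refine (layers F hq1 hK h2).exists_complement σ hk hσ (fun j hj i => ?_) fun j hj t t' => ?_
  · cases hc : cmo (rp i.val) (rp j) with
    | false => exact Or.inl (Or.inl (sep_good F hq1 hK h2 i hj hc))
    | true =>
      refine Or.inr fun x y hx ⟨t, hy⟩ => ?_
      exact lcr_pair F hq1 hK hk hσ i ⟨j, hj⟩ hc (σ x) hx (σ y) (hy ▸ el_mem F hq1 hK (valid_Fd t)) x y rfl rfl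
  · exact lcr_pair F hq1 hK hk hσ ⟨j, hj⟩ ⟨j, hj⟩ (cmo_self ⟨j, hj⟩) _ (el_mem F hq1 hK (valid_Fd t)) _
      (el_mem F hq1 hK (valid_Fd t'))

end Cfsg.Agent.Lib.TwMult.E6
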