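import Cfsg.Agent.Lib.TwMult.F4SeriesData

/-!
The tables of the eight directions of the layers: separating characters and the words carrying the
directions of type B₂ to one another.
-/

set_option autoImplicit false
set_option maxRecDepth 100000
set_option linter.unusedSectionVars false

namespace Cfsg.Agent.Lib.TwMult.F4

open Cfsg.Lie
open Cfsg.Agent.Lib.ChevStructure Cfsg.Agent.Lib.LieTwisted.Twist Cfsg.Agent.Lib.LieTwisted.Twist.F4

/-- The direction of a layer. -/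
def dd (j : ℕ) : ℕ := [0, 0, 1, 2, 3, 4, 5, 2, 6, 7, 3, 5].getD j 5

/-- The first layer of a direction. -/
def fd (i : ℕ) : ℕ := [0, 2, 3, 4, 5, 6, 8, 9].getD i 9

/-- The second layer in the direction of a layer, if the layer is the first of two. -/
def nx (j : ℕ) : ℕ := [1, 1, 2, 7, 10, 5, 11, 7, 8, 9, 10, 11].getD j 11

/-- The roots of a direction. -/
def DR (i : ℕ) : Set (Rt chevF4) := {r | 24 ≤ r.val ∧ dd (pidx r) = i}

/-- The same roots in increasing order. -/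
def LD (i : ℕ) : List (Rt chevF4) :=
  (List.finRange chevF4.nroots).filter fun r => decide (24 ≤ r.val ∧ dd (pidx r) = i)

theorem mem_LD {i : ℕ} {r : Rt chevF4} : r ∈ LD i ↔ r ∈ DR i := by simp [LD, DR]

theorem dd_lt : ∀ j < 12, dd j < 8 := by decide +kernel

theorem second_cases : ∀ j < 12, (∀ r : Rt chevF4, 24 ≤ r.val → dd (pidx r) = dd j → j ≤ pidx r) ∨
    j = 1 ∨ j = 7 ∨ j = 10 ∨ j = 11 := by decide +kernel

theorem second_exact : ∀ j < 12, (nx j = j ∨ j = 0 ∨ j = 3 ∨ j = 4 ∨ j = 6) ∧ j ≤ nx j ∧ nx j < 12 := by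
  decide +kernel

theorem code_closed_dd : ∀ p : Fin 24 × Fin 24,
    dd (pidx ⟨p.1.val + 24, by have := p.1.isLt; show _ < 48; omega⟩) =
      dd (pidx ⟨p.2.val + 24, by have := p.2.isLt; show _ < 48; omega⟩) →
    ∀ q : Fin 24, ∀ i : Fin 5, ∀ j : Fin 5, 1 ≤ i.val → 1 ≤ j.val →
      code ⟨q.val + 24, by have := q.isLt; show _ < 48; omega⟩ =
        (i.val : ℤ) * code ⟨p.1.val + 24, by have := p.1.isLt; show _ < 48; omega⟩ +
          (j.val : ℤ) * code ⟨p.2.val + 24, by have := p.2.isLt; show _ < 48; omega⟩ →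
      dd (pidx ⟨q.val + 24, by have := q.isLt; show _ < 48; omega⟩) =
        dd (pidx ⟨p.1.val + 24, by have := p.1.isLt; show _ < 48; omega⟩) := by
  decide +kernel

/-- The exponents of the parameters of the separating torus element of a direction. -/
def PQ (B : ℕ) : (ℤ × ℤ) × (ℤ × ℤ) :=
  let v := fun m => Data.F4.fast.v (sL (fd B)).val m
  ((v 2, v 1), (-v 3, -v 0))

/-- The exponents of the character of a root at the separating element of a direction. -/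
def ev (B : ℕ) (r : Rt chevF4) : ℤ × ℤ :=
  let v := fun m => Data.F4.fast.v r.val m
  (v 0 * (PQ B).1.2 + v 1 * (PQ B).2.2 + v 2 * (2 * (PQ B).2.1) + v 3 * (2 * (PQ B).1.1),
    v 0 * (2 * (PQ B).1.1) + v 1 * (2 * (PQ B).2.1) + v 2 * (2 * (PQ B).2.2) + v 3 * (2 * (PQ B).1.2))

theorem ev_zero : ∀ r : Rt chevF4, 24 ≤ r.val → ev (dd (pidx r)) r = (0, 0) := by decide +kernel

theorem ev_good : ∀ p : Fin 8 × Fin 24,
    dd (pidx ⟨p.2.val + 24, by have := p.2.isLt; show _ < 48; omega⟩) ≠ p.1.val →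
    ∃ k : Fin 24, (2 * (ev p.1.val ⟨p.2.val + 24, by have := p.2.isLt; show _ < 48; omega⟩).1 ^ 2 -
      (ev p.1.val ⟨p.2.val + 24, by have := p.2.isLt; show _ < 48; omega⟩).2 ^ 2).natAbs = 2 ^ k.val := by
  decide +kernel

theorem b2_3 : B2 (rL 3) (sL 3) (rL 7) (sL 7) := by
  refine ⟨?_, ⟨1, 1, rfl, rfl, ?_⟩, ?_, ?_, ?_, ?_, ?_, ?_, ?_, ?_, ?_, ?_⟩ <;> try unfold Com2 <;> decide +kernel
  all_goals decide +kernel

theorem b2_4 : B2 (rL 4) (sL 4) (rL 10) (sL 10) := by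
  refine ⟨?_, ⟨-1, 1, rfl, rfl, ?_⟩, ?_, ?_, ?_, ?_, ?_, ?_, ?_, ?_, ?_, ?_⟩ <;> try unfold Com2 <;> decide +kernel
  all_goals decide +kernel

theorem b2_6 : B2 (rL 6) (sL 6) (rL 11) (sL 11) := by
  refine ⟨?_, ⟨-1, 1, rfl, rfl, ?_⟩, ?_, ?_, ?_, ?_, ?_, ?_, ?_, ?_, ?_, ?_⟩ <;> try unfold Com2 <;> decide +kernel
  all_goals decide +kernel

theorem b2_layer : ∀ j, j = 0 ∨ j = 3 ∨ j = 4 ∨ j = 6 → B2 (rL j) (sL j) (rL (nx j)) (sL (nx j)) := by
  rintro j (rfl | rfl | rfl | rfl)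
  · exact b2_pos
  · exact b2_3
  · exact b2_4
  · exact b2_6

theorem com2_layer : ∀ j < 12, nx j = j → ((sL j ≠ (rL j).rev) ∧
    ∀ c ∈ chevF4.commTerms (rL j).val (sL j).val, c.2.1 % 2 = 0) := by decide +kernel

theorem pair_layer {j : ℕ} (hj : j < 12) (h : nx j = j) : Pair (rL j) (sL j) :=
  ⟨Or.inr (com2_layer j hj h), (pidx_rL j hj).2.2.2.2.2.1, (pidx_rL j hj).2.2.2.2.2.2.1,
    (pidx_rL j hj).2.2.2.2.2.2.2⟩

/-- The words carrying the directions of type B₂ onto the one of the last layer. -/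
def tw5 (j : ℕ) : List (Fin chevF4.rank) :=
  if j = 1 then Jw 0 ++ Jw 1 ++ Jw 0 else if j = 7 then Jw 0 ++ Jw 1 else if j = 10 then Jw 0 else []

theorem tw5_spec : ∀ p : Fin 12 × Rt chevF4, (p.1.val = 1 ∨ p.1.val = 7 ∨ p.1.val = 10 ∨ p.1.val = 11) →
    24 ≤ p.2.val → dd (pidx p.2) = dd p.1.val →
    ∃ r' : Rt chevF4, Data.F4.fast.actW ((tw5 p.1.val).map Fin.val) p.2.val = r'.val ∧ 24 ≤ r'.val ∧
      dd (pidx r') = 5 ∧ (pidx p.2 = p.1.val → pidx r' = 11) := by decide +kernel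

/-- Pairs of sets of roots with commuting root elements. -/
theorem com_layers : ∀ p : Rt chevF4 × Rt chevF4, 24 ≤ p.1.val → 24 ≤ p.2.val →
    ((dd (pidx p.1) = 5 ∧ pidx p.2 = 10) ∨ (dd (pidx p.1) = 2 ∧ (pidx p.2 = 10 ∨ pidx p.2 = 11)) ∨
      (dd (pidx p.1) = 5 ∧ pidx p.2 = 7) ∨ (pidx p.1 = 2 ∧ pidx p.2 = 7)) →
    p.1 = p.2 ∨ (p.2 ≠ p.1.rev ∧ ∀ c ∈ chevF4.commTerms p.1.val p.2.val, c.2.1 % 2 = 0) := by decide +kernel

theorem terms_5_2 : ∀ p : Rt chevF4 × Rt chevF4, 24 ≤ p.1.val → 24 ≤ p.2.val →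
    dd (pidx p.1) = 5 → pidx p.2 = 2 → p.2 ≠ p.1 ∧ p.2 ≠ p.1.rev ∧
      ∀ c ∈ chevF4.commTerms p.1.val p.2.val, c.2.1 % 2 = 0 ∨
        (c.1 < 48 ∧ ∀ q : Rt chevF4, q.val = c.1 → 24 ≤ q.val ∧ pidx q = 7) := by decide +kernel

theorem terms_2_10 : chevF4.commTerms (rL 2).val (rL 10).val = [((rL 11).val, 1, 1, 1)] ∧
    chevF4.commTerms (sL 2).val (sL 10).val = [((sL 11).val, 1, 1, 1)] := by decide +kernel

theorem com_2_10_11 : Com2 (rL 2) (sL 10) ∧ Com2 (sL 2) (rL 10) ∧ Com2 (rL 11) (rL 2) ∧ Com2 (rL 11) (sL 2) ∧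
    Com2 (sL 11) (rL 2) ∧ Com2 (sL 11) (sL 2) ∧ Com2 (rL 11) (rL 10) ∧ Com2 (rL 11) (sL 10) ∧
    Com2 (sL 11) (rL 10) ∧ Com2 (sL 11) (sL 10) := by
  unfold Com2; decide +kernel

end Cfsg.Agent.Lib.TwMult.F4
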