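import Cfsg.Agent.Lib.TwMult.F4Series
import Cfsg.Agent.Lib.TwMult.F4Dirs

/-!
Representatives of the layers of U¹ of ²F₄ and the separating elements of the torus.
-/

set_option autoImplicit false
set_option maxRecDepth 100000
set_option linter.unusedSectionVars false

namespace Cfsg.Agent.Lib.TwMult.F4

open Cfsg.Lie
open Cfsg.Agent.Lib.ChevStructure Cfsg.Agent.Lib.LieTwisted.Twist Cfsg.Agent.Lib.LieTwisted.Twist.F4
open scoped MatrixGroups commutatorElement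

universe u

theorem closed_dd (i : ℕ) : ∀ r ∈ LD i, ∀ s ∈ LD i, ∀ (q : Rt chevF4) (a b : ℕ), 1 ≤ a → 1 ≤ b →
    C.v q = (a : ℤ) • C.v r + (b : ℤ) • C.v s → q ∈ LD i := by
  intro r hr s hs q a b ha hb hv
  rw [mem_LD] at hr hs ⊢
  obtain ⟨hq, ha5, hb5, hcode⟩ := combo_code hr.1 hs.1 hb hv
  have hr48 : r.val < 48 := r.isLt
  have hs48 : s.val < 48 := s.isLt
  have hq48 : q.val < 48 := q.isLt
  have h := code_closed_dd (⟨r.val - 24, by omega⟩, ⟨s.val - 24, by omega⟩)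
  have er : (⟨r.val - 24 + 24, by omega⟩ : Rt chevF4) = r := Fin.ext (Nat.sub_add_cancel hr.1)
  have es : (⟨s.val - 24 + 24, by omega⟩ : Rt chevF4) = s := Fin.ext (Nat.sub_add_cancel hs.1)
  have eq' : (⟨q.val - 24 + 24, by omega⟩ : Rt chevF4) = q := Fin.ext (Nat.sub_add_cancel hq)
  simp only [er, es] at h
  have h' := h (hr.2.trans hs.2.symm) ⟨q.val - 24, by omega⟩ ⟨a, ha5⟩ ⟨b, hb5⟩ ha hb
  simp only [eq'] at h'
  exact ⟨hq, (h' hcode).trans hr.2⟩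

variable {K : Type u} [Field K] {θ : K ≃+* K} {e : ℕ} (F : Th θ e)

include F

theorem layer_eq_pair {j : ℕ} (hj : j < 12) (h : nx j = j) (t : K) :
    co j (θ t) t = gP θ (rL j) (sL j) t := rfl

/-- The representative of a layer before the check of membership. -/
noncomputable def φv (θ : K ≃+* K) (j : ℕ) (t : K) : GL chevF4.Idx K :=
  if nx j = j then gP θ (rL j) (sL j) t else gB θ (rL j) (sL j) (rL (nx j)) (sL (nx j)) t 0

theorem φv_spec {j : ℕ} (hj : j < 12) (t : K) :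
    φv θ j t ∈ C.US K (SR j) ∧ τ F (φv θ j t) = φv θ j t ∧
      (co j (θ t) t)⁻¹ * φv θ j t ∈ C.US K (SR (j + 1)) := by
  obtain ⟨hcase, hle, hlt⟩ := second_exact j hj
  unfold φv
  by_cases h : nx j = j
  · rw [if_pos h]
    refine ⟨co_mem hj _ _, τ_gP F (pair_layer hj h) t, ?_⟩
    rw [layer_eq_pair F hj h, inv_mul_cancel]
    exact one_mem _
  · rw [if_neg h]
    have hb := b2_layer j (hcase.resolve_left h)
    have hm : C.X K (rL (nx j)) (θ t * t + 0) ∈ C.US K (SR (j + 1)) :=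
      C.US_mono K (SR_anti (by omega)) (X_rL_mem hlt _)
    have hm0 : C.X K (sL (nx j)) (θ (0 : K) ^ 2) ∈ C.US K (SR (j + 1)) :=
      C.US_mono K (SR_anti (by omega)) (X_sL_mem hlt _)
    refine ⟨?_, τ_gB F hb t 0, ?_⟩
    · exact mul_mem (mul_mem (co_mem hj (θ t) t) (C.US_mono K (SR_anti (Nat.le_succ j)) hm))
        (C.US_mono K (SR_anti (Nat.le_succ j)) hm0)
    · show (co j (θ t) t)⁻¹ * (co j (θ t) t * _ * _) ∈ _
      rw [mul_assoc (co j (θ t) t), inv_mul_cancel_left]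
      exact mul_mem hm hm0

variable [Fintype K]

theorem mem_W_of {g : GL chevF4.Idx K} {S : Set (Rt chevF4)} (hg : g ∈ C.US K S) (h : τ F g = g) :
    g ∈ (tw F).W :=
  (tw F).mem_W_iff.2 ⟨C.US_le_group _ hg, h⟩

/-- The representatives of the layers. -/
noncomputable def φW (j : ℕ) (t : K) : ↥(tw F).W :=
  if hj : j < 12 then ⟨φv θ j t, mem_W_of F (φv_spec F hj t).1 (φv_spec F hj t).2.1⟩ else 1

theorem φW_val {j : ℕ} (hj : j < 12) (t : K) : (φW F j t : GL chevF4.Idx K) = φv θ j t := by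
  rw [φW, dif_pos hj]

theorem φW_pair {j : ℕ} (hj : j < 12) (h : nx j = j) (t : K) :
    (φW F j t : GL chevF4.Idx K) = gP θ (rL j) (sL j) t := by
  rw [φW_val F hj, φv, if_pos h]

/-- The fixed elements of a layer are given by one parameter. -/
theorem fixed_coord {j : ℕ} (hj : j < 12) {g : ↥(tw F).W} {a b : K}
    (h : (co j a b)⁻¹ * (g : GL chevF4.Idx K) ∈ C.US K (SR (j + 1))) :
    a = θ b ∧ (φW F j b)⁻¹ * g ∈ uS (tw F) (SR (j + 1)) := by
  obtain ⟨-, -, -, -, -, hπr, hπs, hlr, hls⟩ := pidx_rL j hj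
  have hco : co j a b ∈ chevF4.group K := C.US_le_group _ (co_mem hj a b)
  have hg : (g : GL chevF4.Idx K) ∈ chevF4.group K := (tw F).W_le g.2
  have h1 : τ F ((co j a b)⁻¹ * (g : GL chevF4.Idx K)) ∈ C.US K (SR (j + 1)) :=
    (tw F).τ_US (S := SR (j + 1)) (S' := SR (j + 1)) (fun r hr => ⟨(π_layer r hr.1).1, le_of_le_of_eq hr.2 (π_layer r hr.1).2.symm⟩) h
  rw [τ_mul F _ (inv_mem hco) _ hg, τ_inv F hco, show τ F (g : GL chevF4.Idx K) = g from (tw F).W_fix _ g.2] at h1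
  have hτ : τ F (co j a b) = C.X K (sL j) (θ a ^ 2) * C.X K (rL j) (θ b) := by
    rw [co, τ_mul F _ (C.X_mem_group _ _) _ (C.X_mem_group _ _), τ_X F, τ_X F, hπr, hπs, hlr, hls, pow_one]
  rw [hτ] at h1
  have h2 : (co j (θ b) (θ a ^ 2))⁻¹ * (C.X K (sL j) (θ a ^ 2) * C.X K (rL j) (θ b)) ∈ C.US K (SR (j + 1)) := by
    have h3 := co_mul F hj 0 (θ a ^ 2) (θ b) 0
    rw [zero_add, add_zero] at h3
    simpa [co, C.X_zero] using h3
  have h4 := mul_mem h2 h1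
  rw [mul_assoc, mul_inv_cancel_left] at h4
  obtain ⟨e1, -⟩ := coord_unique F hj h h4
  refine ⟨e1, (mem_uS (tw F)).2 ?_⟩
  rw [Subgroup.coe_mul, Subgroup.coe_inv, φW_val F hj]
  have h5 := mul_mem (inv_mem (φv_spec F hj b).2.2) (e1 ▸ h)
  rwa [mul_inv_rev, inv_inv, mul_assoc, mul_inv_cancel_left] at h5

theorem φW_surj {j : ℕ} (hj : j < 12) {g : ↥(tw F).W} (hg : g ∈ uS (tw F) (SR j)) :
    ∃ t, (φW F j t)⁻¹ * g ∈ uS (tw F) (SR (j + 1)) := by
  obtain ⟨a, b, h⟩ := exists_coord F hj ((mem_uS (tw F)).1 hg)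
  exact ⟨b, (fixed_coord F hj h).2⟩

theorem φW_last {g : ↥(tw F).W} (hg : g ∈ uS (tw F) (SR 11)) : ∃ t, g = φW F 11 t := by
  obtain ⟨t, ht⟩ := φW_surj F (show 11 < 12 by decide) hg
  refine ⟨t, (inv_mul_eq_one.1 ?_).symm⟩
  have he : SR (11 + 1) = ∅ := Set.eq_empty_iff_forall_notMem.2 fun r hr => by
    have := pidx_lt r; have := hr.2; omega
  rw [he, uS, Core.US] at ht
  have : ((((φW F 11 t)⁻¹ * g : ↥(tw F).W)) : GL chevF4.Idx K) = 1 := by
    have := Subgroup.mem_subgroupOf.1 ht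
    simpa using this
  exact Subtype.ext this

/-! ### The separating elements -/

omit F [Fintype K]

/-- A monomial in a unit and its image under θ. -/
def pv (θ : K ≃+* K) (a : ℤ × ℤ) (w : Kˣ) : Kˣ := w ^ a.1 * Units.map (θ : K →* K) w ^ a.2

theorem pv_mul (a : ℤ × ℤ) (v w : Kˣ) : pv θ a (v * w) = pv θ a v * pv θ a w := by
  simp only [pv, map_mul, mul_zpow]
  rw [mul_mul_mul_comm]

theorem pv_zpow (a : ℤ × ℤ) (n : ℤ) (w : Kˣ) : pv θ a w ^ n = pv θ (n * a.1, n * a.2) w := by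
  simp only [pv, mul_zpow, ← zpow_mul, mul_comm]

theorem pv_add (a b : ℤ × ℤ) (w : Kˣ) : pv θ a w * pv θ b w = pv θ (a.1 + b.1, a.2 + b.2) w := by
  simp only [pv, zpow_add]
  rw [mul_mul_mul_comm]

include F

theorem pv_θ (p q : ℤ) (w : Kˣ) : Units.map (θ : K →* K) (pv θ (2 * p, 2 * q) w) = pv θ (q, 2 * p) w := by
  have h : Units.map (θ : K →* K) (Units.map (θ : K →* K) w) ^ (2 : ℤ) = w :=
    Units.ext (by simp [zpow_two, ← sq, F.sq])
  simp only [pv, map_mul, map_zpow]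
  rw [mul_comm, zpow_mul (Units.map (θ : K →* K) (Units.map (θ : K →* K) w)), h]

theorem pv_eq_one {a : ℤ × ℤ} (ha : ∃ k : ℕ, (2 * a.1 ^ 2 - a.2 ^ 2).natAbs = 2 ^ k) {w : Kˣ}
    (h : pv θ a w = 1) : w = 1 := by
  obtain ⟨k, hk⟩ := ha
  set z := Units.map (θ : K →* K) w
  have hz : Units.map (θ : K →* K) z ^ (2 : ℤ) = w := Units.ext (by simp [z, zpow_two, ← sq, F.sq])
  have h1 : w ^ a.1 * z ^ a.2 = 1 := h
  have h2 : z ^ (2 * a.1) * w ^ a.2 = 1 := by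
    have h3 := congrArg (fun u => Units.map (θ : K →* K) u ^ (2 : ℤ)) h1
    simp only [map_mul, map_zpow, map_one, mul_zpow, one_zpow, ← zpow_mul] at h3
    rwa [mul_comm a.1, mul_comm a.2, zpow_mul (Units.map (θ : K →* K) z), hz] at h3
  have h4 : w ^ (2 * a.1 ^ 2 - a.2 ^ 2) = 1 := by
    have e1 : (w ^ a.1 * z ^ a.2) ^ (2 * a.1) = 1 := by rw [h1, one_zpow]
    have e2 : (z ^ (2 * a.1) * w ^ a.2) ^ a.2 = 1 := by rw [h2, one_zpow]
    rw [mul_zpow, ← zpow_mul, ← zpow_mul] at e1 e2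
    rw [← mul_inv_eq_one] at e1
    rw [show (2 : ℤ) * a.1 ^ 2 - a.2 ^ 2 = a.1 * (2 * a.1) - a.2 * a.2 by ring, zpow_sub,
      eq_inv_of_mul_eq_one_right e2, mul_comm (2 * a.1) a.2]
    simpa using e1
  have h5 : w ^ ((2 : ℕ) ^ k) = 1 := by
    rw [← hk]
    rcases Int.natAbs_eq (2 * a.1 ^ 2 - a.2 ^ 2) with e | e
    · rwa [e, zpow_natCast] at h4
    · rwa [e, zpow_neg, inv_eq_one, zpow_natCast] at h4
  haveI := F.two
  haveI : Fact (Nat.Prime 2) := ⟨Nat.prime_two⟩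
  haveI : ExpChar K 2 := ExpChar.prime Nat.prime_two
  refine Units.ext (iterateFrobenius_inj K 2 k ?_)
  have h6 := congrArg Units.val h5
  simpa [iterateFrobenius_def] using h6

omit F

/-- The separating element of a direction. -/
noncomputable def hB (θ : K ≃+* K) (B : ℕ) (w : Kˣ) : GL chevF4.Idx K :=
  hχ (χOf θ (pv θ (2 * (PQ B).1.1, 2 * (PQ B).1.2) w) (pv θ (2 * (PQ B).2.1, 2 * (PQ B).2.2) w))

include F

theorem chr_hB (B : ℕ) (w : Kˣ) (r : Rt chevF4) :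
    C.chr K (χOf θ (pv θ (2 * (PQ B).1.1, 2 * (PQ B).1.2) w) (pv θ (2 * (PQ B).2.1, 2 * (PQ B).2.2) w)) r =
      pv θ (ev B r) w := by
  set P := (PQ B).1
  set Q := (PQ B).2
  rw [Core.chr, prod4,
    show χOf θ (pv θ (2 * P.1, 2 * P.2) w) (pv θ (2 * Q.1, 2 * Q.2) w) (nd 0) =
      Units.map (θ : K →* K) (pv θ (2 * P.1, 2 * P.2) w) from rfl,
    show χOf θ (pv θ (2 * P.1, 2 * P.2) w) (pv θ (2 * Q.1, 2 * Q.2) w) (nd 1) =
      Units.map (θ : K →* K) (pv θ (2 * Q.1, 2 * Q.2) w) from rfl,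
    show χOf θ (pv θ (2 * P.1, 2 * P.2) w) (pv θ (2 * Q.1, 2 * Q.2) w) (nd 2) = pv θ (2 * Q.1, 2 * Q.2) w from rfl,
    show χOf θ (pv θ (2 * P.1, 2 * P.2) w) (pv θ (2 * Q.1, 2 * Q.2) w) (nd 3) = pv θ (2 * P.1, 2 * P.2) w from rfl,
    pv_θ F, pv_θ F, pv_zpow, pv_zpow, pv_zpow, pv_zpow, pv_add, pv_add, pv_add]
  rfl

theorem hB_X (B : ℕ) (w : Kˣ) (r : Rt chevF4) (t : K) :
    hB θ B w * C.X K r t * (hB θ B w)⁻¹ = C.X K r ((pv θ (ev B r) w : K) * t) := by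
  rw [hB, hχ_X, chr_hB F]

theorem ev_good' {B : ℕ} (hB : B < 8) {r : Rt chevF4} (hr : 24 ≤ r.val) (hd : dd (pidx r) ≠ B) :
    ∃ k : ℕ, (2 * (ev B r).1 ^ 2 - (ev B r).2 ^ 2).natAbs = 2 ^ k := by
  have hr48 : r.val < 48 := r.isLt
  have h := ev_good (⟨B, hB⟩, ⟨r.val - 24, by omega⟩)
  have er : (⟨r.val - 24 + 24, by omega⟩ : Rt chevF4) = r := Fin.ext (Nat.sub_add_cancel hr)
  simp only [er] at h
  obtain ⟨k, hk⟩ := h hd
  exact ⟨k.val, hk⟩

theorem hB_fix (w : Kˣ) {r : Rt chevF4} (hr : 24 ≤ r.val) {B : ℕ} (hd : dd (pidx r) = B) (t : K) :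
    hB θ B w * C.X K r t * (hB θ B w)⁻¹ = C.X K r t := by
  subst hd
  rw [hB_X F, ev_zero r hr, show pv θ ((0 : ℤ), (0 : ℤ)) w = 1 by simp [pv], Units.val_one, one_mul]

/-- A separating element fixes nothing in the other directions. -/
theorem hB_free {B i : ℕ} (hB8 : B < 8) (hi : i ≠ B) {w : Kˣ} (hw : w ≠ 1) {g : GL chevF4.Idx K}
    (hg : g ∈ C.US K (DR i)) (h : hB θ B w * g * (hB θ B w)⁻¹ = g) : g = 1 := by
  have hsort : (LD i).Pairwise (· < ·) := (List.pairwise_lt_finRange _).filter _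
  have hpos : ∀ r ∈ LD i, r ∈ C.Pos := fun r hr => (pos_iff24 r).2 (mem_LD.1 hr).1
  obtain ⟨t, rfl⟩ := comm.exists_word (R := K) hsort hpos (closed_dd i)
    (by rwa [show {r | r ∈ LD i} = DR i from Set.ext fun _ => mem_LD])
  have hconj : hB θ B w * C.wordX K (LD i) t * (hB θ B w)⁻¹ =
      C.wordX K (LD i) (fun r => (pv θ (ev B r) w : K) * t r) := by
    show MulAut.conj (hB θ B w) ((LD i).map fun r => C.X K r (t r)).prod = _
    rw [map_list_prod, List.map_map]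
    exact congrArg List.prod (List.map_congr_left fun r _ => hB_X F B w r (t r))
  have h1 := C.wordX_unique K hsort hpos (hconj.symm.trans h)
  refine List.prod_eq_one fun x hx => ?_
  obtain ⟨r, hr, rfl⟩ := List.mem_map.1 hx
  have hne : ((pv θ (ev B r) w : Kˣ) : K) ≠ 1 := fun e =>
    hw (pv_eq_one F (ev_good' F hB8 (mem_LD.1 hr).1 (by rw [(mem_LD.1 hr).2]; exact hi)) (Units.ext e))
  rw [(mul_left_eq_self₀.1 (h1 r hr)).resolve_left hne, C.X_zero]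

variable [Fintype K]

theorem hB_mem (B : ℕ) (w : Kˣ) : hB θ B w ∈ (tw F).W := χOf_mem F _ _

end Cfsg.Agent.Lib.TwMult.F4
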