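import Cfsg.Agent.Lib.TwMult.TwFrame

/-!
A block of the level group: the action on the basis vectors of one level, and the normal form of the
elements of a group of rank one.
-/

set_option autoImplicit false
set_option linter.unusedSectionVars false

namespace Cfsg.Agent.Lib.TwMult

open Cfsg.Lie
open Cfsg.Agent.Lib.ChevStructure Cfsg.Agent.Lib.LieTwisted.Twist
open scoped MatrixGroups Matrix Pointwise

variable {D : ChevalleyDatum} (C : Core D) (μ : Fin D.rank → ℤ)

/-- A list of basis vectors forming a whole level. -/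
structure Lvl (n : ℕ) where
  idx : Fin n → D.Idx
  l : ℤ
  inj : Function.Injective idx
  cover : ∀ a, lev μ (C.wt a) = l ↔ ∃ i, idx i = a

variable {C μ} {n : ℕ} (V : Lvl C μ n) (K : Type*) [Field K]

theorem Lvl.block_mul {g : GL D.Idx K} (hg : g ∈ levelGroup C μ K) (h : Matrix D.Idx D.Idx K) :
    ((g : Matrix D.Idx D.Idx K) * h).submatrix V.idx V.idx =
      (g : Matrix D.Idx D.Idx K).submatrix V.idx V.idx * h.submatrix V.idx V.idx := by
  ext i j
  simp only [Matrix.submatrix_apply, Matrix.mul_apply]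
  refine (Finset.sum_bij_ne_zero (fun k _ _ => V.idx k) (fun _ _ _ => Finset.mem_univ _)
    (fun a _ _ b _ _ e => V.inj e) (fun b _ hb => ?_) (fun _ _ _ => rfl)).symm
  obtain ⟨k, rfl⟩ := (V.cover b).1 (((hg.1 _ _ (left_ne_zero_of_mul hb)).symm).trans ((V.cover _).2 ⟨i, rfl⟩))
  exact ⟨k, Finset.mem_univ _, hb, rfl⟩

/-- The action on one level. -/
noncomputable def Lvl.block : ↥(levelGroup C μ K) →* GL (Fin n) K :=
  MonoidHom.toHomUnits
    { toFun := fun g => ((g : GL D.Idx K) : Matrix D.Idx D.Idx K).submatrix V.idx V.idx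
      map_one' := by
        rw [OneMemClass.coe_one, Units.val_one, Matrix.submatrix_one _ V.inj]
      map_mul' := fun g g' => by
        rw [Subgroup.coe_mul, Units.val_mul, V.block_mul K g.2] }

theorem Lvl.block_val (g : ↥(levelGroup C μ K)) :
    (V.block K g : Matrix (Fin n) (Fin n) K) = ((g : GL D.Idx K) : Matrix D.Idx D.Idx K).submatrix V.idx V.idx := rfl

/-- The block of a root element acting linearly. -/
theorem Lvl.block_X {r : Rt D} {N : Matrix (Fin n) (Fin n) ℤ}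
    (hE : ∀ a b, E D 1 r (V.idx a) (V.idx b) = N a b ∧ E D 2 r (V.idx a) (V.idx b) = 0 ∧
      E D 3 r (V.idx a) (V.idx b) = 0) (t : K) :
    ((C.X K r t : GL D.Idx K) : Matrix D.Idx D.Idx K).submatrix V.idx V.idx = 1 + t • N.map (Int.cast : ℤ → K) := by
  rw [C.X_val]
  ext a b
  obtain ⟨h1, h2, h3⟩ := hE a b
  simp [xI, Finset.sum_range_succ, Ek, Matrix.sum_apply, E.eq_1, h1, h2, h3, Matrix.one_apply, V.inj.eq_iff]

section Form

variable {K} [Finite K] (T : Tw C K)

/-- The elements of a group of rank one. -/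
theorem exists_form (hq : 1 < T.q) (m : Fin T.nn) (hL : T.nS m ∈ rankOne T m) :
    ∀ x ∈ rankOne T m, (∃ a ∈ uO T m, ∃ h ∈ tor T, x = a * h) ∨
      (∃ a ∈ uO T m, ∃ b ∈ uO T m, ∃ h ∈ tor T, x = a * T.nS m * b * h) := by
  classical
  set n := T.nS m
  let S : Set ↥T.W := {x | (∃ a ∈ uO T m, ∃ h ∈ tor T, x = a * h) ∨
    (∃ a ∈ uO T m, ∃ b ∈ uO T m, ∃ h ∈ tor T, x = a * n * b * h)}
  have hSa : ∀ c ∈ uO T m, ∀ x ∈ S, c * x ∈ S := by
    rintro c hc x (⟨a, ha, h, hh, rfl⟩ | ⟨a, ha, b, hb, h, hh, rfl⟩)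
    · exact Or.inl ⟨c * a, mul_mem hc ha, h, hh, by group⟩
    · exact Or.inr ⟨c * a, mul_mem hc ha, b, hb, h, hh, by group⟩
  have hnn : n * n ∈ tor T := (mem_tor T).2 (C.mem_diagonal_of_acts_one (mul_mem (T.nO_mono m) (T.nO_mono m)) (by
    have := C.acts_mul K (T.nO_acts m) (T.nO_acts m)
    rwa [T.J_inv] at this))
  have hSn : ∀ x ∈ S, n * x ∈ S := by
    rintro x (⟨a, ha, h, hh, rfl⟩ | ⟨a, ha, b, hb, h, hh, rfl⟩)
    · exact Or.inr ⟨1, one_mem _, a, ha, h, hh, by group⟩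
    · rcases one_dichotomy T hq m hL a ha with ⟨c, hc, k, hk, e⟩ | ⟨c, hc, d, hd, k, hk, e⟩
      · refine Or.inl ⟨c * (k * b * k⁻¹), mul_mem hc (tor_conj_uS T _ k hk b hb), k * h, mul_mem hk hh, ?_⟩
        calc n * (a * n * b * h) = (n * a * n) * b * h := by group
          _ = _ := by rw [e]; group
      · refine Or.inr ⟨c, hc, d * (k * b * k⁻¹), mul_mem hd (tor_conj_uS T _ k hk b hb), k * h, mul_mem hk hh, ?_⟩
        calc n * (a * n * b * h) = (n * a * n) * b * h := by group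
          _ = _ := by rw [e]; simp only [n]; group
  have hSh : ∀ k ∈ tor T, ∀ x ∈ S, k * x ∈ S := by
    rintro k hk x (⟨a, ha, h, hh, rfl⟩ | ⟨a, ha, b, hb, h, hh, rfl⟩)
    · exact Or.inl ⟨k * a * k⁻¹, tor_conj_uS T _ k hk a ha, k * h, mul_mem hk hh, by group⟩
    · have hk' : n⁻¹ * k * n ∈ tor T := (mem_tor T).2 (by
        have := C.conj_diagonal (inv_mem (T.nO_mono m)) ((mem_tor T).1 hk)
        simpa [n, Tw.nS] using this)
      exact Or.inr ⟨k * a * k⁻¹, tor_conj_uS T _ k hk a ha, (n⁻¹ * k * n) * b * (n⁻¹ * k * n)⁻¹,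
        tor_conj_uS T _ _ hk' b hb, (n⁻¹ * k * n) * h, mul_mem hk' hh, by group⟩
  intro x hx
  have hle : rankOne T m ≤ Subgroup.closure ({n} ∪ ((uO T m : Set ↥T.W) ∪ (tor T : Set ↥T.W))) := by
    refine sup_le (fun g hg => Subgroup.subset_closure (Or.inr (Or.inl hg))) ?_
    rintro _ ⟨u, hu, rfl⟩
    have hn : n ∈ Subgroup.closure ({n} ∪ ((uO T m : Set ↥T.W) ∪ (tor T : Set ↥T.W))) :=
      Subgroup.subset_closure (Or.inl rfl)
    exact mul_mem (mul_mem hn (Subgroup.subset_closure (Or.inr (Or.inl hu)))) (inv_mem hn)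
  have hmon : x ∈ Submonoid.closure ({n} ∪ ((uO T m : Set ↥T.W) ∪ (tor T : Set ↥T.W))) := by
    rw [← Subgroup.closure_toSubmonoid_of_finite]; exact hle hx
  refine Submonoid.closure_induction_left (motive := fun x _ => x ∈ S)
    (Or.inl ⟨1, one_mem _, 1, one_mem _, by simp⟩) (fun g hg y _ hy => ?_) hmon
  rcases hg with rfl | hg | hg
  · exact hSn y hy
  · exact hSa g hg y hy
  · exact hSh g hg y hy

/-- The block as a homomorphism on a group of rank one. -/
noncomputable def rankHom {n : ℕ} (m : Fin T.nn) {μ : Fin D.rank → ℤ} (V : Lvl C μ n)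
    (hμ : ∀ x ∈ rankOne T m, (x : GL D.Idx K) ∈ levelGroup C μ K) : ↥(rankOne T m) →* GL (Fin n) K :=
  (V.block K).comp ((T.W.subtype.comp (rankOne T m).subtype).codRestrict _ fun x => hμ x.1 x.2)

theorem rankHom_val {n : ℕ} (m : Fin T.nn) {μ : Fin D.rank → ℤ} (V : Lvl C μ n)
    (hμ : ∀ x ∈ rankOne T m, (x : GL D.Idx K) ∈ levelGroup C μ K) (x : ↥(rankOne T m)) :
    (rankHom T m V hμ x : Matrix (Fin n) (Fin n) K) =
      (((x : ↥T.W) : GL D.Idx K) : Matrix D.Idx D.Idx K).submatrix V.idx V.idx := rfl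

/-- A functional coarser than the orbit levels. -/
theorem rankOne_le_of_supp (m : Fin T.nn) {μ : Fin D.rank → ℤ} (hμ : ∀ j, T.idx j = m → μ j = 0) :
    ∀ x ∈ rankOne T m, (x : GL D.Idx K) ∈ levelGroup C μ K := by
  have h0 : ∀ r ∈ C.inv' (T.wO m), lev μ (C.v r) = 0 := fun r hr => Finset.sum_eq_zero fun j _ => by
    by_cases hj : C.v r j = 0
    · rw [hj, zero_mul]
    · rw [hμ j (T.inv'_supp m hr hj), mul_zero]
  have hwO : ∀ r, lev μ (C.v (T.wO m r)) = lev μ (C.v r) := fun r => Finset.sum_congr rfl fun j _ => by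
    by_cases hj : T.idx j = m
    · simp [hμ j hj]
    · rw [show T.wO m r = C.pprod (T.J m) r from rfl, T.pprod_coord _ _ _ (fun h => hj ((T.mem_J j m).1 h))]
  suffices h : rankOne T m ≤ (levelGroup C μ K).subgroupOf T.W from fun x hx => Subgroup.mem_subgroupOf.1 (h hx)
  refine sup_le (fun g hg => Subgroup.mem_subgroupOf.2 (US_le_levelGroup C _ K h0 ((mem_uS T).1 hg))) ?_
  rintro _ ⟨u, hu, rfl⟩
  refine Subgroup.mem_subgroupOf.2 ?_
  refine US_le_levelGroup C _ K (S := {r | lev μ (C.v r) = 0}) (fun r hr => hr) ?_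
  exact C.conj_mem_US K (T.nO_acts m) (fun r hr => (hwO r).trans (h0 r hr)) ((mem_uS T).1 hu)

end Form

end Cfsg.Agent.Lib.TwMult
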