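import Cfsg.Agent.Lib.TwMult.SL2Part

/-!
Central extensions with kernel of order prime to p split over subgroups generated by p-elements without
multiplier away from p.
-/

set_option autoImplicit false
set_option linter.unusedSectionVars false

namespace Cfsg.Agent.Lib.TwMult

open Subgroup

universe u

/-- A central extension splits over a subgroup without multiplier at the primes of the kernel, generated
by elements of order a power of another prime. -/
theorem exists_comp_coprime {G : Type u} [Group G] {E : Type u} [Group E] [Finite E] {σ : E →* G}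
    (hk : σ.ker ≤ center E) (hσ : Function.Surjective σ) {p : ℕ} (hp : p.Prime)
    (hker : p.Coprime (Nat.card σ.ker)) (X : Subgroup G)
    (hgen : X ≤ closure {g | g ∈ X ∧ ∃ j, g ^ p ^ j = 1})
    (hno : ∀ r : ℕ, r.Prime → r ≠ p → NoPart r ↥X) :
    ∃ T : Subgroup E, IsComp σ X T := by
  haveI := Fact.mk hp
  set N := Nat.card σ.ker with hn
  set Sp : Set E := {x | σ x ∈ X ∧ ∃ j, x ^ p ^ j = 1} with hSp
  set E1 : Subgroup E := closure Sp with hE1
  have hcop : ∀ j, (p ^ j).Coprime (Nat.card σ.ker) := fun j => by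
    exact hker.pow_left _
  have hsurj : X ≤ E1.map σ := by
    refine hgen.trans ((closure_le _).2 ?_)
    rintro g ⟨hg, j, hj⟩
    obtain ⟨x, rfl⟩ := hσ g
    have hx1 : (x ^ p ^ j) ^ N = 1 := by
      have h1 : x ^ p ^ j ∈ σ.ker := by rw [MonoidHom.mem_ker, map_pow, hj]
      have := pow_card_eq_one' (x := (⟨_, h1⟩ : σ.ker))
      exact (SubgroupClass.coe_pow _ _).symm.trans (congrArg Subtype.val this)
    obtain ⟨m, hm⟩ := exists_pow_eq_self_of_coprime (x := σ x) (n := N)
      (((hcop j).symm).coprime_dvd_right (orderOf_dvd_of_pow_eq_one hj))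
    refine ⟨(x ^ N) ^ m, subset_closure ⟨?_, j, ?_⟩, ?_⟩
    · rw [map_pow, map_pow, hm]; exact hg
    · rw [← pow_mul, ← pow_mul, show N * (m * p ^ j) = p ^ j * N * m by ring, pow_mul, pow_mul, hx1, one_pow]
    · rw [map_pow, map_pow, hm]
  have hle : E1 ≤ X.comap σ := (closure_le _).2 fun x hx => hx.1
  let g : ↥E1 →* ↥X := (σ.subgroupComap X).comp (inclusion hle)
  have hgs : Function.Surjective g := fun y => by
    obtain ⟨x, hx, e⟩ := hsurj y.2
    exact ⟨⟨x, hx⟩, Subtype.ext e⟩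
  have hgk : ∀ x : ↥E1, x ∈ g.ker → (x : E) ∈ σ.ker := fun x hx =>
    congrArg Subtype.val (MonoidHom.mem_ker.1 hx)
  have hgc : g.ker ≤ center ↥E1 := fun x hx => mem_center_iff.2 fun y =>
    Subtype.ext (mem_center_iff.1 (hk (hgk x hx)) y)
  have hgd : g.ker ≤ commutator ↥E1 := by
    intro x hx
    have hxr : x ^ N = 1 := by
      have := pow_card_eq_one' (x := (⟨_, hgk x hx⟩ : σ.ker))
      exact Subtype.ext ((SubgroupClass.coe_pow _ _).trans
        ((map_pow σ.ker.subtype _ _).symm.trans ((congrArg σ.ker.subtype this).trans (map_one _))))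
    -- the abelianisation is a p-group
    have hab : ∀ y : Abelianization ↥E1, ∃ j, y ^ p ^ j = 1 := by
      intro y
      obtain ⟨⟨y, hy⟩, rfl⟩ := QuotientGroup.mk'_surjective (commutator ↥E1) y
      show ∃ j, Abelianization.of (⟨y, hy⟩ : ↥E1) ^ p ^ j = 1
      induction hy using closure_induction with
      | mem z hz =>
        obtain ⟨j, hj⟩ := hz.2
        exact ⟨j, by rw [← map_pow]; exact (congrArg _ (Subtype.ext hj)).trans (map_one _)⟩
      | one => exact ⟨0, by rw [pow_zero, pow_one]; exact map_one _⟩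
      | mul a b ha hb iha ihb =>
        obtain ⟨i, hi⟩ := iha
        obtain ⟨j, hj⟩ := ihb
        refine ⟨i + j, ?_⟩
        rw [show (Abelianization.of (G := ↥E1)) ⟨a * b, mul_mem ha hb⟩ =
          Abelianization.of ⟨a, ha⟩ * Abelianization.of ⟨b, hb⟩ from map_mul Abelianization.of (⟨a, ha⟩ : ↥E1) ⟨b, hb⟩, mul_pow,
          pow_add, pow_mul, hi, one_pow, one_mul, mul_comm, pow_mul, hj, one_pow]
      | inv a ha iha =>
        obtain ⟨i, hi⟩ := iha
        refine ⟨i, ?_⟩
        rw [show (Abelianization.of (G := ↥E1)) ⟨a⁻¹, inv_mem ha⟩ = (Abelianization.of ⟨a, ha⟩)⁻¹ from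
          map_inv Abelianization.of (⟨a, ha⟩ : ↥E1), inv_pow, hi, inv_one]
    obtain ⟨j, hj⟩ := hab (Abelianization.of x)
    have h1 : Abelianization.of x ^ N = 1 := by rw [← map_pow, hxr, map_one]
    have h2 := pow_gcd_eq_one.2 ⟨hj, h1⟩
    rw [(hcop j).gcd_eq_one, pow_one] at h2
    exact (Abelianization.ker_of _).le (MonoidHom.mem_ker.2 h2)
  refine ⟨E1, le_antisymm (map_le_iff_le_comap.2 hle) hsurj, ?_⟩
  rw [eq_bot_iff]
  rintro x ⟨hx, hxk⟩
  obtain ⟨y, rfl⟩ : ∃ y : ↥E1, (y : E) = x := ⟨⟨x, hx⟩, rfl⟩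
  have hyk : y ∈ g.ker := MonoidHom.mem_ker.2 (Subtype.ext hxk)
  have hyN : orderOf y ∣ N := by
    refine orderOf_dvd_of_pow_eq_one ?_
    have := pow_card_eq_one' (x := (⟨_, hgk y hyk⟩ : σ.ker))
    exact Subtype.ext ((SubgroupClass.coe_pow _ _).trans
        ((map_pow σ.ker.subtype _ _).symm.trans ((congrArg σ.ker.subtype this).trans (map_one _))))
  by_cases h1 : orderOf y = 1
  · rw [orderOf_eq_one_iff.1 h1]; simp
  exfalso
  obtain ⟨r, hr, hrd⟩ := Nat.exists_prime_and_dvd h1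
  have hrp : r ≠ p := fun e => hp.not_dvd_one (hker.gcd_eq_one ▸ Nat.dvd_gcd dvd_rfl (e ▸ hrd.trans hyN))
  have hpos : 0 < orderOf y := orderOf_pos y
  have hne : y ^ (orderOf y / r) ≠ 1 := fun h => by
    have h' := Nat.le_of_dvd (Nat.div_pos (Nat.le_of_dvd hpos hrd) hr.pos) (orderOf_dvd_of_pow_eq_one h)
    exact absurd h' (not_le.2 (Nat.div_lt_self hpos hr.one_lt))
  refine hne (hno r hr hrp ↥E1 g ⟨hgs, hgc, hgd⟩ _ (pow_mem hyk _) ?_)
  rw [← pow_mul, Nat.div_mul_cancel hrd, pow_orderOf_eq_one]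

end Cfsg.Agent.Lib.TwMult
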