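import Cfsg.Agent.Lib.TwMult.HeisComp

/-!
Complements over the radical of a Heisenberg parabolic over the field with two elements.
-/

set_option autoImplicit false
set_option linter.unusedSectionVars false

namespace Cfsg.Agent.Lib.TwMult

open Subgroup
open Cfsg.Agent.Lib.Schur.Fusion (commutator_congr commutator_conj)
open scoped commutatorElement Pointwise

universe u v w

/-- A subgroup generated by involutions commuting modulo a central subgroup. -/
theorem card_closure_involutions {E : Type u} [Group E] [Finite E] {ι : Type*} (g : ι → E) (Z : Subgroup E)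
    (h2 : ∀ i, g i * g i = 1) (hc : ∀ i, ∀ z ∈ Z, Commute z (g i)) (hcomm : ∀ i j, ⁅g i, g j⁆ ∈ Z)
    (S : Finset ι) : Nat.card ↥(closure (g '' ↑S) ⊔ Z) ≤ 2 ^ S.card * Nat.card Z := by
  classical
  induction S using Finset.induction_on with
  | empty => simp
  | insert i S hi ih =>
    set W := closure (g '' ↑S) ⊔ Z
    have hn : zpowers (g i) ≤ normalizer (W : Set E) := by
      rw [zpowers_le]
      have hle : W ≤ W.comap (MulAut.conj (g i)).toMonoidHom := by
        refine sup_le ((closure_le _).2 ?_) fun z hz => ?_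
        · rintro _ ⟨j, hj, rfl⟩
          show g i * g j * (g i)⁻¹ ∈ W
          rw [show g i * g j * (g i)⁻¹ = ⁅g i, g j⁆ * g j by rw [commutatorElement_def]; group]
          exact mul_mem (mem_sup_right (hcomm i j)) (mem_sup_left (subset_closure ⟨j, hj, rfl⟩))
        · show g i * z * (g i)⁻¹ ∈ W
          rw [← (hc i z hz).eq, mul_inv_cancel_right]
          exact mem_sup_right hz
      have hinv : (g i)⁻¹ = g i := inv_eq_of_mul_eq_one_right (h2 i)
      refine mem_normalizer_iff.2 fun x => ⟨fun hx => hle hx, fun hx => ?_⟩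
      have h : g i * (g i * x * (g i)⁻¹) * (g i)⁻¹ ∈ W := hle hx
      rwa [show g i * (g i * x * (g i)⁻¹) * (g i)⁻¹ = g i * g i * x * (g i * g i)⁻¹ by group, h2, one_mul,
        inv_one, mul_one] at h
    have hW : closure (g '' ↑(insert i S)) ⊔ Z ≤ W ⊔ zpowers (g i) := by
      rw [Finset.coe_insert, Set.image_insert_eq]
      refine sup_le ((closure_le _).2 ?_) (le_sup_of_le_left le_sup_right)
      rintro x (rfl | hx)
      · exact mem_sup_right (mem_zpowers _)
      · exact mem_sup_left (mem_sup_left (subset_closure hx))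
    have hset := coe_mul_of_right_le_normalizer_left W (zpowers (g i)) hn
    have h1 : Nat.card ↥(closure (g '' ↑(insert i S)) ⊔ Z) ≤ Nat.card (↥W × ↥(zpowers (g i))) :=
      (card_le_of_le hW).trans (Nat.card_le_card_of_surjective
        (fun x : ↥W × ↥(zpowers (g i)) => (⟨x.1.1 * x.2.1, mul_mem (mem_sup_left x.1.2) (mem_sup_right x.2.2)⟩ :
          ↥(W ⊔ zpowers (g i)))) fun y => by
            have hy : (y : E) ∈ (W : Set E) * (zpowers (g i) : Set E) := hset ▸ (SetLike.mem_coe.2 y.2)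
            obtain ⟨a, ha, b, hb, e⟩ := Set.mem_mul.1 hy
            exact ⟨(⟨a, ha⟩, ⟨b, hb⟩), Subtype.ext e⟩)
    rw [Nat.card_prod, Nat.card_zpowers] at h1
    refine h1.trans ?_
    rw [Finset.card_insert_of_notMem hi, pow_succ]
    calc Nat.card ↥W * orderOf (g i) ≤ 2 ^ S.card * Nat.card Z * 2 :=
          Nat.mul_le_mul ih (orderOf_le_of_pow_eq_one two_pos (by rw [sq, h2]))
      _ = _ := by ring

namespace Rad

variable {F K : Type w} [Field F] [Field K] [Algebra F K] {G : Type v} [Group G] (R : Rad F K G)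
  {E : Type u} [Group E] {σ : E →* G} (hk : σ.ker ≤ center E) (hσ : Function.Surjective σ)

include hk hσ in
/-- The subgroup generated by the translates of the lifted long root element covers the radical. -/
theorem binary_cover [Fintype K] (hFs : ∀ x : F, x ≠ 0 → x = 1) (hK : Fintype.card K = 8) (M : Subgroup G)
    (hMz : R.H.Z.range ≤ M) (hMu : ∀ t, R.H.u t * R.a 1 * (R.H.u t)⁻¹ ∈ M) : R.Qg ≤ M := by
  have hF2 : (1 : F) + 1 = 0 := by
    by_contra h
    exact one_ne_zero (add_eq_left.1 (hFs _ h))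
  have hK2 : (1 : K) + 1 = 0 := by
    have h := congrArg (algebraMap F K) hF2
    rwa [map_add, map_one, map_zero] at h
  have hneg : ∀ x : K, -x = x := fun x => by linear_combination (-x) * hK2
  have hN1 : ∀ k : Kˣ, R.H.N k = 1 := fun k => hFs _ (R.H.N_ne k)
  have he1 : R.H.e = 1 := hFs _ R.H.e_ne
  obtain ⟨z1, hAu⟩ := R.Au1
  have hAu' : R.a 1 * R.H.u 1 = R.H.u 1 * (R.a 1 * R.b 1 * R.c 1 * R.d 1 * R.z z1.toAdd) := by
    have h : R.a 1 * R.H.u 1 = R.H.u 1 * (R.a 1 * R.b (-1) * R.c 1 * R.d R.H.e * R.z z1.toAdd) := hAu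
    rwa [hneg, he1] at h
  have hz : ∀ x, R.z x ∈ M := fun x => hMz ⟨_, rfl⟩
  have ha : R.a 1 ∈ M := by
    have := hMu 0
    rwa [R.u_zero, one_mul, inv_one, mul_one] at this
  -- the translates
  have hm : ∀ t : K, t ≠ 0 → R.b t * R.c t⁻¹ * R.d 1 ∈ M := by
    intro t ht
    obtain ⟨s, k, e⟩ := R.dec (Units.mk0 t ht)
    rw [Units.val_mk0, hFs _ s.ne_zero, one_smul] at e
    have h1 : (R.H.u 1)⁻¹ * R.a 1 * R.H.u 1 = R.a 1 * R.b 1 * R.c 1 * R.d 1 * R.z z1.toAdd := by
      rw [mul_assoc, hAu', inv_mul_cancel_left]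
    have h2 : R.H.u (-t) * R.a 1 * (R.H.u (-t))⁻¹ =
        R.a 1 * R.b t * R.c t⁻¹ * R.d 1 * R.z z1.toAdd := by
      have h := congrArg (fun g => R.H.hk k * g * (R.H.hk k)⁻¹) h1
      have eh : ∀ g g' : G, R.H.hk k * (g * g') * (R.H.hk k)⁻¹ =
          R.H.hk k * g * (R.H.hk k)⁻¹ * (R.H.hk k * g' * (R.H.hk k)⁻¹) := fun g g' => by group
      simp only [eh, hk_a, hk_b, hk_c, hk_d, hk_u, hN1, inv_one, one_smul, one_mul, mul_one, ← R.u_neg] at h
      have hzk : R.H.hk k * R.z z1.toAdd * (R.H.hk k)⁻¹ = R.z z1.toAdd := by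
        rw [(R.hk_z k _).eq, mul_inv_cancel_right]
      rw [hzk, mul_neg_one, hneg, inv_pow, ← e] at h
      rw [← R.u_neg, hneg, hneg]
      exact h
    have h3 := mul_mem (mul_mem (inv_mem ha) (h2 ▸ hMu (-t))) (inv_mem (hz z1.toAdd))
    convert h3 using 1
    group
  -- reorder a product modulo the centre
  have hswap : ∀ x y, R.c y * R.b x = R.b x * R.c y * R.z (R.H.L (x * y)) := fun x y => R.H.CB x y
  have hpair : ∀ x y x' y' (d d' : F), R.b x * R.c y * R.d d * (R.b x' * R.c y' * R.d d') =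
      R.b (x + x') * R.c (y + y') * R.d (d + d') * R.z (R.H.L (x' * y)) := by
    intro x y x' y' d d'
    calc R.b x * R.c y * R.d d * (R.b x' * R.c y' * R.d d')
        = R.b x * R.c y * (R.d d * R.b x') * (R.c y' * R.d d') := by group
      _ = R.b x * (R.c y * R.b x') * (R.d d * R.c y') * R.d d' := by rw [(R.bd x' d).symm.eq]; group
      _ = R.b x * R.b x' * R.c y * (R.z (R.H.L (x' * y)) * R.c y') * (R.d d * R.d d') := by
          rw [hswap, (R.cd y' d).symm.eq]; group
      _ = R.b x * R.b x' * (R.c y * R.c y') * (R.z (R.H.L (x' * y)) * (R.d d * R.d d')) := by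
          rw [(R.zc _ y').eq]; group
      _ = _ := by rw [R.b_add, R.c_add, R.d_add, (R.zd _ (d + d')).eq]; group
  have hmul : ∀ x y x' y' (d d' : F), R.b x * R.c y * R.d d ∈ M → R.b x' * R.c y' * R.d d' ∈ M →
      R.b (x + x') * R.c (y + y') * R.d (d + d') ∈ M := fun x y x' y' d d' h h' => by
    have := mul_mem (mul_mem h h') (inv_mem (hz (R.H.L (x' * y))))
    rwa [hpair, mul_inv_cancel_right] at this
  obtain ⟨x, -, hx0, hx1, -⟩ := R.big
  have hx1' : 1 + x ≠ 0 := fun h => hx1 (by linear_combination h - hK2)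
  have hcx : 1 + x⁻¹ + (1 + x)⁻¹ ≠ 0 := by
    intro h
    have h2 : x ^ 2 + x + 1 = 0 := by
      field_simp at h
      linear_combination h - x * hK2
    have h3 : x ^ 3 = 1 := by linear_combination (x - 1) * h2
    have h7 := FiniteField.pow_card_sub_one_eq_one x hx0
    rw [hK, show 8 - 1 = 3 * 2 + 1 from rfl, pow_add, pow_mul, h3, one_pow, one_mul, pow_one] at h7
    exact hx1 h7
  have hcd : ∀ c : K, c ≠ 0 → R.c c * R.d 1 ∈ M := by
    intro c hc
    obtain ⟨r, hr, er⟩ : ∃ r : K, r ≠ 0 ∧ (1 + x⁻¹ + (1 + x)⁻¹) * r⁻¹ = c :=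
      ⟨(1 + x⁻¹ + (1 + x)⁻¹) / c, div_ne_zero hcx hc, by rw [inv_div, mul_div_cancel₀ _ hcx]⟩
    have h := hmul _ _ _ _ _ _ (hmul _ _ _ _ _ _ (hm r hr) (hm (r * x) (mul_ne_zero hr hx0)))
      (hm (r * (1 + x)) (mul_ne_zero hr hx1'))
    have e1 : r + r * x + r * (1 + x) = 0 := by linear_combination (r + r * x) * hK2
    have e2 : r⁻¹ + (r * x)⁻¹ + (r * (1 + x))⁻¹ = c := by rw [← er, mul_inv, mul_inv]; ring
    rw [e1, e2, hF2, zero_add, R.b_zero, one_mul] at h
    exact h
  have hcc : ∀ c : K, R.c c ∈ M := by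
    intro c
    by_cases hc : c = 0
    · rw [hc, R.c_zero]; exact one_mem _
    obtain ⟨c', h0, hne⟩ : ∃ c' : K, c' ≠ 0 ∧ c' ≠ c := by
      by_cases hcx' : c = 1
      · exact ⟨x, hx0, hcx' ▸ hx1⟩
      · exact ⟨1, one_ne_zero, Ne.symm hcx'⟩
    have hne' : c + c' ≠ 0 := fun h => hne (by rw [eq_neg_of_add_eq_zero_right h, hneg])
    have h := hmul 0 c' 0 (c + c') 1 1 (by rw [R.b_zero, one_mul]; exact hcd c' h0)
      (by rw [R.b_zero, one_mul]; exact hcd _ hne')
    rwa [hF2, R.d_zero, mul_one, add_zero, R.b_zero, one_mul,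
      show c' + (c + c') = c by linear_combination c' * hK2] at h
  have hd : R.d 1 ∈ M := by
    have := mul_mem (inv_mem (hcc 1)) (hcd 1 one_ne_zero)
    rwa [inv_mul_cancel_left] at this
  have hb : ∀ t, R.b t ∈ M := fun t => by
    by_cases ht : t = 0
    · rw [ht, R.b_zero]; exact one_mem _
    · have := mul_mem (mul_mem (hm t ht) (inv_mem hd)) (inv_mem (hcc t⁻¹))
      rwa [mul_inv_cancel_right, mul_inv_cancel_right] at this
  refine R.gens_closure.ge.trans ((closure_le _).2 ?_)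
  rintro g (⟨y, rfl⟩ | ⟨y, rfl⟩ | ⟨y, rfl⟩ | ⟨y, rfl⟩ | ⟨y, rfl⟩)
  · exact hz y
  · by_cases hy : y = 0
    · rw [hy, R.a_zero]; exact one_mem _
    · rw [hFs y hy]; exact ha
  · exact hb y
  · exact hcc y
  · by_cases hy : y = 0
    · rw [hy, R.d_zero]; exact one_mem _
    · rw [hFs y hy]; exact hd

include hk hσ in
/-- Over the field with two elements. -/
theorem exists_complement_binary [Finite G] [Finite E] [Fintype K] (hFs : ∀ x : F, x ≠ 0 → x = 1)
    (hK : Fintype.card K = 8) :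
    ∃ Y : Subgroup E, IsComp σ R.Qg Y ∧ ∀ e t, σ e = R.H.u t → ∀ y ∈ Y, e * y * e⁻¹ ∈ Y := by
  classical
  have hF2 : (1 : F) + 1 = 0 := by
    by_contra h
    exact one_ne_zero (add_eq_left.1 (hFs _ h))
  have hK2 : (1 : K) + 1 = 0 := by
    have h := congrArg (algebraMap F K) hF2
    rwa [map_add, map_one, map_zero] at h
  obtain ⟨cx, hcx⟩ := R.exists_d_eq 1
  set C' := lift hσ (R.c cx)
  set U' := lift hσ (R.H.u (-1))
  set d0 := ⁅C', U'⁆ with hd0
  have hσd : σ d0 = R.d 1 := by rw [hd0, map_commutatorElement, σ_lift, σ_lift, ← hcx]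
  have hd2 : d0 * d0 = 1 := by
    have hc : Commute ⁅C', U'⁆ C' := (R.lc_cd hk hσ cx 1 _ _ (σ_lift hσ _) hσd).symm
    rw [hd0, ← comm_mul_left hc]
    refine commutatorElement_eq_one_iff_commute.2 (mem_center_iff.1 (hk ?_) U').symm
    rw [MonoidHom.mem_ker, map_mul, σ_lift, R.c_add, show cx + cx = 0 by linear_combination cx * hK2, R.c_zero]
  obtain ⟨y, hy⟩ := R.exists_w_a hk hσ 1
  have hy1 : y = 1 := by
    refine hFs y fun h => one_ne_zero (α := F) ?_
    rw [h, R.d_zero, mul_one, mul_inv_cancel] at hy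
    have h1 := R.comm_ad 1 1
    rw [hy, commutatorElement_one_left, ← R.z_zero, one_mul] at h1
    exact neg_eq_zero.1 (R.z_inj h1).symm
  subst hy1
  set W' := lift hσ R.H.w⁻¹
  set a0 := W' * d0 * W'⁻¹
  have hσa : σ a0 = R.a 1 := by rw [hy, map_mul, map_mul, map_inv, hσd, σ_lift]
  have ha2 : a0 * a0 = 1 := by
    rw [show a0 * a0 = W' * (d0 * d0) * W'⁻¹ by simp only [a0]; group, hd2]; group
  let g : K → E := fun t => lift hσ (R.H.u t) * a0 * (lift hσ (R.H.u t))⁻¹
  have hgQ : ∀ t, g t ∈ R.Qg.comap σ := fun t =>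
    R.Qg_u hk (σ_lift hσ _) _ (mem_comap.2 (hσa ▸ R.a_mem 1))
  obtain ⟨hcent, hcl⟩ := R.class_two hk hσ
  set Z := R.Z0 hk hσ
  set W : Subgroup E := closure (g '' ↑(Finset.univ : Finset K)) ⊔ Z with hW
  have hcardW : Nat.card W ≤ 2 ^ Fintype.card K * Nat.card Z :=
    card_closure_involutions g Z
      (fun t => by
        rw [show g t * g t = lift hσ (R.H.u t) * (a0 * a0) * (lift hσ (R.H.u t))⁻¹ by simp only [g]; group, ha2]
        group)
      (fun t z hz => hcent z hz _ (hgQ t)) (fun i j => hcl _ (hgQ i) _ (hgQ j)) Finset.univ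
  have hWQ : W ≤ R.Qg.comap σ := sup_le ((closure_le _).2 (by rintro _ ⟨t, -, rfl⟩; exact hgQ t)) (R.Z0_le hk hσ)
  have hmap : W.map σ = R.Qg := by
    refine le_antisymm (map_le_iff_le_comap.2 hWQ) (R.binary_cover hk hσ hFs hK _ ?_ ?_)
    · exact (R.Z0_comp hk hσ).1.ge.trans (map_mono le_sup_right)
    · intro t
      refine ⟨g t, mem_sup_left (subset_closure ⟨t, Finset.mem_coe.2 (Finset.mem_univ t), rfl⟩), ?_⟩
      simp only [g, map_mul, map_inv, σ_lift, hσa]
  refine ⟨W, ⟨hmap, ?_⟩, ?_⟩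
  · have hFcard : Nat.card F = 2 := by
      rw [Nat.card_eq_two_iff' (0 : F)]
      exact ⟨1, one_ne_zero, fun x hx => hFs x hx⟩
    have hZ2 : Nat.card Z ≤ 2 := by
      haveI : Finite (Multiplicative F) := Nat.finite_of_card_ne_zero (α := Multiplicative F) (by
        show Nat.card F ≠ 0; omega)
      refine le_trans (Nat.card_le_card_of_surjective _ (MonoidHom.rangeRestrict_surjective _)) ?_
      exact hFcard.le
    have hQ : 2 ^ 8 * 2 ≤ Nat.card R.Qg := by
      have h := R.card_Qg_ge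
      rw [hFcard, Nat.card_eq_fintype_card (α := K), hK] at h
      omega
    let π : ↥W →* ↥R.Qg := (σ.comp W.subtype).codRestrict R.Qg fun x => hmap ▸ mem_map_of_mem σ x.2
    have hπ : Function.Surjective π := fun x => by
      obtain ⟨w, hw, e⟩ : (x : G) ∈ W.map σ := hmap.symm ▸ x.2
      exact ⟨⟨w, hw⟩, Subtype.ext e⟩
    have hbij := hπ.bijective_of_nat_card_le (by
      refine hcardW.trans (le_trans ?_ hQ)
      rw [hK]
      exact Nat.mul_le_mul_left _ hZ2)
    rw [eq_bot_iff]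
    intro x hx
    obtain ⟨h1, h2⟩ := mem_inf.1 hx
    have : π ⟨x, h1⟩ = π 1 := by rw [map_one]; exact Subtype.ext h2
    exact mem_bot.2 (congrArg Subtype.val (hbij.1 this) :)
  · intro e t ht
    have hle : W ≤ W.comap (MulAut.conj e).toMonoidHom := by
      refine sup_le ((closure_le _).2 ?_) fun z hz => ?_
      · rintro _ ⟨r, -, rfl⟩
        refine mem_sup_left (subset_closure ⟨t + r, Finset.mem_coe.2 (Finset.mem_univ _), ?_⟩)
        show g (t + r) = e * g r * e⁻¹
        set L := lift hσ (R.H.u (t + r))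
        have hzc : L⁻¹ * (e * lift hσ (R.H.u r)) ∈ center E := hk (by
          rw [MonoidHom.mem_ker, map_mul, map_mul, map_inv, σ_lift, σ_lift, ht, R.u_add, inv_mul_cancel])
        set z := L⁻¹ * (e * lift hσ (R.H.u r)) with hz
        calc g (t + r) = L * (z * a0 * z⁻¹) * L⁻¹ := by
              rw [← mem_center_iff.1 hzc a0, mul_inv_cancel_right]
          _ = _ := by simp only [hz, g]; group
      · show e * z * e⁻¹ ∈ W
        rw [R.Z0_u hk hσ ht z hz]
        exact mem_sup_right hz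
    exact fun y hy => hle hy

end Rad

end Cfsg.Agent.Lib.TwMult
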