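import Cfsg.Agent.Lib.TwMult.D4Rank
import Cfsg.Agent.Lib.TwMult.HeisBinary
import Cfsg.Agent.Lib.ExcDeg48.D4Inst

/-!
The radical of the Heisenberg parabolic of ³D₄(q).
-/

set_option autoImplicit false
set_option maxRecDepth 100000
set_option linter.unusedSectionVars false

namespace Cfsg.Agent.Lib.TwMult.D4

open Cfsg.Lie
open Cfsg.Agent.Lib.ChevStructure Cfsg.Agent.Lib.LieTwisted.Twist Cfsg.Agent.Lib.LieTwisted.Twist.D4
open Cfsg.Agent.Lib.LieTwisted Cfsg.Agent.Lib.ExcDeg48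
open scoped MatrixGroups

universe u

/-- The group of the roots outside an orbit is normalised by the group of the orbit. -/
theorem off_conj {D : ChevalleyDatum} {C : Core D} {K : Type*} [Field K] [Finite K] (T : Tw C K)
    (m : Fin T.nn) : ∀ c ∈ uO T m, ∀ a ∈ uS T (C.Pos \ C.inv' (T.wO m)),
    c * a * c⁻¹ ∈ uS T (C.Pos \ C.inv' (T.wO m)) := by
  intro c hc a ha
  have hA := fun {x : ↥T.W} (hx : x ∈ uS T (C.Pos \ C.inv' (T.wO m))) =>
    US_le_raise C (outμ T m) K (fun r hr => lev_off T m hr) ((mem_uS T).1 hx)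
  obtain ⟨a5, ha5, c5, hc5, e5⟩ := exists_split T m (c * a * c⁻¹) (mul_mem (mul_mem (uO_le T m hc)
    ((mem_uS T).2 (C.US_mono K (fun _ hr => hr.1) ((mem_uS T).1 ha)))) (inv_mem (uO_le T m hc)))
  have hraise := Subgroup.mem_subgroupOf.1 (rankOne_le_level T m (Subgroup.mem_sup_left hc5))
  have h5 : c5 = a5⁻¹ * (c * a * c⁻¹) := by rw [e5]; group
  have hup : (c5 : GL D.Idx K) ∈ upperU K (fun a => lev (outμ T m) (C.wt a)) 0 le_rfl := by
    rw [h5, Subgroup.coe_mul, Subgroup.coe_inv, Subgroup.coe_mul, Subgroup.coe_mul, Subgroup.coe_inv]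
    refine mul_mem (inv_mem (hA ha5)) ?_
    exact upperU_conj (Subgroup.mem_subgroupOf.1 (rankOne_le_level T m (Subgroup.mem_sup_left hc))) (hA ha)
  have h : (c5 : GL D.Idx K) ∈ levelGroup C (outμ T m) K ⊓
      upperU K (fun a => lev (outμ T m) (C.wt a)) 0 le_rfl := Subgroup.mem_inf.2 ⟨hraise, hup⟩
  rw [levelGroup_inf_raise, Subgroup.mem_bot] at h
  rw [e5, show c5 = 1 from Subtype.ext h, mul_one]
  exact ha5

/-- The rows of the Cartan integers at the Levi roots. -/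
theorem cartan_u : D4Model.rowD 18 = ![2, -1, 0, 0] ∧ D4Model.rowD 13 = ![0, -1, 2, 0] ∧
    D4Model.rowD 12 = ![0, -1, 0, 2] := by
  refine ⟨?_, ?_, ?_⟩ <;> decide +kernel

theorem not_levi : ∀ r ∈ ([14, 22, 23, 19, 16, 15, 17, 20, 21] : List (Fin 24)),
    12 ≤ r.val ∧ (⟨r.val, r.isLt⟩ : Rt chevD4) ∉ Jr 1 := by decide +kernel

theorem levi : ∀ r ∈ ([18, 13, 12] : List (Fin 24)), (⟨r.val, r.isLt⟩ : Rt chevD4) ∈ Jr 1 := by decide +kernel

variable {K : Type u} [Field K] [Fintype K] {q : ℕ} {φ : K ≃+* K} (F : Frob.Facts K q 3 φ) (hq1 : 1 < q)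
  (hK : Fintype.card K = q ^ 3)

local notation "HS" => D4Model.heisD4 F hq1 hK

theorem u_add (s t : K) :
    D4Model.hu F hq1 hK s * D4Model.hu F hq1 hK t = D4Model.hu F hq1 hK (s + t) := by
  refine Subtype.ext ?_
  simp only [Subgroup.coe_mul, D4Model.hu_val]
  rw [D4Model.mul3 (D4Model.cm (by decide) _ _) (D4Model.cm (by decide) _ _) (D4Model.cm (by decide) _ _)]
  simp only [D4Model.x_add, map_add, neg_add]

theorem hku (k : Kˣ) (t : K) : D4Model.hHk F hq1 hK k * D4Model.hu F hq1 hK t =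
    D4Model.hu F hq1 hK ((k : K) ^ 2 * t) * D4Model.hHk F hq1 hK k := by
  refine D4Model.mk_eq F hq1 hK ?_
  simp only [Subgroup.coe_mul, D4Model.hu_val]
  refine D4Model.tor_orbit F hq1 hK _ _ cartan_u.1 cartan_u.2.1 cartan_u.2.2 _ _ _ ?_ ?_ ?_ <;>
    simp [D4Model.fixU_val, zpow_two] <;> ring

theorem h1u (s : (D4Model.Fq φ)ˣ) (t : K) :
    Commute (D4Model.hH1 F hq1 hK s) (D4Model.hu F hq1 hK t) := by
  refine D4Model.comGr F hq1 hK (D4Model.com3 ?_ ?_ ?_)
  · show _ * _ = _ * _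
    rw [D4Model.h1_single F hq1 hK s 18 cartan_u.1 0 (by decide), pow_zero, one_mul]
  · show _ * _ = _ * _
    rw [D4Model.h1_single F hq1 hK s 13 cartan_u.2.1 0 (by decide), pow_zero, one_mul]
  · show _ * _ = _ * _
    rw [D4Model.h1_single F hq1 hK s 12 cartan_u.2.2 0 (by decide), pow_zero, one_mul]

theorem Au1 : ∃ z, (HS).A (.ofAdd 1) * (HS).u 1 = (HS).u 1 *
    ((HS).A (.ofAdd 1) * (HS).B (.ofAdd (-1)) * (HS).C (.ofAdd 1) * (HS).D (.ofAdd (HS).e) * (HS).Z z) := by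
  refine ⟨Multiplicative.ofAdd (-1), D4Model.mk_eq F hq1 hK ?_⟩
  show D4Model.x 14 (1 : K) * (D4Model.x 18 (-1) * (D4Model.x 13 (-φ 1) * D4Model.x 12 (-φ (φ 1)))) =
    D4Model.x 18 (-1) * (D4Model.x 13 (-φ 1) * D4Model.x 12 (-φ (φ 1))) *
      (D4Model.x 14 (1 : K) * (D4Model.x 19 (-1) * (D4Model.x 16 (-φ (-1)) * D4Model.x 15 (-φ (φ (-1))))) *
        (D4Model.x 17 1 * (D4Model.x 20 (-φ 1) * D4Model.x 21 (-φ (φ 1)))) *
        D4Model.x 22 (-(1 : K)) * D4Model.x 23 (-1))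
  have h := D4Model.shear (1 : K) 1
  simp only [map_one, map_neg, neg_neg, mul_one, one_pow] at h ⊢
  exact h

/-- The Levi root group. -/
theorem hu_mem (t : K) : D4Model.hu F hq1 hK t ∈ uO (orth F hq1 hK).tw (1 : Fin 2) := by
  refine (mem_uS (orth F hq1 hK).tw).2 ?_
  have hS : C.inv' ((orth F hq1 hK).tw.wO (1 : Fin 2)) = {r | r ∈ Jr 1} := by
    show C.inv' (C.pprod ((orth F hq1 hK).Jl (1 : Fin 2))) = _
    rw [Jl_eq F hq1 hK]
    exact inv'_Jw F hq1 hK 1
  rw [hS]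
  rw [D4Model.hu_val]
  refine mul_mem (C.X_mem_US K (S := {r | r ∈ Jr 1}) (levi 18 (by decide)) _) (mul_mem
    (C.X_mem_US K (S := {r | r ∈ Jr 1}) (levi 13 (by decide)) _)
    (C.X_mem_US K (S := {r | r ∈ Jr 1}) (levi 12 (by decide)) _))

theorem x_off {r : Fin 24} (hr : r ∈ ([14, 22, 23, 19, 16, 15, 17, 20, 21] : List (Fin 24))) (t : K) :
    D4Model.x r t ∈ C.US K (C.Pos \ C.inv' ((orth F hq1 hK).tw.wO (1 : Fin 2))) := by
  have hS : C.inv' ((orth F hq1 hK).tw.wO (1 : Fin 2)) = {r | r ∈ Jr 1} := by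
    show C.inv' (C.pprod ((orth F hq1 hK).Jl (1 : Fin 2))) = _
    rw [Jl_eq F hq1 hK]
    exact inv'_Jw F hq1 hK 1
  rw [hS]
  refine C.X_mem_US K (S := C.Pos \ {r | r ∈ Jr 1}) ⟨?_, (not_levi r hr).2⟩ _
  show chevD4.nroots ≤ 2 * r.val
  rw [show chevD4.nroots = 24 from rfl]
  have := (not_levi r hr).1
  omega

theorem Qg_le : (HS).Z.range ⊔ (HS).A.range ⊔ (HS).B.range ⊔ (HS).C.range ⊔ (HS).D.range ≤
    uS (orth F hq1 hK).tw (C.Pos \ C.inv' ((orth F hq1 hK).tw.wO (1 : Fin 2))) := by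
  refine sup_le (sup_le (sup_le (sup_le ?_ ?_) ?_) ?_) ?_ <;> rintro _ ⟨x, rfl⟩ <;>
    refine (mem_uS (orth F hq1 hK).tw).2 ?_
  · exact x_off F hq1 hK (by decide) _
  · exact x_off F hq1 hK (by decide) _
  · exact mul_mem (x_off F hq1 hK (by decide) _) (mul_mem (x_off F hq1 hK (by decide) _) (x_off F hq1 hK (by decide) _))
  · exact mul_mem (x_off F hq1 hK (by decide) _) (mul_mem (x_off F hq1 hK (by decide) _) (x_off F hq1 hK (by decide) _))
  · exact x_off F hq1 hK (by decide) _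

theorem hZ_inj : Function.Injective (HS).Z := fun a b h =>
  Multiplicative.toAdd.injective (Subtype.ext (D4Model.x_inj (congrArg Subtype.val h)))

theorem nD_pow (y : K) : ((D4Model.nD F y : D4Model.Fq φ) : K) = y ^ (q ^ 2 + q + 1) := by
  rw [D4Model.nD_val, show φ (φ y) = y ^ q ^ 2 from F.iterate 2 y, F.apply, pow_add, pow_add, pow_one]
  ring

/-- The norm on the units. -/
def Nh : Kˣ →* (D4Model.Fq φ)ˣ :=
  MonoidHom.mk' (fun k => Units.mk0 (D4Model.nD F (k : K)) (D4Model.nD_ne F k)) fun a b => Units.ext (by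
    refine Subtype.ext ?_
    show D4Model.nD F ((a * b : Kˣ) : K) = ((D4Model.nD F (a : K) : D4Model.Fq φ) : K) * (D4Model.nD F (b : K) : K)
    rw [nD_pow, nD_pow, nD_pow, Units.val_mul, mul_pow])

include hq1 hK in
theorem Nh_spec : Function.Surjective (Nh F) ∧ 7 ≤ Nat.card (Nh F).ker := by
  classical
  haveI : Fintype (D4Model.Fq φ) := Fintype.ofFinite _
  set m := q ^ 2 + q + 1 with hm
  have hker : Nat.card (Nh F).ker ≤ m := by
    have hsub : ∀ k : (Nh F).ker, (k : Kˣ) ∈ (Finset.univ.filter fun a : Kˣ => a ^ m = 1) := fun k => by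
      refine Finset.mem_filter.2 ⟨Finset.mem_univ _, Units.ext ?_⟩
      have h := congrArg (fun u : (D4Model.Fq φ)ˣ => ((u : D4Model.Fq φ) : K)) (MonoidHom.mem_ker.1 k.2)
      rw [Units.val_pow_eq_pow_val, Units.val_one, hm, ← nD_pow F]
      exact h
    refine (Nat.card_le_card_of_injective (fun k : (Nh F).ker => (⟨(k : Kˣ), hsub k⟩ :
      ↥(Finset.univ.filter fun a : Kˣ => a ^ m = 1))) fun a b h => Subtype.ext (congrArg Subtype.val h :)).trans ?_
    rw [Nat.card_eq_fintype_card, Fintype.card_coe]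
    exact IsCyclic.card_pow_eq_one_le (by omega)
  have hF : Nat.card (D4Model.Fq φ)ˣ = q - 1 := by
    rw [Nat.card_eq_fintype_card, Fintype.card_units, D4Model.card_Fq F]
  have hKu : Nat.card Kˣ = (q - 1) * m := by
    rw [Nat.card_eq_fintype_card, Fintype.card_units, hK, hm]
    have h1 : 1 ≤ q ^ 3 := Nat.one_le_pow _ _ (by omega)
    zify [h1, hq1.le]
    ring
  have hprod : Nat.card (Nh F).ker * Nat.card (Nh F).range = (q - 1) * m := by
    rw [← hKu, ← (Nh F).ker.card_mul_index, Subgroup.index_ker]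
  have hrange : Nat.card (Nh F).range ≤ q - 1 := hF ▸ Subgroup.card_le_card_group _
  have hm0 : 0 < m := by omega
  constructor
  · refine MonoidHom.range_eq_top.1 (Subgroup.eq_top_of_le_card _ ?_)
    rw [hF]
    by_contra h
    push Not at h
    have := Nat.mul_le_mul_right (Nat.card (Nh F).range) hker
    nlinarith
  · have h2 : 2 ^ 2 ≤ q ^ 2 := Nat.pow_le_pow_left hq1 2
    have h := Nat.mul_le_mul_left (Nat.card (Nh F).ker) hrange
    rw [hprod, mul_comm (q - 1)] at h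
    have := Nat.le_of_mul_le_mul_right h (by omega)
    omega

include hq1 hK in
theorem exists_k0 : ∃ k : Kˣ, D4Model.nD F (k : K) = 1 ∧ (k : K) ^ 2 ≠ 1 := by
  classical
  by_contra hcon
  push Not at hcon
  have hsub : ∀ k : (Nh F).ker, (k : Kˣ) ∈ (Finset.univ.filter fun a : Kˣ => a ^ 2 = 1) := fun k => by
    refine Finset.mem_filter.2 ⟨Finset.mem_univ _, Units.ext ?_⟩
    rw [Units.val_pow_eq_pow_val, Units.val_one]
    exact hcon _ (congrArg Units.val (MonoidHom.mem_ker.1 k.2))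
  have h1 := Nat.card_le_card_of_injective (fun k : (Nh F).ker => (⟨(k : Kˣ), hsub k⟩ :
      ↥(Finset.univ.filter fun a : Kˣ => a ^ 2 = 1))) fun a b h => Subtype.ext (congrArg Subtype.val h :)
  rw [Nat.card_eq_fintype_card (α := ↥(Finset.univ.filter fun a : Kˣ => a ^ 2 = 1)), Fintype.card_coe] at h1
  have h2 := IsCyclic.card_pow_eq_one_le (α := Kˣ) (n := 2) two_pos
  have h7 := (Nh_spec F hq1 hK).2
  omega

include F in
theorem dec (z : Kˣ) : ∃ (s : (D4Model.Fq φ)ˣ) (k : Kˣ), (z : K) = (s : D4Model.Fq φ) • (k : K) ^ 2 := by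
  obtain ⟨j, hj⟩ : ∃ j, q ^ 2 + q + 1 = 2 * j + 1 := by
    obtain ⟨j, hj⟩ := Nat.even_mul_succ_self q
    exact ⟨j, by rw [show q ^ 2 + q + 1 = q * (q + 1) + 1 by ring, hj]; ring⟩
  refine ⟨Nh F z, (z ^ j)⁻¹, ?_⟩
  rw [D4Model.smul_val]
  show (z : K) = (D4Model.nD F (z : K) : K) * _
  rw [nD_pow, hj, Units.val_inv_eq_inv_val, Units.val_pow_eq_pow_val, inv_pow, ← pow_mul, mul_comm j 2, pow_succ,
    mul_comm, ← mul_assoc, inv_mul_cancel₀ (pow_ne_zero _ z.ne_zero), one_mul]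

include hK in
theorem hk_pow (k : Kˣ) : D4Model.hHk F hq1 hK k ^ Nat.card Kˣ = 1 := by
  refine Subtype.ext ?_
  rw [SubmonoidClass.coe_pow]
  refine ((map_pow (C.HThom K) _ _).symm.trans ((congrArg (C.HThom K) ?_).trans (map_one _)) :)
  funext i
  exact pow_card_eq_one'

/-- The radical data. -/
noncomputable def rad {p : ℕ} (hp : p.Prime) [CharP K p] (hpq : ∃ n, 1 ≤ n ∧ q = p ^ n) :
    Rad (D4Model.Fq φ) K (D4Model.Gr F hq1 hK) where
  H := HS
  Z_inj := hZ_inj F hq1 hK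
  u_add := u_add F hq1 hK
  hku := hku F hq1 hK
  h1u := h1u F hq1 hK
  Au1 := Au1 F hq1 hK
  u_norm t x hx := by
    have hQ : uS (orth F hq1 hK).tw (C.Pos \ C.inv' ((orth F hq1 hK).tw.wO (1 : Fin 2))) ≤
        (HS).Z.range ⊔ (HS).A.range ⊔ (HS).B.range ⊔ (HS).C.range ⊔ (HS).D.range := by
      haveI : Fintype (D4Model.Fq φ) := Fintype.ofFinite _
      set T := (orth F hq1 hK).tw with hT
      set Uc := uS T (C.Pos \ C.inv' (T.wO (1 : Fin 2)))
      set Ub := uO T (1 : Fin 2)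
      have hP : Nat.card ↥(uS T C.Pos) = q ^ 12 := by
        have h := T.card_posU
        rw [uS, ← Subgroup.inf_subgroupOf_right]
        refine (Nat.card_congr (Subgroup.subgroupOfEquivOfLe inf_le_right).toEquiv).trans (h.trans ?_)
        show q ^ (24 / 2 / 1) = q ^ 12
        norm_num
      have hB : q ^ 3 ≤ Nat.card ↥Ub := by
        rw [← hK, ← Nat.card_eq_fintype_card]
        refine Nat.card_le_card_of_injective (fun t => (⟨D4Model.hu F hq1 hK t, hu_mem F hq1 hK t⟩ : ↥Ub))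
          fun s t e => ?_
        have e' : D4Model.hu F hq1 hK s = D4Model.hu F hq1 hK t := congrArg Subtype.val e
        have e2 := congrArg Subtype.val e'
        simp only [D4Model.hu_val] at e2
        by_contra hne
        obtain ⟨y, hy⟩ := (HS).L_pair (sub_ne_zero.2 hne) 1
        have hs : (HS).C (.ofAdd y) * (HS).u s = (HS).u s * ((HS).C (.ofAdd y) * (HS).D (.ofAdd ((HS).L (s * y)))) :=
          (HS).Cu s y
        rw [show (HS).u s = (HS).u t from e', (HS).Cu t y] at hs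
        have h3 : ((HS).L (t * y) : D4Model.Fq φ) = (HS).L (s * y) := by
          have := congrArg Subtype.val (mul_left_cancel (mul_left_cancel hs))
          exact Subtype.ext (neg_injective (D4Model.x_inj this))
        rw [sub_mul, map_sub, h3, sub_self] at hy
        exact zero_ne_one hy
      have hUc : Nat.card ↥Uc ≤ q ^ 9 := by
        have h : Nat.card (↥Uc × ↥Ub) ≤ Nat.card ↥(uS T C.Pos) :=
          Nat.card_le_card_of_injective (fun x => (⟨x.1.1 * x.2.1, mul_mem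
            ((mem_uS T).2 (C.US_mono K (fun _ hr => hr.1) ((mem_uS T).1 x.1.2))) (uO_le T (1 : Fin 2) x.2.2)⟩ :
            ↥(uS T C.Pos))) fun x y e => by
              refine Subgroup.mul_injective_of_disjoint (disjoint_iff.2 ?_) (congrArg Subtype.val e)
              rw [eq_bot_iff]
              exact le_trans (inf_le_inf_left _ (le_trans le_sup_left le_sup_left)) (off_inf_rankOne T (1 : Fin 2)).le
        rw [Nat.card_prod, hP] at h
        have h2 := (Nat.mul_le_mul_left (Nat.card ↥Uc) hB).trans h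
        rw [show q ^ 12 = q ^ 9 * q ^ 3 by ring] at h2
        exact Nat.le_of_mul_le_mul_right h2 (pow_pos (by omega) _)
      have hQg : q ^ 9 ≤ Nat.card ↥((HS).Z.range ⊔ (HS).A.range ⊔ (HS).B.range ⊔ (HS).C.range ⊔ (HS).D.range) := by
        let inj : D4Model.Fq φ × K × K × D4Model.Fq φ × D4Model.Fq φ → D4Model.Gr F hq1 hK := fun v =>
          (HS).A (.ofAdd v.1) * (HS).B (.ofAdd v.2.1) * (HS).C (.ofAdd v.2.2.1) * (HS).D (.ofAdd v.2.2.2.1) *
            (HS).Z (.ofAdd v.2.2.2.2)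
        have hinj : Function.Injective inj := Rad.heis_prod_injective (HS) (hZ_inj F hq1 hK)
        refine le_trans (le_of_eq ?_) (Nat.card_le_card_of_injective (fun v => (⟨inj v, mul_mem (mul_mem (mul_mem
          (mul_mem (Subgroup.mem_sup_left (Subgroup.mem_sup_left (Subgroup.mem_sup_left (Subgroup.mem_sup_right ⟨_, rfl⟩))))
            (Subgroup.mem_sup_left (Subgroup.mem_sup_left (Subgroup.mem_sup_right ⟨_, rfl⟩))))
          (Subgroup.mem_sup_left (Subgroup.mem_sup_right ⟨_, rfl⟩))) (Subgroup.mem_sup_right ⟨_, rfl⟩))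
          (Subgroup.mem_sup_left (Subgroup.mem_sup_left (Subgroup.mem_sup_left (Subgroup.mem_sup_left ⟨_, rfl⟩))))⟩ :
          ↥((HS).Z.range ⊔ (HS).A.range ⊔ (HS).B.range ⊔ (HS).C.range ⊔ (HS).D.range)))
          fun a b e => hinj (congrArg Subtype.val e))
        rw [Nat.card_prod, Nat.card_prod, Nat.card_prod, Nat.card_prod, Nat.card_eq_fintype_card (α := K), hK,
          Nat.card_eq_fintype_card, D4Model.card_Fq F]
        ring
      exact (Subgroup.eq_of_le_of_card_ge (Qg_le F hq1 hK) (hUc.trans hQg)).ge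
    exact hQ (off_conj _ _ _ (hu_mem F hq1 hK t) _ (Qg_le F hq1 hK hx))
  hk_pow := hk_pow F hq1 hK
  N_surj a ha := by
    obtain ⟨k, hk⟩ := (Nh_spec F hq1 hK).1 (Units.mk0 a ha)
    exact ⟨k, congrArg Units.val hk⟩
  dec z := dec F z
  k0 := exists_k0 F hq1 hK
  big := field_big (by
    rw [hK]
    calc 5 ≤ 2 ^ 3 := by norm_num
      _ ≤ q ^ 3 := Nat.pow_le_pow_left hq1 3)
  p := p
  p_cast := Subtype.ext (by
    show (((p : D4Model.Fq φ)) : K) = 0
    push_cast
    exact CharP.cast_eq_zero K p)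
  p_cop := by
    classical
    obtain ⟨n, hn, rfl⟩ := hpq
    rw [Nat.card_eq_fintype_card, Fintype.card_units, hK, Nat.Prime.coprime_iff_not_dvd hp]
    intro hd
    have h1 : p ∣ (p ^ n) ^ 3 := dvd_pow (dvd_pow_self p (by omega)) (by norm_num)
    have h2 := Nat.dvd_sub h1 hd
    rw [Nat.sub_sub_self (Nat.one_le_pow _ _ (pow_pos hp.pos n))] at h2
    exact hp.not_dvd_one h2

end Cfsg.Agent.Lib.TwMult.D4
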