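import Cfsg.Agent.Lib.TwMult.Perfect
import Cfsg.Agent.Lib.Linear.SL2
import Cfsg.Agent.Lib.Linear.SL2Sylow2
import Cfsg.Agent.Lib.Multiplier.Sylow
import Cfsg.Agent.Lib.Multiplier.Central
import Cfsg.Agent.S3963

/-!
SL₂ has no multiplier away from its characteristic; complements over groups generated by elements of
order prime to the kernel.
-/

set_option autoImplicit false
set_option linter.unusedSectionVars false

namespace Cfsg.Agent.Lib.TwMult

open Subgroup
open scoped MatrixGroups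

universe u

/-- A trivial multiplier has no part at any prime. -/
theorem NoPart.of_trivial {r : ℕ} {X : Type u} [Group X] [Finite X]
    (h : Cfsg.HasCyclicSchurMultiplier X 1) : NoPart r X := by
  intro Γ _ _ σ hσ z hz _
  have hk := Multiplier.hasCyclicSchurMultiplier_one_iff.1 h Γ σ hσ
  rwa [hk, mem_bot] at hz

/-- SL₂ has no multiplier away from the characteristic. -/
theorem noPart_sl2_cross {F : Type u} [Field F] [Fintype F] {p r : ℕ} [hp : Fact p.Prime] [CharP F p]
    (hr : r.Prime) (hrp : r ≠ p) : NoPart r SL(2, F) := by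
  classical
  haveI := Fact.mk hr
  intro Γ _ _ σ hσ z hz hzr
  by_contra hz1
  have hdvd : r ∣ Nat.card σ.ker := by
    have h1 : orderOf (⟨z, hz⟩ : σ.ker) = r :=
      orderOf_eq_prime (Subtype.ext hzr) (fun h => hz1 (congrArg Subtype.val h))
    exact h1 ▸ orderOf_dvd_natCard _
  by_cases hr2 : r = 2
  · subst hr2
    refine Multiplier.not_dvd_card_ker_of_sylow_trivial σ hσ (fun S => ?_) hdvd
    have hodd : Odd (Fintype.card F) := by
      obtain ⟨n, -, hn⟩ := FiniteField.card F p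
      rw [hn]
      exact (hp.out.odd_of_ne_two (Ne.symm hrp)).pow
    obtain ⟨k, _, ⟨e⟩⟩ := Linear.sylow_two_SL2_quaternion hodd S
    haveI : NeZero (2 ^ k) := ⟨pow_ne_zero k two_ne_zero⟩
    rw [Multiplier.hasCyclicSchurMultiplier_one_iff]
    intro Θ _ _ θ hθ
    have hcomp : Cfsg.IsStemExtension (e.toMonoidHom.comp θ) := by
      have hk : (e.toMonoidHom.comp θ).ker = θ.ker := by
        ext x
        simp [MonoidHom.mem_ker]
      exact ⟨e.surjective.comp hθ.1, hk ▸ hθ.2.1, hk ▸ hθ.2.2⟩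
    have hinj := Multiplier.injective_of_trivial (Cfsg.Agent.S3963.result (2 ^ k)) _ hcomp
    rw [MonoidHom.ker_eq_bot_iff]
    exact fun a b h => hinj (congrArg e h)
  · exact Multiplier.not_dvd_card_ker_of_cyclic σ hσ
      (fun S => Linear.isCyclic_of_isPGroup p r hr2 hrp _ S.isPGroup') hdvd

/-- A central extension splits over a subgroup without multiplier at the primes of the kernel, generated
by elements of order a power of another prime. -/
theorem exists_comp_gen {G : Type u} [Group G] {E : Type u} [Group E] [Finite E] {σ : E →* G}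
    (hk : σ.ker ≤ center E) (hσ : Function.Surjective σ) {r : ℕ} (hr : r.Prime)
    (hker : ∃ n, Nat.card σ.ker = r ^ n) {p : ℕ} (hp : p.Prime) (hrp : r ≠ p) (X : Subgroup G)
    (hgen : X ≤ closure {g | g ∈ X ∧ ∃ j, g ^ p ^ j = 1}) (hno : NoPart r ↥X) :
    ∃ T : Subgroup E, IsComp σ X T := by
  haveI := Fact.mk hr
  haveI := Fact.mk hp
  obtain ⟨n, hn⟩ := hker
  set Sp : Set E := {x | σ x ∈ X ∧ ∃ j, x ^ p ^ j = 1} with hSp
  set E1 : Subgroup E := closure Sp with hE1
  have hcop : ∀ j, (p ^ j).Coprime (Nat.card σ.ker) := fun j => by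
    rw [hn]; exact Nat.Coprime.pow _ _ ((Nat.coprime_primes hp hr).2 (Ne.symm hrp))
  have hsurj : X ≤ E1.map σ := by
    refine hgen.trans ((closure_le _).2 ?_)
    rintro g ⟨hg, j, hj⟩
    obtain ⟨x, rfl⟩ := hσ g
    have hx1 : (x ^ p ^ j) ^ r ^ n = 1 := by
      have h1 : x ^ p ^ j ∈ σ.ker := by rw [MonoidHom.mem_ker, map_pow, hj]
      have := pow_card_eq_one' (x := (⟨_, h1⟩ : σ.ker))
      rw [hn] at this
      simpa using congrArg Subtype.val this
    obtain ⟨m, hm⟩ := exists_pow_eq_self_of_coprime (x := σ x) (n := r ^ n)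
      ((hn ▸ (hcop j).symm).coprime_dvd_right (orderOf_dvd_of_pow_eq_one hj))
    refine ⟨(x ^ r ^ n) ^ m, subset_closure ⟨?_, j, ?_⟩, ?_⟩
    · rw [map_pow, map_pow, hm]; exact hg
    · rw [← pow_mul, ← pow_mul, show r ^ n * (m * p ^ j) = p ^ j * r ^ n * m by ring, pow_mul, pow_mul, hx1, one_pow]
    · rw [map_pow, map_pow, hm]
  have hle : E1 ≤ X.comap σ := (closure_le _).2 fun x hx => hx.1
  let g : ↥E1 →* ↥X := (σ.subgroupComap X).comp (inclusion hle)
  have hgs : Function.Surjective g := fun y => by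
    obtain ⟨x, hx, e⟩ := hsurj y.2
    exact ⟨⟨x, hx⟩, Subtype.ext e⟩
  have hgk : ∀ x : ↥E1, x ∈ g.ker → (x : E) ∈ σ.ker := fun x hx =>
    congrArg Subtype.val (MonoidHom.mem_ker.1 hx)
  have hgc : g.ker ≤ center ↥E1 := fun x hx => mem_center_iff.2 fun y =>
    Subtype.ext (mem_center_iff.1 (hk (hgk x hx)) y)
  have hgd : g.ker ≤ commutator ↥E1 := by
    intro x hx
    have hxr : x ^ r ^ n = 1 := by
      have := pow_card_eq_one' (x := (⟨_, hgk x hx⟩ : σ.ker))
      rw [hn] at this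
      exact Subtype.ext (by simpa using congrArg Subtype.val this)
    -- the abelianisation is a p-group
    have hab : ∀ y : Abelianization ↥E1, ∃ j, y ^ p ^ j = 1 := by
      intro y
      obtain ⟨⟨y, hy⟩, rfl⟩ := QuotientGroup.mk'_surjective (commutator ↥E1) y
      show ∃ j, Abelianization.of (⟨y, hy⟩ : ↥E1) ^ p ^ j = 1
      induction hy using closure_induction with
      | mem z hz =>
        obtain ⟨j, hj⟩ := hz.2
        exact ⟨j, by rw [← map_pow]; exact (congrArg _ (Subtype.ext hj)).trans (map_one _)⟩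
      | one => exact ⟨0, by rw [pow_zero, pow_one]; exact map_one _⟩
      | mul a b ha hb iha ihb =>
        obtain ⟨i, hi⟩ := iha
        obtain ⟨j, hj⟩ := ihb
        refine ⟨i + j, ?_⟩
        rw [show (Abelianization.of (G := ↥E1)) ⟨a * b, mul_mem ha hb⟩ =
          Abelianization.of ⟨a, ha⟩ * Abelianization.of ⟨b, hb⟩ from map_mul Abelianization.of (⟨a, ha⟩ : ↥E1) ⟨b, hb⟩, mul_pow,
          pow_add, pow_mul, hi, one_pow, one_mul, mul_comm, pow_mul, hj, one_pow]
      | inv a ha iha =>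
        obtain ⟨i, hi⟩ := iha
        refine ⟨i, ?_⟩
        rw [show (Abelianization.of (G := ↥E1)) ⟨a⁻¹, inv_mem ha⟩ = (Abelianization.of ⟨a, ha⟩)⁻¹ from
          map_inv Abelianization.of (⟨a, ha⟩ : ↥E1), inv_pow, hi, inv_one]
    obtain ⟨j, hj⟩ := hab (Abelianization.of x)
    have h1 : Abelianization.of x ^ r ^ n = 1 := by rw [← map_pow, hxr, map_one]
    have h2 := pow_gcd_eq_one.2 ⟨hj, h1⟩
    rw [Nat.Coprime.gcd_eq_one (Nat.Coprime.pow _ _ ((Nat.coprime_primes hp hr).2 (Ne.symm hrp))), pow_one] at h2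
    exact (Abelianization.ker_of _).le (MonoidHom.mem_ker.2 h2)
  refine ⟨E1, le_antisymm (map_le_iff_le_comap.2 hle) hsurj, ?_⟩
  rw [eq_bot_iff]
  rintro x ⟨hx, hxk⟩
  obtain ⟨y, rfl⟩ : ∃ y : ↥E1, (y : E) = x := ⟨⟨x, hx⟩, rfl⟩
  have hyk : y ∈ g.ker := MonoidHom.mem_ker.2 (Subtype.ext hxk)
  obtain ⟨j, hj⟩ : ∃ j, orderOf y = r ^ j := by
    have : orderOf y ∣ r ^ n := by
      refine orderOf_dvd_of_pow_eq_one ?_
      have := pow_card_eq_one' (x := (⟨_, hgk y hyk⟩ : σ.ker))
      rw [hn] at this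
      exact Subtype.ext (by simpa using congrArg Subtype.val this)
    obtain ⟨j, -, hj⟩ := (Nat.dvd_prime_pow hr).1 this
    exact ⟨j, hj⟩
  cases j with
  | zero =>
    rw [pow_zero] at hj
    rw [orderOf_eq_one_iff.1 hj]
    simp
  | succ j =>
    exfalso
    have hne : y ^ r ^ j ≠ 1 := fun h => by
      have h' := orderOf_dvd_of_pow_eq_one h
      rw [hj, Nat.pow_dvd_pow_iff_le_right hr.one_lt] at h'
      omega
    refine hne (hno ↥E1 g ⟨hgs, hgc, hgd⟩ _ (pow_mem hyk _) ?_)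
    rw [← pow_mul, ← pow_succ, ← hj, pow_orderOf_eq_one]

/-- Over a perfect subgroup with trivial multiplier every central extension splits. -/
theorem exists_comp_trivial {G : Type u} [Group G] {E : Type u} [Group E] [Finite E] {σ : E →* G}
    (hk : σ.ker ≤ center E) (hσ : Function.Surjective σ) (X : Subgroup G)
    (hperf : commutator ↥X = ⊤) (hno : ∀ r, r.Prime → NoPart r ↥X) :
    ∃ T : Subgroup E, IsComp σ X T := by
  set P : Subgroup E := X.comap σ
  set T₀ : Subgroup ↥P := commutator ↥P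
  let f : ↥P →* ↥X := σ.subgroupComap X
  have hfker : f.ker ≤ center ↥P := fun x hx => mem_center_iff.2 fun y =>
    Subtype.ext (mem_center_iff.1 (hk (show (x : E) ∈ σ.ker from congrArg Subtype.val (MonoidHom.mem_ker.1 hx))) y)
  have hf : Function.Surjective f := fun g => by
    obtain ⟨x, hx⟩ := hσ g.1
    exact ⟨⟨x, mem_comap.2 (hx.symm ▸ g.2)⟩, Subtype.ext hx⟩
  have hmap : T₀.map f = ⊤ := by
    rw [show T₀ = ⁅(⊤ : Subgroup ↥P), ⊤⁆ from commutator_def _, map_commutator, ← MonoidHom.range_eq_map,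
      MonoidHom.range_eq_top.2 hf, ← commutator_def, hperf]
  let g : ↥T₀ →* ↥X := f.comp T₀.subtype
  have hg : Function.Surjective g := fun x => by
    obtain ⟨y, hy, rfl⟩ : x ∈ T₀.map f := hmap ▸ mem_top x
    exact ⟨⟨y, hy⟩, rfl⟩
  have hgker : g.ker ≤ center ↥T₀ := fun x hx => mem_center_iff.2 fun y =>
    Subtype.ext (mem_center_iff.1 (hfker hx) y)
  have hT₀ : T₀ = ⁅T₀, T₀⁆ := by
    refine le_antisymm ?_ (commutator_mono le_top le_top)
    have htop : (⊤ : Subgroup ↥P) = T₀ ⊔ f.ker := by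
      rw [← comap_map_eq, hmap, comap_top]
    conv_lhs => rw [show T₀ = ⁅(⊤ : Subgroup ↥P), ⊤⁆ from commutator_def _, htop]
    rw [commutator_le]
    intro a ha b hb
    obtain ⟨a₁, ha₁, a₂, ha₂, rfl⟩ := mem_sup_of_normal_right.1 ha
    obtain ⟨b₁, hb₁, b₂, hb₂, rfl⟩ := mem_sup_of_normal_right.1 hb
    rw [Schur.Fusion.commutator_congr hfker (a' := a₁) (b' := b₁)
      (by rw [map_mul, MonoidHom.mem_ker.1 ha₂, mul_one]) (by rw [map_mul, MonoidHom.mem_ker.1 hb₂, mul_one])]
    exact commutator_mem_commutator ha₁ hb₁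
  have hperf₀ : commutator ↥T₀ = ⊤ := by
    apply map_injective T₀.subtype_injective
    rw [map_subtype_commutator, ← MonoidHom.range_eq_map, range_subtype, ← hT₀]
  have hst : Cfsg.IsStemExtension g := ⟨hg, hgker, by rw [hperf₀]; exact le_top⟩
  have htriv : g.ker = ⊥ := by
    by_contra hne
    obtain ⟨r, hr, hrd⟩ := Nat.exists_prime_and_dvd (mt card_eq_one.1 hne)
    haveI := Fact.mk hr
    obtain ⟨w, hw⟩ := exists_prime_orderOf_dvd_card' (G := g.ker) r hrd
    have := hno r hr ↥T₀ g hst w w.2 (by rw [← coe_pow, ← hw, pow_orderOf_eq_one, coe_one])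
    rw [show w = 1 from Subtype.ext this, orderOf_one] at hw
    exact hr.ne_one hw.symm
  refine ⟨T₀.map P.subtype, ?_, ?_⟩
  · refine le_antisymm ?_ fun x hx => ?_
    · rintro _ ⟨_, ⟨y, -, rfl⟩, rfl⟩
      exact y.2
    · obtain ⟨y, hy, e⟩ : (⟨x, hx⟩ : ↥X) ∈ T₀.map f := hmap ▸ mem_top _
      exact ⟨_, mem_map_of_mem _ hy, congrArg Subtype.val e⟩
  · rw [eq_bot_iff]
    rintro _ ⟨⟨y, hy, rfl⟩, hy1⟩
    have : (⟨y, hy⟩ : ↥T₀) ∈ g.ker := MonoidHom.mem_ker.2 (Subtype.ext hy1)
    rw [htriv, mem_bot] at this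
    rw [mem_bot, show y = 1 from congrArg Subtype.val this, map_one]

end Cfsg.Agent.Lib.TwMult
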