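import Cfsg.Agent.Lib.TwMult.OrthRank
import Cfsg.Agent.Lib.TwMult.SL2Part
import Cfsg.Agent.Lib.LieTwisted.Twist.D4Thms
import Cfsg.Agent.Lib.Linear.Transvection
import Cfsg.Agent.S2117

/-!
³D₄ as a split (B,N)-pair of rank two with groups of rank one SL₂(q) and SL₂(q³).
-/

set_option autoImplicit false
set_option maxRecDepth 100000
set_option linter.unusedSectionVars false

namespace Cfsg.Agent.Lib.TwMult.D4

open Cfsg.Lie
open Cfsg.Agent.Lib.ChevStructure Cfsg.Agent.Lib.LieTwisted.Twist Cfsg.Agent.Lib.LieTwisted.Twist.D4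
open Cfsg.Agent.Lib.LieTwisted
open scoped MatrixGroups

universe u

/-- The orbit word of a node. -/
def Jw : Fin 2 → List (Fin chevD4.rank) :=
  ![[⟨1, by decide⟩], [⟨0, by decide⟩, ⟨2, by decide⟩, ⟨3, by decide⟩]]

/-- The word of a power of the product of the two twisted reflections. -/
def Wj : ℕ → List (Fin chevD4.rank)
  | 0 => []
  | j + 1 => Wj j ++ (Jw 0 ++ Jw 1)

theorem pprod_Wj : ∀ j, C.pprod (Wj j) = (C.pprod (Jw 0) * C.pprod (Jw 1)) ^ j
  | 0 => by simp [Wj, Core.pprod]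
  | j + 1 => by rw [Wj, C.pprod_append, C.pprod_append, pprod_Wj j, pow_succ]

theorem pprod_ne_one {L : List (Fin chevD4.rank)}
    (h : ∃ r : Rt chevD4, Data.D4.fast.actW (L.map Fin.val) r.val ≠ r.val) : C.pprod L ≠ 1 := by
  obtain ⟨r, hr⟩ := h
  intro e
  have h1 := Cert.D4.certified.actW_eq L r
  change (C.pprod L r).val = _ at h1
  rw [e] at h1
  exact hr h1.symm

theorem Js_Jw : ∀ m : Fin 2, Js.getD m.val [] = (Jw m).map Fin.val := by decide

/-- The simple roots of an orbit. -/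
def Jr : Fin 2 → List (Rt chevD4) :=
  ![[⟨14, by decide⟩], [⟨18, by decide⟩, ⟨13, by decide⟩, ⟨12, by decide⟩]]

variable {K : Type u} [Field K] [Fintype K] {q : ℕ} {φ : K ≃+* K} (F : Frob.Facts K q 3 φ) (hq1 : 1 < q)
  (hK : Fintype.card K = q ^ 3)

theorem Jl_eq : ∀ m : Fin 2, (orth F hq1 hK).Jl m = Jw m := fun m => by
  refine List.map_injective_iff.2 Fin.val_injective ?_
  refine (Js_spec F hq1 hK m).trans ?_
  exact Js_Jw m

include F hq1 hK in
theorem inv'_Jw (m : Fin 2) : C.inv' (C.pprod (Jw m)) = {r | r ∈ Jr m} := by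
  have key : ∀ r : Rt chevD4, (∃ j ∈ Jw m, pD j = r) ↔ r ∈ Jr m := by clear F hq1 hK; revert m; decide +kernel
  have h := (orth F hq1 hK).inv'_Jl m
  rw [Jl_eq F hq1 hK m] at h
  rw [h]
  ext r
  simp only [Set.mem_image, Set.mem_setOf_eq, ← key, p_eq]

/-- The data of rank two. -/
noncomputable def rankTwo : RankTwo (orth F hq1 hK).tw where
  e := id
  hL := OrthRank.nS_mem (orth F hq1 hK)
  k := 3
  k_pos := by decide
  perm := by
    have key : ∀ r ∈ Jr 1, ∃ r' ∈ Jr 1, Data.D4.fast.actW ((Wj 2 ++ Jw 0).map Fin.val) r.val = r'.val := by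
      decide +kernel
    intro r hr
    change r ∈ C.inv' (C.pprod ((orth F hq1 hK).Jl (1 : Fin 2))) at hr
    show ((C.pprod ((orth F hq1 hK).Jl (0 : Fin 2)) * C.pprod ((orth F hq1 hK).Jl (1 : Fin 2))) ^ 2 *
      C.pprod ((orth F hq1 hK).Jl (0 : Fin 2))) r ∈ C.inv' (C.pprod ((orth F hq1 hK).Jl (1 : Fin 2)))
    rw [Jl_eq F hq1 hK] at hr
    rw [Jl_eq F hq1 hK, Jl_eq F hq1 hK, ← pprod_Wj, ← C.pprod_append]
    rw [inv'_Jw F hq1 hK] at hr ⊢
    obtain ⟨r', hr', e'⟩ := key r hr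
    rw [show C.pprod (Wj 2 ++ Jw 0) r = r' from Fin.ext ((Cert.D4.certified.actW_eq _ r).trans e')]
    exact hr'
  comm := by
    have key : ∀ r : Rt chevD4, Data.D4.fast.actW ((Wj 2 ++ Jw 0 ++ Jw 1).map Fin.val) r.val =
        Data.D4.fast.actW ((Jw 1 ++ (Wj 2 ++ Jw 0)).map Fin.val) r.val := by decide +kernel
    show Commute ((C.pprod ((orth F hq1 hK).Jl (0 : Fin 2)) * C.pprod ((orth F hq1 hK).Jl (1 : Fin 2))) ^ 2 *
      C.pprod ((orth F hq1 hK).Jl (0 : Fin 2))) (C.pprod ((orth F hq1 hK).Jl (1 : Fin 2)))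
    rw [Jl_eq F hq1 hK, Jl_eq F hq1 hK, ← pprod_Wj, ← C.pprod_append, Commute, SemiconjBy, ← C.pprod_append,
      ← C.pprod_append]
    exact Equiv.ext fun r => Fin.ext (((Cert.D4.certified.actW_eq _ r).trans (key r)).trans
      (Cert.D4.certified.actW_eq _ r).symm)
  inj1 j h0 hj := by
    have key : ∀ j < 6, 0 < j → ∃ r : Rt chevD4, Data.D4.fast.actW ((Wj j).map Fin.val) r.val ≠ r.val := by
      decide +kernel
    show (C.pprod ((orth F hq1 hK).Jl (0 : Fin 2)) * C.pprod ((orth F hq1 hK).Jl (1 : Fin 2))) ^ j ≠ 1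
    rw [Jl_eq F hq1 hK, Jl_eq F hq1 hK, ← pprod_Wj]
    exact pprod_ne_one (key j hj h0)
  inj2 j hj := by
    have key : ∀ j < 6, ∃ r : Rt chevD4,
        Data.D4.fast.actW ((Wj j ++ Jw 0).map Fin.val) r.val ≠ r.val := by decide +kernel
    show (C.pprod ((orth F hq1 hK).Jl (0 : Fin 2)) * C.pprod ((orth F hq1 hK).Jl (1 : Fin 2))) ^ j *
      C.pprod ((orth F hq1 hK).Jl (0 : Fin 2)) ≠ 1
    rw [Jl_eq F hq1 hK, Jl_eq F hq1 hK, ← pprod_Wj, ← C.pprod_append]
    exact pprod_ne_one (key j hj)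
  indep := OrthRank.indep (orth F hq1 hK) (ker_TF F hq1 hK) (m := (0 : Fin 2)) (m' := (1 : Fin 2))
    (by decide : (0 : Fin 2) ≠ 1)
  top := OrthRank.top_eq (orth F hq1 hK)

theorem card_Fo1 : Nat.card ↥(OrthRank.Fo (orth F hq1 hK) ((orth F hq1 hK).os (1 : Fin 2))) = q ^ 3 := by
  show Nat.card ↥(OrthRank.Fo (orth F hq1 hK) (osD 1)) = q ^ 3
  have h := (orth F hq1 hK).card_valid (osD 1)
  rw [(sz_os F hq1 hK).2] at h
  exact (Nat.card_congr (Equiv.subtypeEquivRight fun t => OrthRank.mem_Fo _)).trans h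

include hK in
theorem prime_data (hq : IsPrimePow q) : ∃ p : ℕ, p.Prime ∧ CharP K p ∧ (∀ x : K, (p : K) * x = 0) ∧
    ∃ n, 1 ≤ n ∧ q = p ^ n := by
  obtain ⟨p, n, hp, hn, rfl⟩ := hq
  have hp' : p.Prime := hp.nat_prime
  obtain ⟨c, hc⟩ := CharP.exists K
  haveI := hc
  obtain ⟨k, hcp, hk⟩ := FiniteField.card K c
  have hcp' : c = p := by
    have h1 : c ∣ (p ^ n) ^ 3 := hK ▸ hk ▸ dvd_pow_self c k.ne_zero
    rw [← pow_mul] at h1
    exact (Nat.prime_dvd_prime_iff_eq hcp hp').1 (hcp.dvd_of_dvd_pow h1)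
  subst hcp'
  exact ⟨c, hp', hc, fun x => by rw [CharP.cast_eq_zero K c, zero_mul], n, hn, rfl⟩

/-- The group of rank one over the big field is perfect. -/
theorem rankOne_perfect : commutator ↥(rankOne (orth F hq1 hK).tw (1 : Fin 2)) = ⊤ := by
  have h : commutator SL(2, ↥(OrthRank.Fo (orth F hq1 hK) ((orth F hq1 hK).os (1 : Fin 2)))) = ⊤ :=
    Linear.commutator_SL_eq_top le_rfl fun _ => by
      rw [card_Fo1 F hq1 hK]
      calc 4 ≤ 2 ^ 3 := by norm_num
        _ ≤ q ^ 3 := Nat.pow_le_pow_left hq1 3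
  set e := OrthRank.iso (orth F hq1 hK) (ker_TF F hq1 hK) (1 : Fin 2)
  rw [commutator_def, ← Subgroup.map_top_of_surjective e.toMonoidHom e.surjective, ← Subgroup.map_commutator,
    ← commutator_def, h]

include hq1 in
/-- The group of rank one over the big field has trivial multiplier. -/
theorem rankOne_noPart (r : ℕ) : NoPart r ↥(rankOne (orth F hq1 hK).tw (1 : Fin 2)) := by
  haveI : Fintype ↥(OrthRank.Fo (orth F hq1 hK) ((orth F hq1 hK).os (1 : Fin 2))) := Fintype.ofFinite _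
  have hc : Fintype.card ↥(OrthRank.Fo (orth F hq1 hK) ((orth F hq1 hK).os (1 : Fin 2))) = q ^ 3 := by
    rw [← Nat.card_eq_fintype_card, card_Fo1 F hq1 hK]
  have h8 : q = 2 ∨ 27 ≤ q ^ 3 := by
    rcases Nat.lt_or_ge q 3 with h | h
    · exact Or.inl (by omega)
    · exact Or.inr (le_trans (by norm_num) (Nat.pow_le_pow_left h 3))
  refine (NoPart.of_trivial (Cfsg.Agent.S2117.result ?_ ?_)).of_equiv
    (OrthRank.iso (orth F hq1 hK) (ker_TF F hq1 hK) (1 : Fin 2)) <;>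
    rw [hc] <;> rcases h8 with rfl | h8 <;> omega

/-- Complements over the groups of rank one in extensions with kernels of cross characteristic. -/
theorem exists_comp_rankOne {p : ℕ} (hp : p.Prime) [CharP K p] {r : ℕ} (hr : r.Prime) (hrp : r ≠ p)
    {E : Type u} [Group E] [Finite E] {σ : E →* ↥(orth F hq1 hK).tw.W} (hk : σ.ker ≤ Subgroup.center E)
    (hσ : Function.Surjective σ) (hker : ∃ n, Nat.card σ.ker = r ^ n) (i : Fin 2) :
    ∃ T : Subgroup E, IsComp σ (rankOne (orth F hq1 hK).tw i) T := by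
  haveI := Fact.mk hp
  set O := orth F hq1 hK
  haveI : Fintype ↥(OrthRank.Fo O (O.os i)) := Fintype.ofFinite _
  haveI : CharP ↥(OrthRank.Fo O (O.os i)) p :=
    (RingHom.charP_iff_charP (OrthRank.Fo O (O.os i)).subtype p).2 inferInstance
  refine exists_comp_gen hk hσ hr hker hp hrp _ ?_
    ((noPart_sl2_cross hr hrp).of_equiv (OrthRank.iso O (ker_TF F hq1 hK) i))
  rw [← OrthRank.orbS_range O i, MonoidHom.range_eq_map]
  set S := {g | g ∈ Subgroup.map (OrthRank.orbS O i) ⊤ ∧ ∃ j, g ^ p ^ j = 1}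
  have hmem : ∀ g : SL(2, ↥(OrthRank.Fo O (O.os i))), g ^ p = 1 →
      OrthRank.orbS O i g ∈ Subgroup.closure S := fun g hg =>
    Subgroup.subset_closure ⟨⟨g, trivial, rfl⟩, 1, by rw [pow_one, ← map_pow, hg, map_one]⟩
  have hU : ∀ t : ↥(OrthRank.Fo O (O.os i)), ∀ k : ℕ, slU t ^ k = slU ((k : ℕ) * t) ∧ slL t ^ k = slL ((k : ℕ) * t) := by
    intro t k
    induction k with
    | zero => constructor <;> rw [pow_zero] <;> refine Subtype.ext ?_ <;> simp [slU, slL, Matrix.one_fin_two]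
    | succ k ih =>
      constructor <;> refine Subtype.ext ?_
      · rw [pow_succ, ih.1]; simp [Matrix.SpecialLinearGroup.coe_mul, add_mul, add_comm]
      · rw [pow_succ, ih.2]; simp [Matrix.SpecialLinearGroup.coe_mul, add_mul, add_comm]
  have key : (Subgroup.closure S).comap (OrthRank.orbS O i) = ⊤ := OrthRank.sl2_top
    (fun t => hmem _ (by rw [(hU t p).1, CharP.cast_eq_zero, zero_mul]; exact Subtype.ext (by simp [slU, Matrix.one_fin_two])))
    (fun t => hmem _ (by rw [(hU t p).2, CharP.cast_eq_zero, zero_mul]; exact Subtype.ext (by simp [slL, Matrix.one_fin_two])))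
  exact Subgroup.map_le_iff_le_comap.2 key.ge

end Cfsg.Agent.Lib.TwMult.D4
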