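import Cfsg.Agent.Lib.TwMult.D4Rad

/-!
Complements over the unipotent group of ³D₄(q) in every central extension.
-/

set_option autoImplicit false
set_option linter.unusedSectionVars false

namespace Cfsg.Agent.Lib.TwMult.D4

open Cfsg.Lie
open Cfsg.Agent.Lib.ChevStructure Cfsg.Agent.Lib.LieTwisted.Twist Cfsg.Agent.Lib.LieTwisted.Twist.D4
open Cfsg.Agent.Lib.LieTwisted Cfsg.Agent.Lib.ExcDeg48
open scoped MatrixGroups Pointwise

universe u

variable {K : Type u} [Field K] [Fintype K] {q : ℕ} {φ : K ≃+* K} (F : Frob.Facts K q 3 φ) (hq1 : 1 < q)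
  (hK : Fintype.card K = q ^ 3)

theorem card_uSPos : Nat.card ↥(uS (orth F hq1 hK).tw C.Pos) = q ^ 12 := by
  rw [uS, ← Subgroup.inf_subgroupOf_right]
  refine (Nat.card_congr (Subgroup.subgroupOfEquivOfLe inf_le_right).toEquiv).trans
    ((orth F hq1 hK).tw.card_posU.trans ?_)
  show q ^ (24 / 2 / 1) = q ^ 12
  norm_num

theorem card_uO1 : Nat.card ↥(uO (orth F hq1 hK).tw (1 : Fin 2)) = q ^ 3 := by
  refine ((orth F hq1 hK).tw.card_Xp (1 : Fin 2)).trans ?_
  show q ^ (C.len (C.pprod ((orth F hq1 hK).Jl (1 : Fin 2))) / 1) = q ^ 3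
  rw [Nat.div_one]
  refine (congrArg (q ^ ·) ((orth F hq1 hK).len_Jl (1 : Fin 2))).trans ?_
  show q ^ (orth F hq1 hK).sz (osD 1) = q ^ 3
  rw [(sz_os F hq1 hK).2]

theorem hu_surj {g : ↥(orth F hq1 hK).tw.W} (hg : g ∈ uO (orth F hq1 hK).tw (1 : Fin 2)) :
    ∃ t, D4Model.hu F hq1 hK t = g := by
  let f : K → ↥(uO (orth F hq1 hK).tw (1 : Fin 2)) := fun t => ⟨D4Model.hu F hq1 hK t, hu_mem F hq1 hK t⟩
  have hinj : Function.Injective f := fun s t e => by
    have e' : (D4Model.heisD4 F hq1 hK).u s = (D4Model.heisD4 F hq1 hK).u t := congrArg Subtype.val e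
    by_contra hne
    obtain ⟨c, hc⟩ := (D4Model.heisD4 F hq1 hK).L_ne
    have h1 := (D4Model.heisD4 F hq1 hK).Cu s ((s - t)⁻¹ * c)
    rw [e', (D4Model.heisD4 F hq1 hK).Cu t] at h1
    have h2 := congrArg Subtype.val (mul_left_cancel (mul_left_cancel h1))
    have h3 : (D4Model.heisD4 F hq1 hK).L (t * ((s - t)⁻¹ * c)) = (D4Model.heisD4 F hq1 hK).L (s * ((s - t)⁻¹ * c)) :=
      Subtype.ext (neg_injective (D4Model.x_inj h2))
    refine hc ?_
    rw [show c = s * ((s - t)⁻¹ * c) - t * ((s - t)⁻¹ * c) by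
      rw [← sub_mul, mul_inv_cancel_left₀ (sub_ne_zero.2 hne)], map_sub, h3, sub_self]
  have hbij := hinj.bijective_of_nat_card_le (by rw [card_uO1 F hq1 hK, Nat.card_eq_fintype_card, hK])
  obtain ⟨t, ht⟩ := hbij.2 ⟨g, hg⟩
  exact ⟨t, congrArg Subtype.val ht⟩

/-- Every central extension splits over the unipotent group. -/
theorem exists_complement_U (hq : IsPrimePow q) {E : Type u} [Group E] [Finite E]
    {σ : E →* ↥(orth F hq1 hK).tw.W} (hk : σ.ker ≤ Subgroup.center E) (hσ : Function.Surjective σ) :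
    ∃ Y : Subgroup E, IsComp σ (uS (orth F hq1 hK).tw C.Pos) Y := by
  classical
  obtain ⟨p, hp, hpc, -, hpq⟩ := prime_data hK hq
  haveI := hpc
  let R := rad F hq1 hK hp hpq
  -- the radical
  obtain ⟨Y0, hY0, hinv⟩ : ∃ Y : Subgroup E, IsComp σ R.Qg Y ∧
      ∀ e t, σ e = R.H.u t → ∀ y ∈ Y, e * y * e⁻¹ ∈ Y := by
    by_cases hs : ∃ s : (D4Model.Fq φ)ˣ, (s : D4Model.Fq φ) ≠ 1
    · obtain ⟨s, hs⟩ := hs
      exact R.exists_complement_big hk hσ hs
    · push Not at hs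
      have hFs : ∀ x : D4Model.Fq φ, x ≠ 0 → x = 1 := fun x hx => hs (Units.mk0 x hx)
      refine R.exists_complement_binary hk hσ hFs ?_
      haveI : Fintype (D4Model.Fq φ) := Fintype.ofFinite _
      have h2 : Fintype.card (D4Model.Fq φ) ≤ 2 := by
        rw [← Finset.card_univ]
        refine (Finset.card_le_card (t := {0, 1}) fun x _ => ?_).trans Finset.card_le_two
        by_cases hx : x = 0 <;> simp [hx, hFs x]
      rw [D4Model.card_Fq F] at h2
      rw [hK, show q = 2 by omega]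
      norm_num
  have hQ : R.Qg ≤ uS (orth F hq1 hK).tw (C.Pos \ C.inv' ((orth F hq1 hK).tw.wO (1 : Fin 2))) := Qg_le F hq1 hK
  -- the Levi root group
  obtain ⟨L, hL⟩ := exists_comp_trivial hk hσ (rankOne (orth F hq1 hK).tw (1 : Fin 2)) (rankOne_perfect F hq1 hK)
    fun r _ => rankOne_noPart F hq1 hK r
  set U := L ⊓ (uO (orth F hq1 hK).tw (1 : Fin 2)).comap σ
  have hUinv : ∀ e ∈ U, ∀ y ∈ Y0, e * y * e⁻¹ ∈ Y0 := fun e he => by
    obtain ⟨t, ht⟩ := hu_surj F hq1 hK (Subgroup.mem_comap.1 (Subgroup.mem_inf.1 he).2)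
    exact hinv e t ht.symm
  have hnorm : U ≤ Subgroup.normalizer (Y0 : Set E) := fun e he => by
    refine Subgroup.mem_normalizer_iff.2 fun y => ⟨hUinv e he y, fun hy => ?_⟩
    have := hUinv e⁻¹ (inv_mem he) _ hy
    rwa [show e⁻¹ * (e * y * e⁻¹) * e⁻¹⁻¹ = y by group] at this
  refine ⟨Y0 ⊔ U, le_antisymm ?_ ?_, ?_⟩
  · rw [Subgroup.map_sup, hY0.1]
    refine sup_le (hQ.trans fun g hg => (mem_uS (orth F hq1 hK).tw).2 (C.US_mono K (fun _ hr => hr.1) ((mem_uS (orth F hq1 hK).tw).1 hg))) ?_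
    rintro _ ⟨e, he, rfl⟩
    exact uO_le (orth F hq1 hK).tw (1 : Fin 2) (Subgroup.mem_comap.1 (Subgroup.mem_inf.1 he).2)
  · intro g hg
    obtain ⟨a, ha, c, hc, rfl⟩ := exists_split (orth F hq1 hK).tw (1 : Fin 2) g hg
    rw [Subgroup.map_sup]
    refine mul_mem (Subgroup.mem_sup_left ?_) (Subgroup.mem_sup_right ?_)
    · rw [hY0.1]
      have hcard : Nat.card ↥(uS (orth F hq1 hK).tw (C.Pos \ C.inv' ((orth F hq1 hK).tw.wO (1 : Fin 2)))) ≤ Nat.card ↥R.Qg := by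
        haveI : Fintype (D4Model.Fq φ) := Fintype.ofFinite _
        have h9 := R.card_Qg_ge
        rw [Nat.card_eq_fintype_card (α := K), hK, Nat.card_eq_fintype_card (α := D4Model.Fq φ),
          D4Model.card_Fq F, show q * (q ^ 3 * (q ^ 3 * (q * q))) = q ^ 9 by ring] at h9
        refine le_trans ?_ h9
        have h : Nat.card (↥(uS (orth F hq1 hK).tw (C.Pos \ C.inv' ((orth F hq1 hK).tw.wO (1 : Fin 2)))) × ↥(uO (orth F hq1 hK).tw (1 : Fin 2))) ≤
            Nat.card ↥(uS (orth F hq1 hK).tw C.Pos) :=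
          Nat.card_le_card_of_injective (fun x => (⟨x.1.1 * x.2.1, mul_mem
            ((mem_uS (orth F hq1 hK).tw).2 (C.US_mono K (fun _ hr => hr.1) ((mem_uS (orth F hq1 hK).tw).1 x.1.2))) (uO_le (orth F hq1 hK).tw (1 : Fin 2) x.2.2)⟩ :
            ↥(uS (orth F hq1 hK).tw C.Pos))) fun x y e => by
              refine Subgroup.mul_injective_of_disjoint (disjoint_iff.2 ?_) (congrArg Subtype.val e)
              rw [eq_bot_iff]
              exact le_trans (inf_le_inf_left _ (le_trans le_sup_left le_sup_left))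
                (off_inf_rankOne (orth F hq1 hK).tw (1 : Fin 2)).le
        rw [Nat.card_prod, card_uO1 F hq1 hK, card_uSPos F hq1 hK, show q ^ 12 = q ^ 9 * q ^ 3 by ring] at h
        exact Nat.le_of_mul_le_mul_right h (pow_pos (by omega) _)
      exact (Subgroup.eq_of_le_of_card_ge hQ hcard).ge ha
    · obtain ⟨x, hx, e⟩ := hL.exists_mem (Subgroup.mem_sup_left hc)
      exact ⟨x, Subgroup.mem_inf.2 ⟨hx, Subgroup.mem_comap.2 (e.symm ▸ hc)⟩, e⟩
  · rw [eq_bot_iff]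
    intro x hx
    obtain ⟨hx1, hx2⟩ := Subgroup.mem_inf.1 hx
    have hx' : x ∈ ((Y0 : Set E) * (U : Set E) : Set E) :=
      (Subgroup.coe_mul_of_right_le_normalizer_left Y0 U hnorm) ▸ (SetLike.mem_coe.2 hx1)
    obtain ⟨y, hy, e, he, rfl⟩ := Set.mem_mul.1 hx'
    have h1 : σ y * σ e = 1 := by rw [← map_mul]; exact MonoidHom.mem_ker.1 hx2
    have heU := Subgroup.mem_inf.1 he
    have hy1 : σ y ∈ uS (orth F hq1 hK).tw (C.Pos \ C.inv' ((orth F hq1 hK).tw.wO (1 : Fin 2))) ⊓ (rankOne (orth F hq1 hK).tw (1 : Fin 2) ⊔ tor (orth F hq1 hK).tw) := by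
      refine Subgroup.mem_inf.2 ⟨hQ (hY0.mem hy), Subgroup.mem_sup_left ?_⟩
      rw [eq_inv_of_mul_eq_one_left h1]
      exact inv_mem (hL.mem heU.1)
    replace hy1 := Subgroup.mem_bot.1 ((off_inf_rankOne (orth F hq1 hK).tw (1 : Fin 2)).le hy1)
    rw [hy1, one_mul] at h1
    rw [hY0.inj hy (one_mem _) (hy1.trans (map_one σ).symm),
      hL.inj heU.1 (one_mem _) (h1.trans (map_one σ).symm), mul_one]
    exact one_mem _

end Cfsg.Agent.Lib.TwMult.D4
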