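import Cfsg.Agent.Lib.TwMult.E6Elems

/-!
Tables for the twenty-four orbits of positive roots of ²E₆: layers, certificates for the commuting
pairs, and separating and scaling coroots.
-/

set_option autoImplicit false
set_option maxRecDepth 100000
set_option linter.unusedSectionVars false

namespace Cfsg.Agent.Lib.TwMult.E6

open Cfsg.Lie
open Cfsg.Agent.Lib.ChevStructure Cfsg.Agent.Lib.LieTwisted Cfsg.Agent.Lib.LieTwisted.Twist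

local notation "π" => Frob.rootPerm Twist.E6.g

/-- A root given by its number. -/
def Rn (n : ℕ) : Rt chevE6 := ⟨n % 72, Nat.mod_lt _ (by decide)⟩

/-- The representative of a layer. -/
def rp (j : ℕ) : Rt chevE6 := Rn ([36, 37, 39, 46, 38, 40, 47, 41, 44, 48, 45, 49, 51, 52, 53, 60, 54, 63, 55, 65, 66, 69, 70, 71].getD j 71)

/-- The layer of a positive root. -/
def pidx (r : Rt chevE6) : ℕ :=
  [0, 1, 4, 2, 5, 7, 1, 5, 8, 10, 3, 6, 9, 11, 9, 12, 13, 14, 16, 18, 0, 4, 7, 10, 15, 11, 13, 17, 16, 19, 20, 18, 20, 21, 22, 23].getD (r.val - 36) 0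

/-- A commutator presenting an orbit. -/
structure DCert where
  r : ℕ
  s : ℕ
  M : ℤ
  M2 : ℤ

/-- A commutator presenting a product of two orbits. -/
structure LCert where
  r : ℕ
  s : ℕ
  o : ℕ
  m : ℕ
  M : ℤ
  M2 : ℤ
  M3 : ℤ
  flip : Bool
  inner : DCert

/-- Lifts commute by a commutator presenting the second orbit. -/
def dOK (x y : Rt chevE6) (d : DCert) : Bool :=
  cmo x (Rn d.r) && cmo x (Rn d.s) &&
    (isFF (Rn d.r) (Rn d.s) y d.M || isSS (Rn d.r) (Rn d.s) y d.M d.M2)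

/-- The inner certificate. -/
def inOK (x z : Rt chevE6) (flip : Bool) (d : DCert) : Bool := if flip then dOK z x d else dOK x z d

/-- Lifts commute by a commutator presenting a product of two orbits. -/
def lOK (x y : Rt chevE6) (l : LCert) : Bool :=
  cmo x (Rn l.r) && cmo x (Rn l.s) && isLS (Rn l.r) (Rn l.s) (Rn l.o) (Rn l.m) l.M l.M2 l.M3 &&
    ((decide (y = Rn l.o) && inOK x (Rn l.m) l.flip l.inner) ||
      (decide (y = Rn l.m) && inOK x (Rn l.o) l.flip l.inner))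

/-- Certificates for the pairs of orbits. -/
def pairTab : List (Option (Bool × ℕ × (DCert ⊕ LCert))) := [
  some (false, 36, .inl ⟨4, 68, -1, 1⟩),
  none,
  some (false, 39, .inl ⟨2, 70, -1, 0⟩),
  some (false, 46, .inl ⟨1, 71, -1, 0⟩),
  some (false, 38, .inr ⟨24, 49, 38, 63, -1, -1, -1, false, ⟨18, 71, 1, 0⟩⟩),
  none,
  some (false, 47, .inl ⟨2, 71, 1, 0⟩),
  some (false, 41, .inr ⟨25, 49, 41, 65, -1, 1, 1, false, ⟨20, 71, -1, 0⟩⟩),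
  none,
  none,
  none,
  some (false, 49, .inr ⟨46, 41, 49, 65, -1, 1, 1, false, ⟨20, 71, -1, 0⟩⟩),
  none,
  none,
  none,
  some (false, 60, .inl ⟨18, 70, 1, 0⟩),
  none,
  some (false, 63, .inl ⟨18, 71, 1, 0⟩),
  none,
  some (false, 65, .inl ⟨20, 71, -1, 0⟩),
  some (false, 66, .inr ⟨69, 29, 66, 65, -1, -1, 1, false, ⟨20, 71, -1, 0⟩⟩),
  some (false, 69, .inl ⟨24, 71, -1, 0⟩),
  some (false, 70, .inl ⟨25, 71, 1, 0⟩),
  some (false, 71, .inl ⟨46, 70, 1, 0⟩),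
  none,
  some (false, 37, .inl ⟨10, 62, -1, -1⟩),
  none,
  some (false, 46, .inl ⟨1, 71, -1, 0⟩),
  some (false, 38, .inr ⟨18, 55, 38, 69, 1, 1, 1, false, ⟨24, 71, -1, 0⟩⟩),
  none,
  none,
  none,
  some (false, 44, .inl ⟨6, 70, 1, 0⟩),
  none,
  some (false, 45, .inr ⟨25, 52, 45, 69, 1, 1, -1, false, ⟨24, 71, -1, 0⟩⟩),
  none,
  some (false, 51, .inl ⟨6, 71, 1, 0⟩),
  some (false, 52, .inr ⟨46, 45, 52, 69, 1, 1, 1, false, ⟨24, 71, -1, 0⟩⟩),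
  some (false, 53, .inl ⟨8, 71, -1, 0⟩),
  some (false, 60, .inl ⟨18, 70, 1, 0⟩),
  none,
  some (false, 63, .inl ⟨18, 71, 1, 0⟩),
  some (false, 55, .inr ⟨53, 38, 55, 69, 1, 1, -1, false, ⟨24, 71, -1, 0⟩⟩),
  none,
  none,
  some (false, 69, .inl ⟨24, 71, -1, 0⟩),
  some (false, 70, .inl ⟨25, 71, 1, 0⟩),
  some (false, 71, .inl ⟨46, 70, 1, 0⟩),
  none,
  none,
  some (false, 39, .inl ⟨2, 70, -1, 0⟩),
  none,
  none,
  some (false, 40, .inl ⟨10, 64, 1, -1⟩),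
  some (false, 47, .inl ⟨2, 71, 1, 0⟩),
  some (false, 41, .inl ⟨9, 66, 1, -1⟩),
  some (false, 44, .inr ⟨0, 55, 10, 44, 1, 1, 1, false, ⟨3, 45, 1, 1⟩⟩),
  some (false, 48, .inl ⟨26, 55, -1, -1⟩),
  some (false, 45, .inl ⟨10, 68, -1, -1⟩),
  some (false, 49, .inl ⟨12, 66, 1, 1⟩),
  none,
  none,
  some (false, 53, .inl ⟨8, 71, -1, 0⟩),
  some (false, 60, .inr ⟨0, 66, 21, 60, -1, -1, -1, false, ⟨4, 59, -1, -1⟩⟩),
  some (false, 54, .inl ⟨14, 68, -1, -1⟩),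
  none,
  some (false, 55, .inl ⟨15, 66, -1, 1⟩),
  some (false, 65, .inl ⟨20, 71, -1, 0⟩),
  some (false, 66, .inl ⟨49, 59, -1, -1⟩),
  none,
  some (false, 70, .inl ⟨25, 71, 1, 0⟩),
  some (false, 71, .inr ⟨11, 66, 48, 71, -1, -1, -1, false, ⟨26, 55, -1, -1⟩⟩),
  none,
  none,
  none,
  some (false, 46, .inl ⟨1, 71, -1, 0⟩),
  some (false, 38, .inl ⟨7, 66, 1, 1⟩),
  none,
  some (false, 47, .inl ⟨2, 71, 1, 0⟩),
  none,
  none,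
  some (false, 48, .inl ⟨13, 64, 1, -1⟩),
  none,
  some (false, 49, .inl ⟨12, 66, 1, 1⟩),
  some (false, 51, .inl ⟨6, 71, 1, 0⟩),
  some (false, 52, .inl ⟨13, 68, 1, -1⟩),
  some (false, 53, .inr ⟨2, 55, 14, 53, 1, 1, 1, false, ⟨3, 54, 1, 1⟩⟩),
  none,
  some (false, 54, .inl ⟨14, 68, -1, -1⟩),
  some (false, 63, .inl ⟨18, 71, 1, 0⟩),
  some (false, 55, .inl ⟨15, 66, -1, 1⟩),
  some (false, 65, .inr ⟨2, 66, 29, 65, -1, -1, -1, false, ⟨4, 64, -1, -1⟩⟩),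
  some (false, 66, .inl ⟨38, 64, -1, -1⟩),
  some (false, 69, .inr ⟨6, 66, 37, 69, -1, -1, -1, false, ⟨17, 55, -1, -1⟩⟩),
  none,
  some (false, 71, .inl ⟨47, 69, -1, 0⟩),
  none,
  none,
  none,
  none,
  some (false, 38, .inl ⟨7, 66, 1, 1⟩),
  none,
  none,
  none,
  some (false, 44, .inl ⟨6, 70, 1, 0⟩),
  none,
  some (false, 45, .inr ⟨25, 52, 45, 69, 1, 1, -1, false, ⟨24, 71, -1, 0⟩⟩),
  none,
  some (false, 51, .inl ⟨6, 71, 1, 0⟩),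
  some (false, 52, .inr ⟨46, 45, 52, 69, 1, 1, 1, false, ⟨24, 71, -1, 0⟩⟩),
  none,
  some (false, 60, .inl ⟨18, 70, 1, 0⟩),
  none,
  some (false, 63, .inl ⟨18, 71, 1, 0⟩),
  none,
  some (false, 65, .inl ⟨20, 71, -1, 0⟩),
  some (false, 66, .inr ⟨65, 37, 66, 69, -1, -1, 1, false, ⟨24, 71, -1, 0⟩⟩),
  some (false, 69, .inl ⟨24, 71, -1, 0⟩),
  some (false, 70, .inl ⟨25, 71, 1, 0⟩),
  some (false, 71, .inl ⟨46, 70, 1, 0⟩),
  none,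
  none,
  none,
  none,
  none,
  some (false, 40, .inl ⟨10, 64, 1, -1⟩),
  some (false, 47, .inl ⟨2, 71, 1, 0⟩),
  some (false, 41, .inr ⟨20, 55, 41, 70, 1, -1, -1, false, ⟨25, 71, 1, 0⟩⟩),
  some (false, 44, .inl ⟨6, 70, 1, 0⟩),
  none,
  some (false, 45, .inr ⟨24, 54, 45, 70, 1, 1, -1, false, ⟨25, 71, 1, 0⟩⟩),
  none,
  some (false, 51, .inl ⟨6, 71, 1, 0⟩),
  none,
  some (false, 53, .inl ⟨8, 71, -1, 0⟩),
  some (false, 60, .inl ⟨20, 69, 1, 0⟩),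
  some (false, 54, .inr ⟨47, 45, 54, 70, 1, 1, 1, false, ⟨25, 71, 1, 0⟩⟩),
  none,
  some (false, 55, .inr ⟨51, 41, 55, 70, 1, -1, -1, false, ⟨25, 71, 1, 0⟩⟩),
  some (false, 65, .inl ⟨20, 71, -1, 0⟩),
  none,
  some (false, 69, .inl ⟨24, 71, -1, 0⟩),
  some (false, 70, .inl ⟨25, 71, 1, 0⟩),
  some (false, 71, .inl ⟨47, 69, -1, 0⟩),
  none,
  none,
  none,
  none,
  none,
  none,
  some (false, 47, .inl ⟨2, 71, 1, 0⟩),
  some (false, 41, .inl ⟨9, 66, 1, -1⟩),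
  none,
  some (false, 48, .inl ⟨13, 64, 1, -1⟩),
  none,
  some (false, 49, .inl ⟨12, 66, 1, 1⟩),
  some (false, 51, .inr ⟨1, 55, 13, 51, 1, -1, -1, false, ⟨3, 52, -1, 1⟩⟩),
  some (false, 52, .inl ⟨13, 68, 1, -1⟩),
  some (false, 53, .inl ⟨8, 71, -1, 0⟩),
  none,
  some (false, 54, .inl ⟨14, 68, -1, -1⟩),
  some (false, 63, .inr ⟨1, 66, 28, 63, -1, 1, 1, false, ⟨4, 62, 1, -1⟩⟩),
  some (false, 55, .inl ⟨15, 66, -1, 1⟩),
  some (false, 65, .inl ⟨20, 71, -1, 0⟩),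
  some (false, 66, .inl ⟨41, 62, -1, 1⟩),
  none,
  some (false, 70, .inr ⟨8, 66, 40, 70, -1, 1, 1, false, ⟨19, 55, -1, 1⟩⟩),
  some (false, 71, .inl ⟨46, 70, 1, 0⟩),
  none,
  none,
  none,
  none,
  none,
  none,
  none,
  some (false, 41, .inl ⟨9, 66, 1, -1⟩),
  some (false, 44, .inl ⟨8, 69, 1, 0⟩),
  none,
  some (false, 45, .inr ⟨24, 54, 45, 70, 1, 1, -1, false, ⟨25, 71, 1, 0⟩⟩),
  none,
  none,
  none,
  some (false, 53, .inl ⟨8, 71, -1, 0⟩),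
  some (false, 60, .inl ⟨18, 70, 1, 0⟩),
  some (false, 54, .inr ⟨47, 45, 54, 70, 1, 1, 1, false, ⟨25, 71, 1, 0⟩⟩),
  some (false, 63, .inl ⟨18, 71, 1, 0⟩),
  none,
  some (false, 65, .inl ⟨20, 71, -1, 0⟩),
  some (false, 66, .inr ⟨63, 40, 66, 70, -1, 1, 1, false, ⟨25, 71, 1, 0⟩⟩),
  some (false, 69, .inl ⟨24, 71, -1, 0⟩),
  some (false, 70, .inl ⟨25, 71, 1, 0⟩),
  some (false, 71, .inl ⟨47, 69, -1, 0⟩),
  none,
  none,
  none,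
  none,
  none,
  none,
  none,
  none,
  some (false, 44, .inl ⟨6, 70, 1, 0⟩),
  some (false, 48, .inl ⟨13, 64, 1, -1⟩),
  some (false, 45, .inl ⟨10, 68, -1, -1⟩),
  none,
  some (false, 51, .inl ⟨6, 71, 1, 0⟩),
  some (false, 52, .inl ⟨13, 68, 1, -1⟩),
  some (false, 53, .inl ⟨8, 71, -1, 0⟩),
  some (false, 60, .inr ⟨0, 66, 21, 60, -1, -1, -1, false, ⟨17, 41, -1, 1⟩⟩),
  some (false, 54, .inl ⟨14, 68, -1, -1⟩),
  none,
  some (false, 55, .inl ⟨15, 66, -1, 1⟩),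
  none,
  some (false, 66, .inl ⟨38, 64, -1, -1⟩),
  some (false, 69, .inl ⟨24, 71, -1, 0⟩),
  some (false, 70, .inl ⟨25, 71, 1, 0⟩),
  some (false, 71, .inr ⟨11, 66, 48, 71, -1, -1, -1, false, ⟨13, 64, 1, -1⟩⟩),
  none,
  none,
  none,
  none,
  none,
  none,
  none,
  none,
  none,
  some (false, 48, .inl ⟨13, 64, 1, -1⟩),
  none,
  some (false, 49, .inr ⟨27, 55, 49, 71, 1, 1, 1, false, ⟨46, 70, 1, 0⟩⟩),
  some (false, 51, .inl ⟨6, 71, 1, 0⟩),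
  some (false, 52, .inr ⟨32, 54, 52, 71, 1, 1, -1, false, ⟨46, 70, 1, 0⟩⟩),
  some (false, 53, .inl ⟨8, 71, -1, 0⟩),
  none,
  some (false, 54, .inr ⟨39, 52, 54, 71, 1, 1, 1, false, ⟨46, 70, 1, 0⟩⟩),
  some (false, 63, .inl ⟨27, 69, -1, 0⟩),
  some (false, 55, .inr ⟨44, 49, 55, 71, 1, 1, -1, false, ⟨46, 70, 1, 0⟩⟩),
  some (false, 65, .inl ⟨27, 70, -1, 0⟩),
  none,
  some (false, 69, .inl ⟨32, 70, 1, 0⟩),
  some (false, 70, .inl ⟨39, 69, 1, 0⟩),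
  some (false, 71, .inl ⟨46, 70, 1, 0⟩),
  none,
  none,
  none,
  none,
  none,
  none,
  none,
  none,
  none,
  none,
  some (false, 45, .inl ⟨10, 68, -1, -1⟩),
  none,
  some (false, 51, .inl ⟨6, 71, 1, 0⟩),
  none,
  some (false, 53, .inl ⟨8, 71, -1, 0⟩),
  some (false, 60, .inl ⟨18, 70, 1, 0⟩),
  none,
  some (false, 63, .inl ⟨18, 71, 1, 0⟩),
  some (false, 55, .inr ⟨51, 41, 55, 70, 1, -1, -1, false, ⟨25, 71, 1, 0⟩⟩),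
  some (false, 65, .inl ⟨20, 71, -1, 0⟩),
  some (false, 66, .inr ⟨63, 40, 66, 70, -1, 1, 1, false, ⟨25, 71, 1, 0⟩⟩),
  some (false, 69, .inl ⟨24, 71, -1, 0⟩),
  some (false, 70, .inl ⟨25, 71, 1, 0⟩),
  some (false, 71, .inl ⟨51, 65, -1, 0⟩),
  none,
  none,
  none,
  none,
  none,
  none,
  none,
  none,
  none,
  none,
  none,
  some (false, 49, .inl ⟨12, 66, 1, 1⟩),
  some (false, 51, .inl ⟨11, 69, -1, 0⟩),
  some (false, 52, .inr ⟨32, 54, 52, 71, 1, 1, -1, false, ⟨46, 70, 1, 0⟩⟩),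
  some (false, 53, .inl ⟨11, 70, -1, 0⟩),
  some (false, 60, .inl ⟨18, 70, 1, 0⟩),
  some (false, 54, .inr ⟨39, 52, 54, 71, 1, 1, 1, false, ⟨46, 70, 1, 0⟩⟩),
  some (false, 63, .inl ⟨18, 71, 1, 0⟩),
  none,
  some (false, 65, .inl ⟨20, 71, -1, 0⟩),
  some (false, 66, .inr ⟨60, 48, 66, 71, -1, -1, 1, false, ⟨46, 70, 1, 0⟩⟩),
  some (false, 69, .inl ⟨32, 70, 1, 0⟩),
  some (false, 70, .inl ⟨39, 69, 1, 0⟩),
  some (false, 71, .inl ⟨46, 70, 1, 0⟩),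
  none,
  none,
  none,
  none,
  none,
  none,
  none,
  none,
  none,
  none,
  none,
  none,
  some (false, 51, .inl ⟨6, 71, 1, 0⟩),
  some (false, 52, .inl ⟨13, 68, 1, -1⟩),
  some (false, 53, .inl ⟨8, 71, -1, 0⟩),
  none,
  some (false, 54, .inl ⟨14, 68, -1, -1⟩),
  some (false, 63, .inr ⟨1, 66, 28, 63, -1, 1, 1, false, ⟨17, 49, -1, 1⟩⟩),
  some (false, 55, .inl ⟨15, 66, -1, 1⟩),
  none,
  some (false, 66, .inl ⟨38, 64, -1, -1⟩),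
  some (false, 69, .inl ⟨24, 71, -1, 0⟩),
  some (false, 70, .inr ⟨8, 66, 40, 70, -1, 1, 1, false, ⟨10, 64, 1, -1⟩⟩),
  some (false, 71, .inl ⟨46, 70, 1, 0⟩),
  none,
  none,
  none,
  none,
  none,
  none,
  none,
  none,
  none,
  none,
  none,
  none,
  none,
  some (false, 52, .inl ⟨13, 68, 1, -1⟩),
  some (false, 53, .inl ⟨11, 70, -1, 0⟩),
  some (false, 60, .inl ⟨18, 70, 1, 0⟩),
  none,
  some (false, 63, .inl ⟨18, 71, 1, 0⟩),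
  some (false, 55, .inr ⟨44, 49, 55, 71, 1, 1, -1, false, ⟨46, 70, 1, 0⟩⟩),
  some (false, 65, .inl ⟨27, 70, -1, 0⟩),
  some (false, 66, .inr ⟨60, 48, 66, 71, -1, -1, 1, false, ⟨46, 70, 1, 0⟩⟩),
  some (false, 69, .inl ⟨24, 71, -1, 0⟩),
  some (false, 70, .inl ⟨44, 65, -1, 0⟩),
  some (false, 71, .inl ⟨46, 70, 1, 0⟩),
  none,
  none,
  none,
  none,
  none,
  none,
  none,
  none,
  none,
  none,
  none,
  none,
  none,
  none,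
  some (false, 53, .inl ⟨8, 71, -1, 0⟩),
  none,
  some (false, 54, .inl ⟨14, 68, -1, -1⟩),
  none,
  some (false, 55, .inl ⟨15, 66, -1, 1⟩),
  some (false, 65, .inr ⟨2, 66, 29, 65, -1, -1, -1, false, ⟨19, 49, -1, -1⟩⟩),
  some (false, 66, .inl ⟨41, 62, -1, 1⟩),
  some (false, 69, .inr ⟨6, 66, 37, 69, -1, -1, -1, false, ⟨10, 62, -1, -1⟩⟩),
  some (false, 70, .inl ⟨25, 71, 1, 0⟩),
  some (false, 71, .inl ⟨46, 70, 1, 0⟩),
  none,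
  none,
  none,
  none,
  none,
  none,
  none,
  none,
  none,
  none,
  none,
  none,
  none,
  none,
  none,
  some (false, 60, .inl ⟨18, 70, 1, 0⟩),
  some (false, 54, .inl ⟨34, 55, 1, 1⟩),
  some (false, 63, .inl ⟨18, 71, 1, 0⟩),
  some (false, 55, .inl ⟨37, 54, 1, 1⟩),
  some (false, 65, .inl ⟨20, 71, -1, 0⟩),
  some (false, 66, .inl ⟨38, 64, -1, -1⟩),
  some (false, 69, .inl ⟨24, 71, -1, 0⟩),
  some (false, 70, .inl ⟨25, 71, 1, 0⟩),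
  some (false, 71, .inr ⟨27, 55, 49, 71, 1, 1, 1, false, ⟨28, 54, 1, -1⟩⟩),
  none,
  none,
  none,
  none,
  none,
  none,
  none,
  none,
  none,
  none,
  none,
  none,
  none,
  none,
  none,
  none,
  some (false, 54, .inl ⟨14, 68, -1, -1⟩),
  some (false, 63, .inl ⟨27, 69, -1, 0⟩),
  some (false, 55, .inr ⟨44, 49, 55, 71, 1, 1, -1, false, ⟨46, 70, 1, 0⟩⟩),
  some (false, 65, .inl ⟨20, 71, -1, 0⟩),
  some (false, 66, .inr ⟨60, 48, 66, 71, -1, -1, 1, false, ⟨46, 70, 1, 0⟩⟩),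
  some (false, 69, .inl ⟨44, 63, -1, 0⟩),
  some (false, 70, .inl ⟨25, 71, 1, 0⟩),
  some (false, 71, .inl ⟨46, 70, 1, 0⟩),
  none,
  none,
  none,
  none,
  none,
  none,
  none,
  none,
  none,
  none,
  none,
  none,
  none,
  none,
  none,
  none,
  none,
  some (false, 63, .inl ⟨18, 71, 1, 0⟩),
  some (false, 55, .inl ⟨37, 54, 1, 1⟩),
  some (false, 65, .inl ⟨20, 71, -1, 0⟩),
  some (false, 66, .inl ⟨38, 64, -1, -1⟩),
  some (false, 69, .inl ⟨24, 71, -1, 0⟩),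
  some (false, 70, .inr ⟨20, 55, 41, 70, 1, -1, -1, false, ⟨21, 54, 1, -1⟩⟩),
  some (false, 71, .inl ⟨46, 70, 1, 0⟩),
  none,
  none,
  none,
  none,
  none,
  none,
  none,
  none,
  none,
  none,
  none,
  none,
  none,
  none,
  none,
  none,
  none,
  none,
  some (false, 55, .inl ⟨15, 66, -1, 1⟩),
  some (false, 65, .inl ⟨39, 63, 1, 0⟩),
  some (false, 66, .inr ⟨60, 48, 66, 71, -1, -1, 1, false, ⟨46, 70, 1, 0⟩⟩),
  some (false, 69, .inl ⟨24, 71, -1, 0⟩),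
  some (false, 70, .inl ⟨25, 71, 1, 0⟩),
  some (false, 71, .inl ⟨46, 70, 1, 0⟩),
  none,
  none,
  none,
  none,
  none,
  none,
  none,
  none,
  none,
  none,
  none,
  none,
  none,
  none,
  none,
  none,
  none,
  none,
  none,
  some (false, 65, .inl ⟨20, 71, -1, 0⟩),
  some (false, 66, .inl ⟨38, 64, -1, -1⟩),
  some (false, 69, .inr ⟨18, 55, 38, 69, 1, 1, 1, false, ⟨21, 52, -1, -1⟩⟩),
  some (false, 70, .inl ⟨25, 71, 1, 0⟩),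
  some (false, 71, .inl ⟨46, 70, 1, 0⟩),
  none,
  none,
  none,
  none,
  none,
  none,
  none,
  none,
  none,
  none,
  none,
  none,
  none,
  none,
  none,
  none,
  none,
  none,
  none,
  none,
  some (false, 66, .inl ⟨38, 64, -1, -1⟩),
  some (false, 69, .inl ⟨24, 71, -1, 0⟩),
  some (false, 70, .inl ⟨25, 71, 1, 0⟩),
  some (false, 71, .inl ⟨46, 70, 1, 0⟩),
  none,
  none,
  none,
  none,
  none,
  none,
  none,
  none,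
  none,
  none,
  none,
  none,
  none,
  none,
  none,
  none,
  none,
  none,
  none,
  none,
  none,
  some (false, 69, .inl ⟨24, 71, -1, 0⟩),
  some (false, 70, .inl ⟨25, 71, 1, 0⟩),
  some (false, 71, .inl ⟨46, 70, 1, 0⟩),
  none,
  none,
  none,
  none,
  none,
  none,
  none,
  none,
  none,
  none,
  none,
  none,
  none,
  none,
  none,
  none,
  none,
  none,
  none,
  none,
  none,
  none,
  some (false, 70, .inl ⟨25, 71, 1, 0⟩),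
  some (false, 71, .inl ⟨47, 69, -1, 0⟩),
  none,
  none,
  none,
  none,
  none,
  none,
  none,
  none,
  none,
  none,
  none,
  none,
  none,
  none,
  none,
  none,
  none,
  none,
  none,
  none,
  none,
  none,
  none,
  some (false, 71, .inl ⟨46, 70, 1, 0⟩)]

/-- A certificate for a pair is correct. -/
def pairOK (i j : ℕ) : Bool :=
  match pairTab.getD (24 * i + j) none with
  | none => !(cmo (rp i) (rp j))
  | some (sw, yy, c) =>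
    let a := if sw then rp j else rp i
    let b := if sw then rp i else rp j
    (decide (Rn yy = b) || decide (Rn yy = π b)) &&
      match c with
      | .inl d => dOK a (Rn yy) d
      | .inr l => lOK a (Rn yy) l

theorem pairs_ok : ∀ i : Fin 24, ∀ j : Fin 24, i.val ≤ j.val → pairOK i.val j.val = true := by decide +kernel

/-- The root whose coroot separates the first orbit from the second. -/
def sepRoot (i j : ℕ) : Rt chevE6 := Rn ([0, 8, 0, 0, 0, 6, 0, 0, 11, 6, 6, 0, 8, 6, 6, 0, 8, 0, 6, 0, 0, 0, 0, 0, 2, 0, 27, 0, 0, 2, 20, 2, 0, 2, 0, 2, 0, 0, 0, 0, 2, 0, 0, 2, 20, 0, 0, 0, 0, 1, 0, 2, 1, 0, 0, 0, 0, 0, 0, 0, 1, 1, 0, 0, 0, 1, 0, 0, 0, 6, 0, 0, 0, 0, 0, 0, 0, 0, 0, 0, 0, 0, 0, 0, 0, 0, 0, 0, 0, 0, 0, 0, 0, 0, 8, 0, 0, 0, 11, 0, 0, 2, 8, 2, 0, 2, 0, 2, 0, 0, 2, 0, 2, 0, 8, 0, 0, 0, 0, 0, 1, 1, 0, 18, 1, 0, 0, 0, 0, 1, 0, 1, 0, 1, 0, 0,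 0, 1, 0, 0, 18, 0, 0, 0, 0, 0, 0, 0, 0, 0, 0, 0, 0, 0, 0, 0, 0, 0, 0, 0, 0, 0, 0, 0, 0, 6, 0, 0, 0, 1, 0, 6, 1, 0, 0, 0, 0, 1, 0, 1, 1, 1, 0, 0, 0, 0, 6, 0, 0, 0, 0, 0, 1, 0, 0, 2, 0, 0, 1, 0, 0, 0, 0, 1, 0, 0, 0, 0, 0, 1, 0, 2, 0, 0, 0, 0, 0, 0, 0, 0, 0, 0, 0, 0, 0, 0, 0, 0, 0, 0, 0, 0, 0, 0, 0, 0, 18, 0, 0, 0, 1, 0, 0, 2, 0, 0, 1, 0, 0, 1, 0, 1, 0, 1, 0, 0, 2, 0, 0, 0, 0, 0, 0, 0, 0, 0, 0, 0, 0, 0, 0, 0, 0, 0, 0, 0, 0, 0, 0, 0, 0, 0, 6, 0, 0, 0, 0, 0, 0, 0, 0, 0, 0, 0, 0, 0, 0, 0, 0, 0, 0, 0, 0, 0, 0, 0, 0, 2, 0, 0, 0, 0, 0, 0, 0, 0, 0, 0, 0, 0, 0, 0, 0, 0, 0, 0, 0, 0, 2, 0, 0, 0, 0, 0, 0, 0, 0, 0, 0, 0, 0, 0, 0, 0, 0, 0, 0, 0, 0, 0, 0, 0, 0, 1, 0, 0, 0, 0, 0, 0, 0, 0, 0, 2, 0, 0, 1, 0, 0, 1, 0, 0, 1, 0, 2, 0, 0, 0, 0, 0, 0, 0, 0, 0, 0, 0, 0, 0, 0, 0, 0, 0, 0, 0, 0, 0, 0, 1, 0, 0, 0, 0, 0, 0, 0, 0, 0, 0, 0, 0, 0, 0, 0, 0, 0, 0, 0, 0, 0, 0, 0,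 0, 2, 0, 0, 0, 0, 0, 0, 0, 0, 0, 0, 0, 0, 0, 0, 0, 0, 0, 0, 0, 0, 1, 0, 0, 0, 0, 0, 0, 0, 0, 0, 0, 0, 0, 0, 0, 0, 0, 0, 0, 0, 0, 0, 0, 0, 0, 1, 0, 0, 0, 0, 0, 0, 0, 0, 0, 0, 0, 0, 0, 0, 0, 0, 0, 0, 0, 0, 1, 0, 0, 0, 0, 0, 0, 0, 0, 0, 0, 0, 0, 0, 0, 0, 0, 0, 0, 0, 0, 1, 0, 0, 0, 0, 0, 0, 0, 0, 0, 0, 0, 0, 0, 0, 0, 0, 0, 0, 0, 0, 2, 0, 0, 0, 0, 0, 0, 0, 0, 0, 0, 0, 0, 0, 0, 0, 0, 0, 0, 0, 0, 0, 0, 0, 0, 0, 0, 0, 0, 0, 0, 0, 0, 0, 0, 0, 0, 0, 0, 0, 0, 0, 0, 0, 0].getD (24 * i + j) 0)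

/-- The root whose coroot scales a layer. -/
def scRoot (j : ℕ) : Rt chevE6 := Rn ([4, 10, 2, 1, 7, 10, 2, 9, 6, 13, 10, 12, 6, 13, 8, 18, 14, 18, 15, 20, 38, 24, 25, 46].getD j 0)

theorem sep_ok : ∀ i : Fin 24, ∀ j : Fin 24, cmo (rp i.val) (rp j.val) = false →
    π (sepRoot i.val j.val) = sepRoot i.val j.val ∧ pr chevE6 (sepRoot i.val j.val) (rp j.val) = 0 ∧
      (pr chevE6 (sepRoot i.val j.val) (rp i.val) = 1 ∨ pr chevE6 (sepRoot i.val j.val) (rp i.val) = -1) := by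
  decide +kernel

theorem sc_ok : ∀ j : Fin 24, pr chevE6 (scRoot j.val) (rp j.val) = 1 ∧
    if π (rp j.val) = rp j.val then π (scRoot j.val) = scRoot j.val
    else π (scRoot j.val) ≠ scRoot j.val ∧ pr chevE6 (π (scRoot j.val)) (rp j.val) = 0 := by
  decide +kernel

theorem co_pi : ∀ r : Rt chevE6, ∀ i : Fin chevE6.rank,
    co chevE6 (π r) (Frob.nodePerm Twist.E6.g i) = co chevE6 r i := by decide +kernel

theorem pos_iff36 (r : Rt chevE6) : r ∈ Twist.E6.C.Pos ↔ 36 ≤ r.val := by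
  show 72 ≤ 2 * r.val ↔ _
  omega

theorem pidx_lt : ∀ r : Rt chevE6, pidx r < 24 := by decide +kernel

theorem pidx_rp : ∀ j : Fin 24, 36 ≤ (rp j.val).val ∧ pidx (rp j.val) = j.val ∧
    36 ≤ (π (rp j.val)).val ∧ pidx (π (rp j.val)) = j.val := by decide +kernel

theorem layer_cases : ∀ r : Rt chevE6, 36 ≤ r.val → r = rp (pidx r) ∨ r = π (rp (pidx r)) := by decide +kernel

theorem π_layer : ∀ r : Rt chevE6, 36 ≤ r.val → 36 ≤ (π r).val ∧ pidx (π r) = pidx r := by decide +kernel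

theorem terms_later : ∀ r : Rt chevE6, ∀ s : Rt chevE6, 36 ≤ r.val → 36 ≤ s.val → r ≠ s →
    ∀ c ∈ chevE6.commTerms r.val s.val, c.1 < 72 ∧ 36 ≤ c.1 ∧
      pidx r < pidx (Rn c.1) ∧ pidx s < pidx (Rn c.1) := by decide +kernel

end Cfsg.Agent.Lib.TwMult.E6
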