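import Cfsg.Agent.Lib.ChevStructure.Torus

/-!
The levels of a linear functional on the root lattice: the root elements of level zero preserve them,
those of positive level raise them.
-/

set_option autoImplicit false
set_option linter.unusedSectionVars false

namespace Cfsg.Agent.Lib.TwMult

open Cfsg.Lie
open Cfsg.Agent.Lib.ChevStructure
open scoped MatrixGroups Matrix

variable {D : ChevalleyDatum} (C : Core D) (μ : Fin D.rank → ℤ)

/-- The level of a vector. -/
def lev (w : Fin D.rank → ℤ) : ℤ := ∑ m, w m * μ m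

theorem lev_entry {R : Type*} [CommRing R] (r : Rt D) (t : R) {a b : D.Idx}
    (h : (xI D R r t - 1) a b ≠ 0) :
    ∃ k : ℕ, lev μ (C.wt a) = lev μ (C.wt b) + ((k + 1 : ℕ) : ℤ) * lev μ (C.v r) := by
  have e : xI D R r t - 1 = ∑ k ∈ Finset.range 3, t ^ (k + 1) • Ek D R (k + 1) r := by
    rw [xI, Finset.sum_range_succ' _ 3, C.Ek_zero]
    simp
  rw [e, Matrix.sum_apply] at h
  obtain ⟨k, -, hk⟩ := Finset.exists_ne_zero_of_sum_ne_zero h
  have hE : E D (k + 1) r a b ≠ 0 := fun h0 => hk (by simp [Ek, h0])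
  refine ⟨k, ?_⟩
  simp only [lev, C.E_weight (k + 1) r a b hE, Pi.add_apply, Pi.smul_apply, smul_eq_mul, add_mul, mul_assoc,
    Finset.sum_add_distrib, ← Finset.mul_sum]

variable (R : Type*) [CommRing R]

/-- The matrices preserving the levels. -/
def levelGroup : Subgroup (GL D.Idx R) where
  carrier := {g | (∀ a b, (g : Matrix D.Idx D.Idx R) a b ≠ 0 → lev μ (C.wt a) = lev μ (C.wt b)) ∧
    ∀ a b, ((g⁻¹ : GL D.Idx R) : Matrix D.Idx D.Idx R) a b ≠ 0 → lev μ (C.wt a) = lev μ (C.wt b)}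
  one_mem' := by
    refine ⟨fun a b h => ?_, fun a b h => ?_⟩ <;>
    · rcases eq_or_ne a b with rfl | hne
      · rfl
      · exact absurd (by simp [Matrix.one_apply_ne hne]) h
  mul_mem' := by
    intro g g' hg hg'
    have key : ∀ M N : Matrix D.Idx D.Idx R, (∀ a b, M a b ≠ 0 → lev μ (C.wt a) = lev μ (C.wt b)) →
        (∀ a b, N a b ≠ 0 → lev μ (C.wt a) = lev μ (C.wt b)) →
        ∀ a b, (M * N) a b ≠ 0 → lev μ (C.wt a) = lev μ (C.wt b) := fun M N hM hN a b h => by
      rw [Matrix.mul_apply] at h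
      obtain ⟨i, -, hi⟩ := Finset.exists_ne_zero_of_sum_ne_zero h
      exact (hM a i (left_ne_zero_of_mul hi)).trans (hN i b (right_ne_zero_of_mul hi))
    refine ⟨by rw [Units.val_mul]; exact key _ _ hg.1 hg'.1, ?_⟩
    rw [mul_inv_rev, Units.val_mul]
    exact key _ _ hg'.2 hg.2
  inv_mem' := fun {g} hg => ⟨hg.2, by simpa using hg.1⟩

theorem X_mem_levelGroup {r : Rt D} (h : lev μ (C.v r) = 0) (t : R) : C.X R r t ∈ levelGroup C μ R := by
  have key : ∀ t : R, ∀ a b, xI D R r t a b ≠ 0 → lev μ (C.wt a) = lev μ (C.wt b) := by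
    intro t a b hab
    rcases eq_or_ne a b with rfl | hne
    · rfl
    · obtain ⟨k, hk⟩ := lev_entry C μ r t (a := a) (b := b) (by simpa [Matrix.one_apply_ne hne] using hab)
      simp [hk, h]
  exact ⟨key t, by rw [C.X_inv]; exact key (-t)⟩

theorem US_le_levelGroup {S : Set (Rt D)} (h : ∀ r ∈ S, lev μ (C.v r) = 0) :
    C.US R S ≤ levelGroup C μ R := by
  refine (Subgroup.closure_le _).2 ?_
  rintro g ⟨r, hr, t, rfl⟩
  exact X_mem_levelGroup C μ R (h r hr) t

theorem US_le_raise {S : Set (Rt D)} (h : ∀ r ∈ S, 0 < lev μ (C.v r)) :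
    C.US R S ≤ upperU R (fun a => lev μ (C.wt a)) 0 le_rfl := by
  refine (Subgroup.closure_le _).2 ?_
  rintro g ⟨r, hr, t, rfl⟩
  have key : ∀ t : R, Above (fun a => lev μ (C.wt a)) 0 (xI D R r t - 1) := by
    intro t a b hab
    obtain ⟨k, hk⟩ := lev_entry C μ r t hab
    have := mul_pos (show (0 : ℤ) < ((k + 1 : ℕ) : ℤ) by omega) (h r hr)
    simp only [add_zero]
    omega
  exact ⟨key t, by rw [C.X_inv]; exact key (-t)⟩

theorem levelGroup_inf_raise : levelGroup C μ R ⊓ upperU R (fun a => lev μ (C.wt a)) 0 le_rfl = ⊥ := by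
  rw [eq_bot_iff]
  rintro g ⟨h1, h2⟩
  refine Subgroup.mem_bot.2 (Units.ext (sub_eq_zero.1 ?_))
  ext a b
  by_contra h
  have h3 := h2.1 a b h
  rcases eq_or_ne a b with rfl | hne
  · simp only [add_zero] at h3
    omega
  · have := h1.1 a b (by simpa [Matrix.sub_apply, Matrix.one_apply_ne hne] using h)
    simp only [add_zero] at h3
    omega

variable {C μ R} in
/-- The raising group is normalised by the level group. -/
theorem upperU_conj {c g : GL D.Idx R} (hc : c ∈ levelGroup C μ R)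
    (hg : g ∈ upperU R (fun a => lev μ (C.wt a)) 0 le_rfl) :
    c * g * c⁻¹ ∈ upperU R (fun a => lev μ (C.wt a)) 0 le_rfl := by
  have key : ∀ g : GL D.Idx R, Above (fun a => lev μ (C.wt a)) 0 ((g : Matrix D.Idx D.Idx R) - 1) →
      Above (fun a => lev μ (C.wt a)) 0 (((c * g * c⁻¹ : GL D.Idx R) : Matrix D.Idx D.Idx R) - 1) := by
    intro g hg a b h
    have e : ((c * g * c⁻¹ : GL D.Idx R) : Matrix D.Idx D.Idx R) - 1 =
        (c : Matrix D.Idx D.Idx R) * ((g : Matrix D.Idx D.Idx R) - 1) * ((c⁻¹ : GL D.Idx R) : Matrix D.Idx D.Idx R) := by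
      simp [mul_sub, sub_mul, mul_assoc]
    rw [e, Matrix.mul_apply] at h
    obtain ⟨j, -, hj⟩ := Finset.exists_ne_zero_of_sum_ne_zero h
    have h2 := hc.2 j b (right_ne_zero_of_mul hj)
    have h3 := left_ne_zero_of_mul hj
    rw [Matrix.mul_apply] at h3
    obtain ⟨i, -, hi⟩ := Finset.exists_ne_zero_of_sum_ne_zero h3
    have h4 := hc.1 a i (left_ne_zero_of_mul hi)
    have h5 := hg i j (right_ne_zero_of_mul hi)
    simp only [add_zero] at h5 ⊢
    omega
  refine ⟨key g hg.1, ?_⟩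
  rw [show (c * g * c⁻¹)⁻¹ = c * g⁻¹ * c⁻¹ by group]
  exact key g⁻¹ hg.2

theorem diagonal_le_levelGroup (F : Type*) [Field F] : D.diagonalSubgroup F ≤ levelGroup C μ F := by
  intro g hg
  have key : ∀ g ∈ D.diagonalSubgroup F, ∀ a b, (g : Matrix D.Idx D.Idx F) a b ≠ 0 → a = b := by
    intro g hg a b hab
    obtain ⟨c, rfl⟩ := C.mem_diagonal_iff.1 hg
    have e : C.HT F c = Core.diag F (fun s => C.chA c s) := rfl
    by_contra hne
    rw [e] at hab
    exact hab (C.diag_entry F _ a b hne)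
  exact ⟨fun a b h => by rw [key g hg a b h], fun a b h => by rw [key g⁻¹ (inv_mem hg) a b h]⟩

end Cfsg.Agent.Lib.TwMult
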