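import Cfsg.Agent.Lib.TwMult.Split
import Cfsg.Agent.Lib.TwMult.Level
import Cfsg.Agent.Lib.LieTwisted.Twist.BN

/-!
The split (B,N)-pair data of a twisted group of rank two.
-/

set_option autoImplicit false
set_option linter.unusedSectionVars false

namespace Cfsg.Agent.Lib.TwMult

open Cfsg.Lie
open Cfsg.Agent.Lib.ChevStructure Cfsg.Agent.Lib.LieTwisted.Twist DoubleCoset
open scoped MatrixGroups Pointwise

variable {D : ChevalleyDatum} {C : Core D} {K : Type*} [Field K] (T : Tw C K)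

/-- The fixed part of the group of a set of roots, inside the twisted group. -/
def uS (S : Set (Rt D)) : Subgroup ↥T.W := (C.US K S).subgroupOf T.W

/-- The torus of the twisted group. -/
def tor : Subgroup ↥T.W := (D.diagonalSubgroup K).subgroupOf T.W

theorem mem_uS {S : Set (Rt D)} {g : ↥T.W} : g ∈ uS T S ↔ (g : GL D.Idx K) ∈ C.US K S :=
  Subgroup.mem_subgroupOf

theorem mem_tor {g : ↥T.W} : g ∈ tor T ↔ (g : GL D.Idx K) ∈ D.diagonalSubgroup K := Subgroup.mem_subgroupOf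

theorem tor_comm : ∀ a ∈ tor T, ∀ b ∈ tor T, a * b = b * a := by
  intro a ha b hb
  obtain ⟨c, hc⟩ := C.mem_diagonal_iff.1 (mem_tor T |>.1 ha)
  obtain ⟨d, hd⟩ := C.mem_diagonal_iff.1 (mem_tor T |>.1 hb)
  refine Subtype.ext ?_
  simp only [Subgroup.coe_mul, hc, hd, C.HT_mul, mul_comm c d]

theorem tor_conj_uS (S : Set (Rt D)) : ∀ h ∈ tor T, ∀ u ∈ uS T S, h * u * h⁻¹ ∈ uS T S := by
  intro h hh u hu
  exact (mem_uS T).2 ((Subgroup.mem_normalizer_iff.1 (C.diag_le_normalizer S (mem_tor T |>.1 hh)) _).1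
    ((mem_uS T).1 hu))

/-- Conjugation by a monomial element. -/
theorem conj_uS {n : ↥T.W} {σ : Equiv.Perm (Rt D)} (hn : C.Acts (n : GL D.Idx K) σ) {S S' : Set (Rt D)}
    (h : ∀ r ∈ S, σ r ∈ S') : ∀ u ∈ uS T S, n * u * n⁻¹ ∈ uS T S' :=
  fun _ hu => (mem_uS T).2 (C.conj_mem_US K hn h ((mem_uS T).1 hu))

/-- The unipotent group of an orbit. -/
abbrev uO (m : Fin T.nn) : Subgroup ↥T.W := uS T (C.inv' (T.wO m))

/-- The group of rank one of an orbit. -/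
def rankOne (m : Fin T.nn) : Subgroup ↥T.W := uO T m ⊔ (uO T m).map (MulAut.conj (T.nS m)).toMonoidHom

theorem uO_le (m : Fin T.nn) : uO T m ≤ uS T C.Pos :=
  fun _ h => (mem_uS T).2 (C.US_mono K (fun _ hr => hr.1) ((mem_uS T).1 h))

theorem wO_off (m : Fin T.nn) {r : Rt D} (hr : r ∈ C.Pos \ C.inv' (T.wO m)) :
    T.wO m r ∈ C.Pos \ C.inv' (T.wO m) := by
  have hp : T.wO m r ∈ C.Pos := by
    by_contra hn
    exact hr.2 ⟨hr.1, (C.neg_iff_not_pos _).2 hn⟩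
  refine ⟨hp, fun h => ?_⟩
  have := h.2
  rw [T.wO_wO] at this
  exact (C.neg_iff_not_pos _).1 this hr.1

theorem mem_inv'_of_supp (m : Fin T.nn) {r : Rt D} (hr : r ∈ C.Pos)
    (h : ∀ j, C.v r j ≠ 0 → T.idx j = m) : r ∈ C.inv' (T.wO m) :=
  ⟨hr, T.neg_of_simple (T.mem_WT.1 (T.wO_mem m)).1 hr fun j hj => T.J_neg m j ((T.mem_J j m).2 (h j hj))⟩

/-- The functional vanishing exactly on the roots of an orbit. -/
def outμ (m : Fin T.nn) : Fin D.rank → ℤ := fun j => if T.idx j = m then 0 else 1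

theorem lev_off (m : Fin T.nn) {r : Rt D} (hr : r ∈ C.Pos \ C.inv' (T.wO m)) :
    0 < lev (outμ T m) (C.v r) := by
  obtain ⟨j, hj, hjm⟩ : ∃ j, C.v r j ≠ 0 ∧ T.idx j ≠ m := by
    by_contra hn
    push Not at hn
    exact hr.2 (mem_inv'_of_supp T m hr.1 hn)
  refine Finset.sum_pos' (fun k _ => mul_nonneg (C.v_nonneg hr.1 k) ?_) ⟨j, Finset.mem_univ j, ?_⟩
  · rw [outμ]; split_ifs <;> norm_num
  · rw [outμ, if_neg hjm, mul_one]
    exact lt_of_le_of_ne (C.v_nonneg hr.1 j) (Ne.symm hj)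

theorem lev_inv' (m : Fin T.nn) {r : Rt D} (hr : r ∈ C.inv' (T.wO m)) : lev (outμ T m) (C.v r) = 0 :=
  Finset.sum_eq_zero fun j _ => by
    by_cases hj : C.v r j = 0
    · rw [hj, zero_mul]
    · rw [outμ, if_pos (T.inv'_supp m hr hj), mul_zero]

theorem lev_wO (m : Fin T.nn) (r : Rt D) : lev (outμ T m) (C.v (T.wO m r)) = lev (outμ T m) (C.v r) :=
  Finset.sum_congr rfl fun j _ => by
    by_cases hj : T.idx j = m
    · simp [outμ, hj]
    · rw [show T.wO m r = C.pprod (T.J m) r from rfl, T.pprod_coord _ _ _ (fun h => hj ((T.mem_J j m).1 h))]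

theorem rankOne_le_level (m : Fin T.nn) :
    rankOne T m ≤ (levelGroup C (outμ T m) K).subgroupOf T.W := by
  have h1 : uO T m ≤ (levelGroup C (outμ T m) K).subgroupOf T.W := fun g hg =>
    Subgroup.mem_subgroupOf.2 (US_le_levelGroup C _ K (fun r hr => lev_inv' T m hr) ((mem_uS T).1 hg))
  refine sup_le h1 ?_
  rintro _ ⟨u, hu, rfl⟩
  refine Subgroup.mem_subgroupOf.2 ?_
  refine US_le_levelGroup C _ K (S := {r | lev (outμ T m) (C.v r) = 0}) (fun r hr => hr) ?_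
  refine C.conj_mem_US K (T.nO_acts m) (fun r hr => ?_) ((mem_uS T).1 hu)
  exact (lev_wO T m r).trans (lev_inv' T m hr)

theorem off_inf_rankOne (m : Fin T.nn) :
    uS T (C.Pos \ C.inv' (T.wO m)) ⊓ (rankOne T m ⊔ tor T) = ⊥ := by
  rw [eq_bot_iff]
  intro g hg
  obtain ⟨h1, h2⟩ := Subgroup.mem_inf.1 hg
  have hlev : (g : GL D.Idx K) ∈ levelGroup C (outμ T m) K :=
    Subgroup.mem_subgroupOf.1 ((sup_le (rankOne_le_level T m) (fun x hx =>
      Subgroup.mem_subgroupOf.2 (diagonal_le_levelGroup C _ K ((mem_tor T).1 hx))) :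
      rankOne T m ⊔ tor T ≤ (levelGroup C (outμ T m) K).subgroupOf T.W) h2)
  have hr := US_le_raise C (outμ T m) K (fun r hr => lev_off T m hr) ((mem_uS T).1 h1)
  have : (g : GL D.Idx K) ∈ levelGroup C (outμ T m) K ⊓
      upperU K (fun a => lev (outμ T m) (C.wt a)) 0 le_rfl := Subgroup.mem_inf.2 ⟨hlev, hr⟩
  rw [levelGroup_inf_raise, Subgroup.mem_bot] at this
  exact Subgroup.mem_bot.2 (Subtype.ext this)

theorem acts_pow (a b : Fin T.nn) : ∀ j : ℕ,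
    C.Acts ((((T.nS a * T.nS b) ^ j : ↥T.W)) : GL D.Idx K) ((T.wO a * T.wO b) ^ j)
  | 0 => fun r => ⟨1, fun t => by simp⟩
  | j + 1 => by
    simp only [pow_succ, Subgroup.coe_mul]
    exact C.acts_mul K (acts_pow a b j) (C.acts_mul K (T.nO_acts a) (T.nO_acts b))

theorem acts_word (a b : Fin T.nn) (j : ℕ) :
    C.Acts (((T.nS a * T.nS b) ^ j * T.nS a : ↥T.W) : GL D.Idx K) ((T.wO a * T.wO b) ^ j * T.wO a) :=
  C.acts_mul K (acts_pow T a b j) (T.nO_acts a)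

theorem word_mono (a b : Fin T.nn) (j : ℕ) :
    (((T.nS a * T.nS b) ^ j * T.nS a : ↥T.W) : GL D.Idx K) ∈ D.monomialSubgroup K := by
  have h : (T.nS a * T.nS b) ^ j * T.nS a ∈ T.N1 :=
    mul_mem (pow_mem (mul_mem (T.mem_N1.2 (T.nO_mono a)) (T.mem_N1.2 (T.nO_mono b))) j) (T.mem_N1.2 (T.nO_mono a))
  exact T.mem_N1.1 h

section Finite

variable [Finite K]

theorem exists_borel_dec {g : ↥T.W} (hg : g ∈ T.B1) : ∃ v ∈ uS T C.Pos, ∃ h ∈ tor T, g = v * h := by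
  obtain ⟨v, hv, k, hk, e, hfv, hfk⟩ := T.borel_fix (T.mem_B1.1 hg) (T.W_fix _ g.2)
  exact ⟨⟨v, T.posU_fix_le ⟨hv, C.US_le_group _ hv, hfv⟩⟩, (mem_uS T).2 hv, ⟨k, T.diag_mem k hk hfk⟩,
    (mem_tor T).2 hk, Subtype.ext e⟩

theorem exists_split (m : Fin T.nn) : ∀ u ∈ uS T C.Pos,
    ∃ a ∈ uS T (C.Pos \ C.inv' (T.wO m)), ∃ c ∈ uO T m, u = a * c := by
  obtain ⟨σ, hσ, hσP⟩ := T.exists_longest
  obtain ⟨j, hj⟩ := List.exists_mem_of_ne_nil _ (T.J_ne m)
  have hjm : T.idx j = m := (T.mem_J j m).1 hj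
  have hdes : σ (C.p j) ∈ C.Neg := by
    have : C.p j ∈ C.inv' σ := hσP.symm ▸ C.p_pos j
    exact this.2
  obtain ⟨eset, hdisj⟩ := T.inv'_split hσ hdes
  have hlen := T.len_split hσ hdes
  rw [hjm] at eset hdisj hlen
  rw [hσP] at eset
  set σ' := σ * T.wO m
  have hσ' : σ' ∈ T.WT := mul_mem hσ (T.wO_mem m)
  have hB : C.Pos \ C.inv' (T.wO m) = T.wO m '' C.inv' σ' := by
    rw [eset, Set.union_sdiff_left, hdisj.symm.sdiff_eq_left]
  set A := uS T (C.Pos \ C.inv' (T.wO m)) with hA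
  set B := uO T m with hBdef
  have hAle : A ≤ uS T C.Pos := fun _ h => (mem_uS T).2 (C.US_mono K (fun _ hr => hr.1) ((mem_uS T).1 h))
  have hdis : A ⊓ B = ⊥ := by
    rw [eq_bot_iff]
    refine le_trans (inf_le_inf_left _ (le_trans ?_ le_sup_left)) (off_inf_rankOne T m).le
    exact le_sup_left
  have hcard : ∀ S : Set (Rt D), Nat.card ↥(uS T S) = Nat.card ↥(C.US K S ⊓ T.Fix) := fun S => by
    rw [← T.W_eq, uS, ← Subgroup.inf_subgroupOf_right]
    exact Nat.card_congr (Subgroup.subgroupOfEquivOfLe inf_le_right).toEquiv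
  have hUcard : Nat.card ↥(uS T C.Pos) = T.q ^ (C.len σ / T.d) := by
    rw [hcard, ← hσP]; exact (T.U_spec hσ).2.2
  have hBcard : Nat.card ↥B = T.q ^ (C.len (T.wO m) / T.d) := by
    rw [hcard]; exact (T.U_spec (T.wO_mem m)).2.2
  have hAcard : Nat.card ↥A = T.q ^ (C.len σ' / T.d) := by
    rw [hcard, hB, show T.wO m = C.pprod (T.J m) from rfl, ← C.map_conj_US K (T.nO_acts m)]
    have hfix : T.Fix.map (MulAut.conj (T.nO m)).toMonoidHom = T.Fix := by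
      have hn : T.nO m ∈ T.Fix := T.nO_fix m
      ext x
      constructor
      · rintro ⟨y, hy, rfl⟩
        exact mul_mem (mul_mem hn hy) (inv_mem hn)
      · exact fun hx => ⟨(T.nO m)⁻¹ * x * T.nO m, mul_mem (mul_mem (inv_mem hn) hx) hn,
          show T.nO m * ((T.nO m)⁻¹ * x * T.nO m) * (T.nO m)⁻¹ = x by group⟩
    conv_lhs => rw [← hfix]
    rw [← Subgroup.map_inf _ _ _ (MulEquiv.injective _),
      Subgroup.card_map_of_injective (MulEquiv.injective _)]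
    exact (T.U_spec hσ').2.2
  let f : ↥A × ↥B → ↥(uS T C.Pos) := fun x => ⟨x.1.1 * x.2.1, mul_mem (hAle x.1.2) (uO_le T m x.2.2)⟩
  have hinj : Function.Injective f := fun x y h =>
    Subgroup.mul_injective_of_disjoint (disjoint_iff.2 hdis) (congrArg Subtype.val h)
  have hbij : Function.Bijective f := hinj.bijective_of_nat_card_le (le_of_eq (by
    rw [Nat.card_prod, hAcard, hBcard, hUcard, ← pow_add, hlen,
      Nat.add_div_of_dvd_right (show T.d ∣ C.len (T.wO m) from T.base_dvd m), add_comm]))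
  intro u hu
  obtain ⟨⟨a, c⟩, e⟩ := hbij.2 ⟨u, hu⟩
  exact ⟨a, a.2, c, c.2, (congrArg Subtype.val e).symm⟩

theorem one_dichotomy (hq : 1 < T.q) (m : Fin T.nn) (hL : T.nS m ∈ rankOne T m) : ∀ u ∈ uO T m,
    (∃ a ∈ uO T m, ∃ h ∈ tor T, T.nS m * u * T.nS m = a * h) ∨
      (∃ a ∈ uO T m, ∃ b ∈ uO T m, ∃ h ∈ tor T, T.nS m * u * T.nS m = a * T.nS m * b * h) := by
  intro u hu
  set n := T.nS m with hn
  have hgL : n * u * n ∈ rankOne T m := mul_mem (mul_mem hL (Subgroup.mem_sup_left hu)) hL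
  have hkill : ∀ a ∈ uS T (C.Pos \ C.inv' (T.wO m)), ∀ x ∈ rankOne T m ⊔ tor T,
      n * u * n = a * x → n * u * n = x := by
    intro a ha x hx e
    have : a ∈ uS T (C.Pos \ C.inv' (T.wO m)) ⊓ (rankOne T m ⊔ tor T) := by
      refine Subgroup.mem_inf.2 ⟨ha, ?_⟩
      rw [show a = n * u * n * x⁻¹ by rw [e, mul_inv_cancel_right]]
      exact mul_mem (Subgroup.mem_sup_left hgL) (inv_mem hx)
    rw [off_inf_rankOne, Subgroup.mem_bot] at this
    rw [e, this, one_mul]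
  have hnN : n ∈ T.N1 := T.mem_N1.2 (T.nO_mono m)
  have hnn : n * n ∈ T.B1 := by
    refine T.mem_B1.2 (C.diagonal_le_borel (C.mem_diagonal_of_acts_one (mul_mem (T.nO_mono m) (T.nO_mono m)) ?_))
    have := C.acts_mul K (T.nO_acts m) (T.nO_acts m)
    rwa [T.J_inv] at this
  have hu' : u ∈ T.B1 := T.mem_B1.2 (C.posUS_le_borel ((mem_uS T).1 (uO_le T m hu)))
  have hdec : ∀ g ∈ T.B1, ∃ a ∈ uS T (C.Pos \ C.inv' (T.wO m)), ∃ c ∈ uO T m, ∃ h ∈ tor T, g = a * c * h := by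
    intro g hg
    obtain ⟨v, hv, h, hh, rfl⟩ := exists_borel_dec T hg
    obtain ⟨a, ha, c, hc, rfl⟩ := exists_split T m v hv
    exact ⟨a, ha, c, hc, h, hh, rfl⟩
  rcases (T.bnPair hq).mul_mem_union _ ⟨m, rfl⟩ n hnN u hu' with h | h
  · left
    obtain ⟨x, hx, y, hy, e⟩ := mem_doubleCoset.1 h
    obtain ⟨a, ha, c, hc, k, hk, e'⟩ := hdec _ (mul_mem (mul_mem hx hnn) hy)
    refine ⟨c, hc, k, hk, hkill a ha _ (mul_mem (Subgroup.mem_sup_left (Subgroup.mem_sup_left hc))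
      (Subgroup.mem_sup_right hk)) ?_⟩
    rw [← mul_assoc, ← e']
    exact e
  · right
    obtain ⟨x, hx, y, hy, e⟩ := mem_doubleCoset.1 h
    obtain ⟨a1, ha1, c1, hc1, h1, hh1, rfl⟩ := hdec x hx
    obtain ⟨a2, ha2, c2, hc2, h2, hh2, rfl⟩ := hdec y hy
    -- `h₁ n = n h₁'` and the outer factor moves to the left
    set h1' := n⁻¹ * h1 * n
    have hh1' : h1' ∈ tor T := (mem_tor T).2 (by
      have := C.conj_diagonal (inv_mem (T.nO_mono m)) ((mem_tor T).1 hh1)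
      simpa [h1', hn, Tw.nS] using this)
    set c := h1' * c2 * h1'⁻¹
    have hc : c ∈ uO T m := tor_conj_uS T _ h1' hh1' c2 hc2
    set a3 := h1' * a2 * h1'⁻¹
    have ha3 : a3 ∈ uS T (C.Pos \ C.inv' (T.wO m)) := tor_conj_uS T _ h1' hh1' a2 ha2
    set a4 := n * a3 * n⁻¹
    have ha4 : a4 ∈ uS T (C.Pos \ C.inv' (T.wO m)) := conj_uS T (T.nO_acts m) (fun r hr => wO_off T m hr) a3 ha3
    have hnL : c1 * n ∈ rankOne T m := mul_mem (Subgroup.mem_sup_left hc1) hL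
    -- bring the outer factor to the front
    have e2 : n * u * n = a1 * (c1 * a4 * c1⁻¹) * (c1 * n * c * (h1' * h2)) := by
      calc n * u * n = a1 * c1 * h1 * n * (a2 * c2 * h2) := e
        _ = _ := by simp only [a4, a3, c, h1']; group
    have hconj : c1 * a4 * c1⁻¹ ∈ uS T (C.Pos \ C.inv' (T.wO m)) := by
      have hd := exists_split T m (c1 * a4 * c1⁻¹) (mul_mem (mul_mem (uO_le T m hc1)
        ((mem_uS T).2 (C.US_mono K (fun _ hr => hr.1) ((mem_uS T).1 ha4)))) (inv_mem (uO_le T m hc1)))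
      obtain ⟨a5, ha5, c5, hc5, e5⟩ := hd
      have hraise := Subgroup.mem_subgroupOf.1 (rankOne_le_level T m (Subgroup.mem_sup_left hc5))
      have h5 : c5 = a5⁻¹ * (c1 * a4 * c1⁻¹) := by rw [e5]; group
      have hup : (c5 : GL D.Idx K) ∈ upperU K (fun a => lev (outμ T m) (C.wt a)) 0 le_rfl := by
        have hA := fun {x : ↥T.W} (hx : x ∈ uS T (C.Pos \ C.inv' (T.wO m))) =>
          US_le_raise C (outμ T m) K (fun r hr => lev_off T m hr) ((mem_uS T).1 hx)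
        rw [h5, Subgroup.coe_mul, Subgroup.coe_inv, Subgroup.coe_mul, Subgroup.coe_mul, Subgroup.coe_inv]
        refine mul_mem (inv_mem (hA ha5)) ?_
        exact upperU_conj (Subgroup.mem_subgroupOf.1 (rankOne_le_level T m (Subgroup.mem_sup_left hc1))) (hA ha4)
      have : (c5 : GL D.Idx K) ∈ levelGroup C (outμ T m) K ⊓
          upperU K (fun a => lev (outμ T m) (C.wt a)) 0 le_rfl := Subgroup.mem_inf.2 ⟨hraise, hup⟩
      rw [levelGroup_inf_raise, Subgroup.mem_bot] at this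
      rw [e5, show c5 = 1 from Subtype.ext this, mul_one]
      exact ha5
    refine ⟨c1, hc1, c, hc, h1' * h2, mul_mem hh1' hh2, hkill _ (mul_mem ha1 hconj) _ ?_ e2⟩
    exact mul_mem (mul_mem (Subgroup.mem_sup_left hnL) (Subgroup.mem_sup_left (Subgroup.mem_sup_left hc)))
      (Subgroup.mem_sup_right (mul_mem hh1' hh2))

theorem tri_dichotomy {x : ↥T.W} (hx : x ∈ T.N1) (m : Fin T.nn) :
    (∀ u ∈ uO T m, x⁻¹ * u * x ∈ uS T C.Pos) ∨
      (∀ u ∈ uO T m, ((T.nS m)⁻¹ * x)⁻¹ * u * ((T.nS m)⁻¹ * x) ∈ uS T C.Pos) := by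
  obtain ⟨τ, -, hτ⟩ := C.exists_acts (T.mem_N1.1 hx)
  have hτT : τ⁻¹ ∈ T.WT := inv_mem (T.mem_WT_of_acts (T.mem_N1.1 hx) (T.W_fix _ x.2) hτ)
  have hconj : ∀ {y : ↥T.W} {ω : Equiv.Perm (Rt D)}, C.Acts (y : GL D.Idx K) ω →
      (∀ r ∈ C.inv' (T.wO m), ω⁻¹ r ∈ C.Pos) → ∀ u ∈ uO T m, y⁻¹ * u * y ∈ uS T C.Pos := fun {y ω} hy h u hu => by
    have := conj_uS T (n := y⁻¹) (C.acts_inv K hy) h u hu
    rwa [inv_inv] at this
  by_cases hneg : ∃ j, T.idx j = m ∧ τ⁻¹ (C.p j) ∈ C.Neg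
  · right
    obtain ⟨j, hj, hjn⟩ := hneg
    have hA : ∀ r ∈ C.inv' (T.wO m), τ⁻¹ r ∈ C.Neg := fun r hr =>
      T.neg_of_simple (T.mem_WT.1 hτT).1 hr.1 fun k hk =>
        T.descent_orbit hτT hjn ((T.inv'_supp m hr hk).trans hj.symm)
    refine hconj (y := (T.nS m)⁻¹ * x) (C.acts_mul K (C.acts_inv K (T.nO_acts m)) hτ) fun r hr => ?_
    rw [mul_inv_rev, inv_inv, Equiv.Perm.mul_apply]
    have hs : (T.wO m r).rev ∈ C.inv' (T.wO m) := by
      refine ⟨C.rev_pos hr.2, ?_⟩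
      rw [T.WT_rev (T.wO_mem m), T.wO_wO]
      exact C.rev_neg hr.1
    have h2 := hA _ hs
    rw [T.WT_rev hτT] at h2
    have h3 := C.rev_pos h2
    rwa [C.rev_rev] at h3
  · left
    push Not at hneg
    refine hconj hτ fun r hr => ?_
    obtain ⟨L, hL⟩ := C.mem_WG_iff.1 (T.mem_WT.1 hτT).1
    by_contra hn
    rw [← hL] at hn
    refine C.v_ne_zero (C.pprod L r) (funext fun k => le_antisymm (C.v_nonpos ((C.neg_iff_not_pos _).2 hn) k) ?_)
    rw [C.pprod_v]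
    refine Finset.sum_nonneg fun i _ => ?_
    by_cases hi : C.v r i = 0
    · simp [hi]
    · refine mul_nonneg (C.v_nonneg hr.1 i) (C.v_nonneg ?_ k)
      by_contra hp
      rw [hL] at hp
      exact hneg i (T.inv'_supp m hr hi) ((C.neg_iff_not_pos _).2 hp)

/-- What is needed beyond the general theory. -/
structure RankTwo (T : Tw C K) where
  e : Fin 2 → Fin T.nn
  hL : ∀ i, T.nS (e i) ∈ rankOne T (e i)
  k : ℕ
  k_pos : 0 < k
  perm : ∀ r ∈ C.inv' (T.wO (e 1)),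
    ((T.wO (e 0) * T.wO (e 1)) ^ (k - 1) * T.wO (e 0)) r ∈ C.inv' (T.wO (e 1))
  comm : Commute ((T.wO (e 0) * T.wO (e 1)) ^ (k - 1) * T.wO (e 0)) (T.wO (e 1))
  inj1 : ∀ j, 0 < j → j < 2 * k → (T.wO (e 0) * T.wO (e 1)) ^ j ≠ 1
  inj2 : ∀ j, j < 2 * k → (T.wO (e 0) * T.wO (e 1)) ^ j * T.wO (e 0) ≠ 1
  indep : ∀ a ∈ tor T ⊓ rankOne T (e 0), ∀ b ∈ tor T ⊓ rankOne T (e 1), a * b = 1 → a = 1
  top : ⨆ i, rankOne T (e i) = ⊤

/-- The data of a twisted group of rank two. -/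
def frame {T : Tw C K} (hq : 1 < T.q) (R : RankTwo T) : Frame ↥T.W where
  U := uS T C.Pos
  N := T.N1
  H := tor T
  n i := T.nS (R.e i)
  Ui i := uO T (R.e i)
  Uc i := uS T (C.Pos \ C.inv' (T.wO (R.e i)))
  L i := rankOne T (R.e i)
  L_eq _ := rfl
  n_mem_L := R.hL
  n_mem i := T.mem_N1.2 (T.nO_mono _)
  H_le _ h := T.mem_N1.2 (Subgroup.mem_sup_left ((mem_tor T).1 h))
  n_sq i := (mem_tor T).2 (C.mem_diagonal_of_acts_one (mul_mem (T.nO_mono _) (T.nO_mono _)) (by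
    have := C.acts_mul K (T.nO_acts (R.e i)) (T.nO_acts (R.e i))
    rwa [T.J_inv] at this))
  n_conj i h hh := (mem_tor T).2 (C.conj_diagonal (T.nO_mono _) ((mem_tor T).1 hh))
  H_comm := tor_comm T
  H_conj := tor_conj_uS T _
  H_conj_Ui i := tor_conj_uS T _
  Ui_le i := uO_le T _
  Uc_le _ _ h := (mem_uS T).2 (C.US_mono K (fun _ hr => hr.1) ((mem_uS T).1 h))
  split i := exists_split T _
  n_Uc i := conj_uS T (T.nO_acts _) fun _ hr => wO_off T _ hr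
  borel_N := fun u hu h hh hN => by
    have h1 : (u : GL D.Idx K) ∈ D.monomialSubgroup K := by
      have := mul_mem (T.mem_N1.1 hN) (inv_mem (Subgroup.mem_sup_left (T := _) ((mem_tor T).1 hh) :
        (h : GL D.Idx K) ∈ D.monomialSubgroup K))
      simpa using this
    have h2 : (u : GL D.Idx K) ∈ D.borelSubgroup K ⊓ D.monomialSubgroup K :=
      Subgroup.mem_inf.2 ⟨C.posUS_le_borel ((mem_uS T).1 hu), h1⟩
    rw [C.borel_inf_monomial] at h2
    have h3 : (u : GL D.Idx K) ∈ C.US K C.Pos ⊓ D.diagonalSubgroup K :=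
      Subgroup.mem_inf.2 ⟨(mem_uS T).1 hu, h2⟩
    rw [C.US_inf_diagonal, Subgroup.mem_bot] at h3
    exact Subtype.ext h3
  tri x hx i := tri_dichotomy T hx _
  one i := one_dichotomy T hq _ (R.hL i)
  top := R.top
  k := R.k
  k_pos := R.k_pos
  braid := fun u hu => by
    set x := (T.nS (R.e 0) * T.nS (R.e 1)) ^ (R.k - 1) * T.nS (R.e 0)
    have hx : C.Acts (x : GL D.Idx K) ((T.wO (R.e 0) * T.wO (R.e 1)) ^ (R.k - 1) * T.wO (R.e 0)) :=
      acts_word T _ _ _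
    refine ⟨Subgroup.mem_sup_left (conj_uS T hx R.perm u hu), ?_⟩
    set n := T.nS (R.e 1)
    have hmove : ∀ r ∈ C.inv' (T.wO (R.e 1)),
        ((T.wO (R.e 1))⁻¹ * ((T.wO (R.e 0) * T.wO (R.e 1)) ^ (R.k - 1) * T.wO (R.e 0)) * T.wO (R.e 1)) r ∈
          C.inv' (T.wO (R.e 1)) := fun r hr => by
      rw [mul_assoc, R.comm.eq, inv_mul_cancel_left]
      exact R.perm r hr
    have := conj_uS T (n := n⁻¹ * x * n)
      (C.acts_mul K (C.acts_mul K (C.acts_inv K (T.nO_acts (R.e 1))) hx) (T.nO_acts (R.e 1))) hmove u hu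
    exact Subgroup.mem_sup_right ⟨_, this, by show n * _ * n⁻¹ = _; group⟩
  braid_n := (mem_tor T).2 (by
    set x := (T.nS (R.e 0) * T.nS (R.e 1)) ^ (R.k - 1) * T.nS (R.e 0)
    have hx : C.Acts (x : GL D.Idx K) ((T.wO (R.e 0) * T.wO (R.e 1)) ^ (R.k - 1) * T.wO (R.e 0)) :=
      acts_word T _ _ _
    have hy := T.nO_acts (R.e 1)
    have hxm := word_mono T (R.e 0) (R.e 1) (R.k - 1)
    refine C.mem_diagonal_of_acts_one (mul_mem (inv_mem (T.nO_mono _))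
      (mul_mem (mul_mem hxm (T.nO_mono _)) (inv_mem hxm))) ?_
    have h := C.acts_mul K (C.acts_inv K hy) (C.acts_mul K (C.acts_mul K hx hy) (C.acts_inv K hx))
    rw [show C.pprod (T.J (R.e 1)) = T.wO (R.e 1) from rfl, R.comm.eq, mul_inv_cancel_right, inv_mul_cancel] at h
    exact h)
  inj1 j h0 hj h := R.inj1 j h0 hj (C.acts_unique K (acts_pow T _ _ j) (C.acts_diagonal ((mem_tor T).1 h)))
  inj2 j hj h := R.inj2 j hj (C.acts_unique K (acts_word T _ _ j) (C.acts_diagonal ((mem_tor T).1 h)))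
  indep := R.indep

end Finite

end Cfsg.Agent.Lib.TwMult
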