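import Cfsg.Agent.Lib.LieTwisted.Twist.E6
import Cfsg.Agent.Lib.TwMult.TwFrame
import Cfsg.Agent.Lib.TwMult.LiftComm
import Cfsg.Agent.Lib.RootCent.Basic

/-!
Root elements of ²E₆(q) for all orbits of roots, and the pairs of orbits whose root elements have
commuting lifts in every central extension.
-/

set_option autoImplicit false
set_option maxRecDepth 100000
set_option linter.unusedSectionVars false

namespace Cfsg.Agent.Lib.TwMult.E6

open Cfsg.Lie
open Cfsg.Agent.Lib.ChevStructure Cfsg.Agent.Lib.LieTwisted Cfsg.Agent.Lib.LieTwisted.Twist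
open scoped MatrixGroups commutatorElement

open Cfsg.Agent.Lib.LieTwisted.Twist.E6 (C)
local notation "π" => Frob.rootPerm Twist.E6.g

universe u

/-- The sign of the graph automorphism at a root. -/
abbrev sg (r : Rt chevE6) : ℤ := GraphData.symE6.ε r

theorem sg_fixed : ∀ r : Rt chevE6, π r = r → sg r = 1 := by decide +kernel

theorem sg_pair : ∀ r : Rt chevE6, sg r * sg (π r) = 1 ∧ π (π r) = r := by decide +kernel

/-- A boolean test for commuting root groups. -/
def cm (r s : Rt chevE6) : Bool :=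
  decide (r = s) || (decide (s ≠ r.rev) && (chevE6.commTerms r.val s.val).isEmpty)

/-- The commutator formula of two roots consists of one term with coefficient `±1`. -/
def one1 (r s q : Rt chevE6) (M : ℤ) : Bool :=
  decide (s ≠ r) && decide (s ≠ r.rev) &&
    decide (chevE6.commTerms r.val s.val = [(q.val, M, 1, 1)]) && decide (M * M = 1)

/-- The root groups of two orbits commute. -/
def cmo (a b : Rt chevE6) : Bool := cm a b && cm a (π b) && cm (π a) b && cm (π a) (π b)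

variable {K : Type u} [Field K]

theorem comm' : CommOK C := Cert.E6.core.commOK_mild mildE6

theorem cm_comm {r s : Rt chevE6} (h : cm r s = true) (t u : K) : Commute (C.X K r t) (C.X K s u) := by
  rw [cm, Bool.or_eq_true, decide_eq_true_iff, Bool.and_eq_true, decide_eq_true_iff, List.isEmpty_iff] at h
  rcases h with rfl | ⟨h1, h2⟩
  · show _ = _
    rw [C.X_add, C.X_add, add_comm]
  · by_cases hrs : s = r
    · subst hrs
      show _ = _
      rw [C.X_add, C.X_add, add_comm]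
    have e := comm'.comm_X r s hrs h1 t u
    rw [h2, List.map_nil, List.prod_nil, mul_one] at e
    exact e.symm

theorem one1_comm {r s q : Rt chevE6} {M : ℤ} (h : one1 r s q M = true) (t u : K) :
    C.X K s u * C.X K r t = C.X K r t * C.X K s u * C.X K q ((M : K) * (-t) * u) := by
  simp only [one1, Bool.and_eq_true, decide_eq_true_iff] at h
  obtain ⟨⟨⟨h1, h2⟩, h3⟩, -⟩ := h
  have e := comm'.comm_X r s h1 h2 t u
  rw [h3] at e
  simpa [C.XN_fin] using e

theorem one1_sq {r s q : Rt chevE6} {M : ℤ} (h : one1 r s q M = true) : (M : K) * (M : K) = 1 := by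
  simp only [one1, Bool.and_eq_true, decide_eq_true_iff] at h
  exact_mod_cast congrArg (fun z : ℤ => (z : K)) h.2

section

variable [Fintype K] {q : ℕ} {φ : K ≃+* K} (F : Frob.Facts K q 2 φ) (hq1 : 1 < q)
  (hK : Fintype.card K = q ^ 2)

local notation "TT" => Orth.tw (Twist.E6.orth F hq1 hK)

/-- The admissible parameters of a root. -/
def valid (φ : K ≃+* K) (r : Rt chevE6) (t : K) : Prop := π r = r → φ t = t

/-- The fixed element of an orbit with a given coefficient at a root. -/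
noncomputable def ex (φ : K ≃+* K) (r : Rt chevE6) (t : K) : GL chevE6.Idx K :=
  if π r = r then C.X K r t else C.X K r t * C.X K (π r) ((sg r : K) * φ t)

theorem ex_fixed {r : Rt chevE6} (h : π r = r) (t : K) : ex φ r t = C.X K r t := if_pos h

theorem ex_moved {r : Rt chevE6} (h : π r ≠ r) (t : K) :
    ex φ r t = C.X K r t * C.X K (π r) ((sg r : K) * φ t) := if_neg h

include F hq1 hK in
theorem Θ_X (r : Rt chevE6) (t : K) : (TT).τ (C.X K r t) = C.X K (π r) ((sg r : K) * φ t) :=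
  (TT).τ_X r t

include F in
theorem phi2 (t : K) : φ (φ t) = t := F.pow t

theorem orbit_cm : ∀ r : Rt chevE6, cm r (π r) = true := by decide +kernel

theorem ex_mem {r : Rt chevE6} {t : K} (h : valid φ r t) : ex φ r t ∈ (TT).W := by
  refine (TT).mem_W_iff.2 ?_
  by_cases hr : π r = r
  · rw [ex_fixed hr]
    refine ⟨C.X_mem_group r t, ?_⟩
    rw [Θ_X F hq1 hK, sg_fixed r hr, Int.cast_one, one_mul, h hr, hr]
  · rw [ex_moved hr]
    refine ⟨mul_mem (C.X_mem_group r t) (C.X_mem_group _ _), ?_⟩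
    rw [(TT).τ_mul _ (C.X_mem_group r t) _ (C.X_mem_group _ _), Θ_X F hq1 hK, Θ_X F hq1 hK, map_mul,
      map_intCast, phi2 F t, ← mul_assoc, ← Int.cast_mul, mul_comm (sg (π r)), (sg_pair r).1, Int.cast_one,
      one_mul, (sg_pair r).2]
    exact ((cm_comm (orbit_cm r) t ((sg r : K) * φ t)).eq).symm

theorem valid_add {r : Rt chevE6} {t u : K} (ht : valid φ r t) (hu : valid φ r u) : valid φ r (t + u) :=
  fun h => by rw [map_add, ht h, hu h]

theorem valid_neg {r : Rt chevE6} {t : K} (ht : valid φ r t) : valid φ r (-t) :=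
  fun h => by rw [map_neg, ht h]

theorem ex_add (r : Rt chevE6) (t u : K) : ex φ r t * ex φ r u = ex φ r (t + u) := by
  by_cases hr : π r = r
  · simp only [ex_fixed hr, C.X_add]
  · simp only [ex_moved hr]
    rw [mul_assoc, ← mul_assoc (C.X K (π r) _), ← (cm_comm (orbit_cm r) u ((sg r : K) * φ t)).eq,
      mul_assoc (C.X K r u), C.X_add, ← mul_assoc, C.X_add, map_add, mul_add]

theorem ex_zero (r : Rt chevE6) : ex φ r (0 : K) = 1 := by
  by_cases hr : π r = r
  · rw [ex_fixed hr, C.X_zero]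
  · rw [ex_moved hr, C.X_zero, map_zero, mul_zero, C.X_zero, one_mul]

theorem ex_inv (r : Rt chevE6) (t : K) : (ex φ r t)⁻¹ = ex φ r (-t) :=
  inv_eq_of_mul_eq_one_right (by rw [ex_add, add_neg_cancel, ex_zero])

/-- The root group of an orbit. -/
def Rg (r : Rt chevE6) : Subgroup ↥(TT).W where
  carrier := {g | ∃ t, valid φ r t ∧ (g : GL chevE6.Idx K) = ex φ r t}
  one_mem' := ⟨0, fun _ => map_zero φ, (ex_zero r).symm⟩
  mul_mem' := by
    rintro a b ⟨t, ht, ea⟩ ⟨u, hu, eb⟩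
    exact ⟨t + u, valid_add ht hu, by rw [Subgroup.coe_mul, ea, eb, ex_add]⟩
  inv_mem' := by
    rintro a ⟨t, ht, ea⟩
    exact ⟨-t, valid_neg ht, by rw [Subgroup.coe_inv, ea, ex_inv]⟩

/-- The element of an orbit with given coefficient. -/
noncomputable def el {r : Rt chevE6} {t : K} (h : valid φ r t) : ↥(TT).W := ⟨ex φ r t, ex_mem F hq1 hK h⟩

theorem el_mem {r : Rt chevE6} {t : K} (h : valid φ r t) : el F hq1 hK h ∈ Rg F hq1 hK r := ⟨t, h, rfl⟩

include F in
theorem ex_pi {r : Rt chevE6} {t : K} (h : valid φ r t) : ex φ (π r) ((sg r : K) * φ t) = ex φ r t := by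
  by_cases hr : π r = r
  · rw [hr, sg_fixed r hr, Int.cast_one, one_mul, h hr]
  · rw [ex_moved hr, ex_moved (fun e => hr ((π).injective e)), map_mul, map_intCast, phi2 F t, ← mul_assoc,
      ← Int.cast_mul, mul_comm (sg (π r)), (sg_pair r).1, Int.cast_one, one_mul, (sg_pair r).2]
    exact ((cm_comm (orbit_cm r) t ((sg r : K) * φ t)).eq).symm

theorem Rg_pi (r : Rt chevE6) : Rg F hq1 hK (π r) = Rg F hq1 hK r := by
  have key : ∀ r, Rg F hq1 hK r ≤ Rg F hq1 hK (π r) := by
    rintro r g ⟨t, ht, e⟩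
    refine ⟨(sg r : K) * φ t, fun h => ?_, e.trans (ex_pi F ht).symm⟩
    have hr : π r = r := (π).injective h
    rw [sg_fixed r hr, Int.cast_one, one_mul, ht hr, ht hr]
  refine le_antisymm ?_ (key r)
  have := key (π r)
  rwa [(sg_pair r).2] at this

theorem commute_ex {a b : Rt chevE6} (h : cmo a b = true) (t u : K) :
    Commute (ex φ a t) (ex φ b u) := by
  simp only [cmo, Bool.and_eq_true] at h
  obtain ⟨⟨⟨h1, h2⟩, h3⟩, h4⟩ := h
  by_cases ha : π a = a <;> by_cases hb : π b = b <;>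
    simp only [ha, hb, ne_eq, not_false_eq_true, ex_fixed, ex_moved]
  · exact cm_comm h1 _ _
  · exact (cm_comm h1 _ _).mul_right (cm_comm h2 _ _)
  · exact (cm_comm h1 _ _).mul_left (cm_comm h3 _ _)
  · exact ((cm_comm h1 _ _).mul_right (cm_comm h2 _ _)).mul_left
      ((cm_comm h3 _ _).mul_right (cm_comm h4 _ _))

theorem commute_Rg {a b : Rt chevE6} (h : cmo a b = true) {x y : ↥(TT).W} (hx : x ∈ Rg F hq1 hK a)
    (hy : y ∈ Rg F hq1 hK b) : Commute x y := by
  obtain ⟨t, -, ex'⟩ := hx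
  obtain ⟨u, -, ey⟩ := hy
  refine Subtype.ext ?_
  show (x : GL chevE6.Idx K) * y = y * x
  rw [ex', ey]
  exact (commute_ex h t u).eq

/-- Commutators giving a fixed root. -/
def isFF (r s m : Rt chevE6) (M : ℤ) : Bool :=
  decide (π r = r) && decide (π s = s) && decide (π m = m) && one1 r s m M

/-- Commutators giving an orbit of two roots. -/
def isSS (r s m : Rt chevE6) (M M2 : ℤ) : Bool :=
  decide (π r ≠ r) && decide (π s ≠ s) && decide (π m ≠ m) && one1 r s m M &&
    one1 (π r) (π s) (π m) M2 && cm r (π s) && cm (π r) s && cm m (π r) && cm m (π s) &&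
    decide (M2 * sg r * sg s = sg m * M)

/-- Commutators giving an orbit of two roots and a fixed root. -/
def isLS (r s o m : Rt chevE6) (M M2 M3 : ℤ) : Bool :=
  decide (π r = r) && decide (π s ≠ s) && decide (π o ≠ o) && decide (π m = m) && one1 r s o M &&
    one1 r (π s) (π o) M2 && one1 (π s) o m M3 && cm m (π o) && decide (M2 * sg s = sg o * M)

theorem comm_swap {G : Type*} [Group G] {a b z : G} (h : b * a = a * b * z) : ⁅b⁻¹, a⁻¹⁆ = z := by
  rw [commutatorElement_def, inv_inv, inv_inv]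
  have e : z = b⁻¹ * a⁻¹ * (b * a) := by rw [h]; group
  rw [e]; group

theorem FF_elem {r s m : Rt chevE6} {M : ℤ} (h : isFF r s m M = true) :
    ∀ g ∈ Rg F hq1 hK m, ∃ x ∈ Rg F hq1 hK s, ∃ y ∈ Rg F hq1 hK r, g = ⁅x, y⁆ := by
  simp only [isFF, Bool.and_eq_true, decide_eq_true_iff] at h
  obtain ⟨⟨⟨hr, hs⟩, hm⟩, h1⟩ := h
  rintro g ⟨c, hc, e⟩
  have v1 : valid φ s (1 : K) := fun _ => map_one φ
  have v2 : valid φ r (-((M : K) * c)) := fun _ => by rw [map_neg, map_mul, map_intCast, hc hm]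
  refine ⟨(el F hq1 hK v1)⁻¹, inv_mem (el_mem F hq1 hK v1), (el F hq1 hK v2)⁻¹,
    inv_mem (el_mem F hq1 hK v2), Subtype.ext ?_⟩
  rw [commutatorElement_def]
  simp only [Subgroup.coe_mul, Subgroup.coe_inv, el, e]
  rw [← commutatorElement_def]
  simp only [ex_fixed hr, ex_fixed hs, ex_fixed hm]
  rw [comm_swap (one1_comm h1 (-((M : K) * c)) 1)]
  congr 1
  linear_combination (-c) * (one1_sq (K := K) h1)

theorem SS_elem {r s m : Rt chevE6} {M M2 : ℤ} (h : isSS r s m M M2 = true) :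
    ∀ g ∈ Rg F hq1 hK m, ∃ x ∈ Rg F hq1 hK s, ∃ y ∈ Rg F hq1 hK r, g = ⁅x, y⁆ := by
  simp only [isSS, Bool.and_eq_true, decide_eq_true_iff] at h
  obtain ⟨⟨⟨⟨⟨⟨⟨⟨⟨hr, hs⟩, hm⟩, h1⟩, h2⟩, c1⟩, c2⟩, c3⟩, c4⟩, hsgn⟩ := h
  rintro g ⟨c, -, e⟩
  have v1 : valid φ s (1 : K) := fun h => absurd h hs
  have v2 : valid φ r (-((M : K) * c)) := fun h => absurd h hr
  refine ⟨(el F hq1 hK v1)⁻¹, inv_mem (el_mem F hq1 hK v1), (el F hq1 hK v2)⁻¹,
    inv_mem (el_mem F hq1 hK v2), Subtype.ext ?_⟩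
  rw [commutatorElement_def]
  simp only [Subgroup.coe_mul, Subgroup.coe_inv, el, e]
  rw [← commutatorElement_def]
  simp only [ex_moved hr, ex_moved hs, ex_moved hm, map_neg, map_mul, map_intCast, map_one, mul_one]
  set t : K := -((M : K) * c) with ht0
  set a := C.X K r t
  set a' := C.X K (π r) ((sg r : K) * -((M : K) * φ c))
  set b := C.X K s (1 : K)
  set b' := C.X K (π s) (sg s : K)
  set z := C.X K m ((M : K) * -t * 1)
  set z' := C.X K (π m) ((M2 : K) * -((sg r : K) * -((M : K) * φ c)) * (sg s : K))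
  have e1 : b * a = a * b * z := one1_comm h1 t 1
  have e2 : b' * a' = a' * b' * z' := one1_comm h2 _ _
  have hba' : Commute b' a := (cm_comm c1 t (sg s : K)).symm
  have hab : Commute b a' := (cm_comm c2 _ 1).symm
  have hza : Commute z a' := cm_comm c3 _ _
  have hzb : Commute z b' := cm_comm c4 _ _
  have key : b * b' * (a * a') = a * a' * (b * b') * (z * z') := by
    clear_value a a' b b' z z'
    calc b * b' * (a * a') = (b * a) * (b' * a') := by
          rw [mul_assoc b b', ← mul_assoc b' a, hba'.eq]; group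
      _ = a * b * z * (a' * b' * z') := by rw [e1, e2]
      _ = a * b * (z * a') * b' * z' := by group
      _ = a * (b * a') * (z * b') * z' := by rw [hza.eq]; group
      _ = _ := by rw [hab.eq, hzb.eq]; group
  rw [comm_swap key]
  have hM : (M : K) * (M : K) = 1 := one1_sq h1
  have hsg : (M2 : K) * sg r * sg s = (sg m : K) * M := by exact_mod_cast congrArg (fun z : ℤ => (z : K)) hsgn
  simp only [z, z', t]
  congr 2
  · linear_combination (-c) * hM
  · linear_combination (-((M : K) * φ c)) * hsg - ((sg m : K) * φ c) * hM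

theorem LS_elem {r s o m : Rt chevE6} {M M2 M3 : ℤ} (h : isLS r s o m M M2 M3 = true) (t u : K) :
    ⁅(ex φ s u)⁻¹, (C.X K r t)⁻¹⁆ = ex φ o ((M : K) * -t * u) * C.X K m ((M3 : K) * -((sg s : K) * φ u) *
      ((M : K) * -t * u)) ∨ φ t ≠ t := by
  simp only [isLS, Bool.and_eq_true, decide_eq_true_iff] at h
  obtain ⟨⟨⟨⟨⟨⟨⟨⟨hr, hs⟩, ho⟩, hm⟩, h1⟩, h2⟩, h3⟩, c1⟩, hsgn⟩ := h
  by_cases ht : φ t = t
  swap
  · exact Or.inr ht
  refine Or.inl ?_
  rw [ex_moved hs, ex_moved ho]
  set a := C.X K r t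
  set b := C.X K s u
  set b' := C.X K (π s) ((sg s : K) * φ u)
  set z := C.X K o ((M : K) * -t * u)
  set zm := C.X K m ((M3 : K) * -((sg s : K) * φ u) * ((M : K) * -t * u))
  set z' := C.X K (π o) ((M2 : K) * -t * ((sg s : K) * φ u))
  have e1 : b * a = a * b * z := one1_comm h1 t u
  have e2 : b' * a = a * b' * z' := one1_comm h2 _ _
  have e3 : z * b' = b' * z * zm := one1_comm h3 _ _
  have hzm : Commute zm z' := cm_comm c1 _ _
  have key : b * b' * a = a * (b * b') * (z * (z' * zm)) := by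
    clear_value a b b' z z' zm
    calc b * b' * a = (b * a) * (b' * z') := by rw [mul_assoc b b', e2]; group
      _ = a * b * (z * b') * z' := by rw [e1]; group
      _ = a * (b * b') * z * (zm * z') := by rw [e3]; group
      _ = _ := by rw [hzm.eq]; group
  rw [comm_swap key, ← mul_assoc]
  congr 2
  have hsg : (M2 : K) * sg s = (sg o : K) * M := by exact_mod_cast congrArg (fun z : ℤ => (z : K)) hsgn
  show C.X K (π o) _ = C.X K (π o) _
  rw [map_mul, map_mul, map_neg, map_intCast, ht]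
  congr 1
  linear_combination (-(t * φ u)) * hsg

theorem fixed_coeff {m : Rt chevE6} (hm : π m = m) {w : ↥(TT).W} {c : K}
    (e : (w : GL chevE6.Idx K) = C.X K m c) : valid φ m c := fun _ => by
  have h := ((TT).mem_W_iff.1 w.2).2
  rw [e, Θ_X F hq1 hK, sg_fixed m hm, Int.cast_one, one_mul, hm] at h
  exact RootCent.Basic.X_inj C h

theorem LS_o {r s o m : Rt chevE6} {M M2 M3 : ℤ} (h : isLS r s o m M M2 M3 = true) :
    ∀ g ∈ Rg F hq1 hK o, ∃ x ∈ Rg F hq1 hK s, ∃ y ∈ Rg F hq1 hK r, ∃ w ∈ Rg F hq1 hK m,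
      ⁅x, y⁆ = g * w := by
  have h' := h
  simp only [isLS, Bool.and_eq_true, decide_eq_true_iff] at h'
  obtain ⟨⟨⟨⟨⟨⟨⟨⟨hr, hs⟩, ho⟩, hm⟩, h1⟩, -⟩, -⟩, -⟩, -⟩ := h'
  rintro g ⟨c, -, e⟩
  have v1 : valid φ r (1 : K) := fun _ => map_one φ
  have v2 : valid φ s (-((M : K) * c)) := fun h => absurd h hs
  have key := (LS_elem (φ := φ) h 1 (-((M : K) * c))).resolve_right (not_not.2 (map_one φ))
  have hz : (M : K) * -1 * -((M : K) * c) = c := by linear_combination c * (one1_sq (K := K) h1)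
  rw [hz] at key
  set W0 : ↥(TT).W := g⁻¹ * ⁅(el F hq1 hK v2)⁻¹, (el F hq1 hK v1)⁻¹⁆
  have hW0 : (W0 : GL chevE6.Idx K) =
      C.X K m ((M3 : K) * -((sg s : K) * φ (-((M : K) * c))) * c) := by
    simp only [W0, commutatorElement_def, Subgroup.coe_mul, Subgroup.coe_inv, el, e, ex_fixed hr]
    rw [← commutatorElement_def, key, inv_mul_cancel_left]
  refine ⟨_, inv_mem (el_mem F hq1 hK v2), _, inv_mem (el_mem F hq1 hK v1), W0, ?_,
    (mul_inv_cancel_left _ _).symm⟩
  exact ⟨_, fixed_coeff F hq1 hK hm hW0, hW0.trans (ex_fixed hm _).symm⟩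

theorem LS_m {r s o m : Rt chevE6} {M M2 M3 : ℤ} (h : isLS r s o m M M2 M3 = true) :
    ∀ g ∈ Rg F hq1 hK m, ∃ x ∈ Rg F hq1 hK s, ∃ y ∈ Rg F hq1 hK r, ∃ w ∈ Rg F hq1 hK o,
      ⁅x, y⁆ = w * g := by
  have h' := h
  simp only [isLS, Bool.and_eq_true, decide_eq_true_iff] at h'
  obtain ⟨⟨⟨⟨⟨⟨⟨⟨hr, hs⟩, ho⟩, hm⟩, h1⟩, -⟩, h3⟩, -⟩, -⟩ := h'
  rintro g ⟨c, hc, e⟩
  set t : K := c * ((M3 : K) * sg s * M)
  have ht : φ t = t := by simp only [t, map_mul, map_intCast, hc hm]
  have hss : ((sg s : K)) * sg s = 1 := by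
    have h2 : ∀ r : Rt chevE6, sg r * sg r = 1 := by decide +kernel
    exact_mod_cast congrArg (fun z : ℤ => (z : K)) (h2 s)
  have v1 : valid φ r t := fun _ => ht
  have v2 : valid φ s (1 : K) := fun h => absurd h hs
  have v3 : valid φ o ((M : K) * -t * 1) := fun h => absurd h ho
  have key := (LS_elem (φ := φ) h t 1).resolve_right (not_not.2 ht)
  refine ⟨_, inv_mem (el_mem F hq1 hK v2), _, inv_mem (el_mem F hq1 hK v1), el F hq1 hK v3,
    el_mem F hq1 hK v3, Subtype.ext ?_⟩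
  simp only [commutatorElement_def, Subgroup.coe_mul, Subgroup.coe_inv, el, e, ex_fixed hr, ex_fixed hm]
  rw [← commutatorElement_def, key]
  congr 2
  simp only [t, map_one]
  linear_combination (c * (sg s : K) * sg s * ((M : K) * M)) * (one1_sq (K := K) h3) +
    (c * (sg s : K) * sg s) * (one1_sq (K := K) h1) + c * hss

/-- All lifts of the root elements of two orbits commute. -/
def LCR {E : Type u} [Group E] (σ : E →* ↥(TT).W) (a b : Rt chevE6) : Prop :=
  ∀ x ∈ Rg F hq1 hK a, ∀ y ∈ Rg F hq1 hK b, LC σ x y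

variable {E : Type u} [Group E] {σ : E →* ↥(Twist.E6.orth F hq1 hK).tw.W} (hk : σ.ker ≤ Subgroup.center E)
  (hσ : Function.Surjective σ)

include hσ in
theorem lc_cancel_right {y a b : ↥(TT).W} (h1 : LC σ y (a * b)) (h2 : LC σ y b) : LC σ y a := by
  intro Y A hY hA
  obtain ⟨B, rfl⟩ := hσ b
  have e := (h1 Y (A * B) hY (by rw [map_mul, hA])).mul_right (h2 Y B hY rfl).inv_right
  rwa [mul_inv_cancel_right] at e

include hσ in
theorem lc_cancel_left {y a b : ↥(TT).W} (h1 : LC σ y (a * b)) (h2 : LC σ y a) : LC σ y b := by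
  intro Y B hY hB
  obtain ⟨A, rfl⟩ := hσ a
  have e := (h2 Y A hY rfl).inv_right.mul_right (h1 Y (A * B) hY (by rw [map_mul, hB]))
  rwa [inv_mul_cancel_left] at e

include hk hσ in
theorem lcr_of_comm {a m r s : Rt chevE6}
    (h : ∀ g ∈ Rg F hq1 hK m, ∃ x ∈ Rg F hq1 hK s, ∃ y ∈ Rg F hq1 hK r, g = ⁅x, y⁆)
    (hr : cmo a r = true) (hs : cmo a s = true) : LCR F hq1 hK σ a m := by
  intro y hy g hg
  obtain ⟨x, hx, z, hz, e⟩ := h g hg
  exact (LC.of_commutator hk hσ e (commute_Rg F hq1 hK hs hy hx).symm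
    (commute_Rg F hq1 hK hr hy hz).symm).symm

include hk hσ in
theorem lcr_o {a r s o m : Rt chevE6} {M M2 M3 : ℤ} (h : isLS r s o m M M2 M3 = true)
    (hr : cmo a r = true) (hs : cmo a s = true) (hm : LCR F hq1 hK σ a m) : LCR F hq1 hK σ a o := by
  intro y hy g hg
  obtain ⟨x, hx, z, hz, w, hw, e⟩ := LS_o F hq1 hK h g hg
  have h1 : LC σ y (g * w) := e ▸ (LC.of_commutator hk hσ rfl (commute_Rg F hq1 hK hs hy hx).symm
    (commute_Rg F hq1 hK hr hy hz).symm).symm
  exact lc_cancel_right F hq1 hK hσ h1 (hm y hy w hw)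

include hk hσ in
theorem lcr_m {a r s o m : Rt chevE6} {M M2 M3 : ℤ} (h : isLS r s o m M M2 M3 = true)
    (hr : cmo a r = true) (hs : cmo a s = true) (ho : LCR F hq1 hK σ a o) : LCR F hq1 hK σ a m := by
  intro y hy g hg
  obtain ⟨x, hx, z, hz, w, hw, e⟩ := LS_m F hq1 hK h g hg
  have h1 : LC σ y (w * g) := e ▸ (LC.of_commutator hk hσ rfl (commute_Rg F hq1 hK hs hy hx).symm
    (commute_Rg F hq1 hK hr hy hz).symm).symm
  exact lc_cancel_left F hq1 hK hσ h1 (ho y hy w hw)

theorem LCR.symm {a b : Rt chevE6} (h : LCR F hq1 hK σ a b) : LCR F hq1 hK σ b a :=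
  fun x hx y hy => (h y hy x hx).symm

theorem LCR.pi_left {a b : Rt chevE6} (h : LCR F hq1 hK σ (π a) b) : LCR F hq1 hK σ a b :=
  fun x hx => h x ((Rg_pi F hq1 hK a).symm ▸ hx)

theorem LCR.pi_right {a b : Rt chevE6} (h : LCR F hq1 hK σ a (π b)) : LCR F hq1 hK σ a b :=
  fun x hx y hy => h x hx y ((Rg_pi F hq1 hK b).symm ▸ hy)

end

end Cfsg.Agent.Lib.TwMult.E6
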