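import Cfsg.Agent.Lib.TwMult.E6Data

/-!
In every central extension of ²E₆(q) the lifts of two commuting root elements commute.
-/

set_option autoImplicit false
set_option maxRecDepth 100000
set_option linter.unusedSectionVars false

namespace Cfsg.Agent.Lib.TwMult.E6

open Cfsg.Lie
open Cfsg.Agent.Lib.ChevStructure Cfsg.Agent.Lib.LieTwisted Cfsg.Agent.Lib.LieTwisted.Twist

local notation "π" => Frob.rootPerm Twist.E6.g

universe u

theorem cmo_symm : ∀ i : Fin 24, ∀ j : Fin 24, cmo (rp i.val) (rp j.val) = cmo (rp j.val) (rp i.val) := by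
  decide +kernel

variable {K : Type u} [Field K] [Fintype K] {q : ℕ} {φ : K ≃+* K} (F : Frob.Facts K q 2 φ) (hq1 : 1 < q)
  (hK : Fintype.card K = q ^ 2)
variable {E : Type u} [Group E] {σ : E →* ↥(Twist.E6.orth F hq1 hK).tw.W} (hk : σ.ker ≤ Subgroup.center E)
  (hσ : Function.Surjective σ)

include hk hσ

theorem lcr_dOK {x y : Rt chevE6} {d : DCert} (h : dOK x y d = true) : LCR F hq1 hK σ x y := by
  simp only [dOK, Bool.and_eq_true, Bool.or_eq_true] at h
  obtain ⟨⟨hr, hs⟩, hf | hf⟩ := h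
  · exact lcr_of_comm F hq1 hK hk hσ (FF_elem F hq1 hK hf) hr hs
  · exact lcr_of_comm F hq1 hK hk hσ (SS_elem F hq1 hK hf) hr hs

theorem lcr_inOK {x z : Rt chevE6} {fl : Bool} {d : DCert} (h : inOK x z fl d = true) :
    LCR F hq1 hK σ x z := by
  cases fl
  · exact lcr_dOK F hq1 hK hk hσ (by simpa [inOK] using h)
  · exact LCR.symm F hq1 hK (lcr_dOK F hq1 hK hk hσ (by simpa [inOK] using h))

theorem lcr_lOK {x y : Rt chevE6} {l : LCert} (h : lOK x y l = true) : LCR F hq1 hK σ x y := by
  simp only [lOK, Bool.and_eq_true, Bool.or_eq_true, decide_eq_true_iff] at h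
  obtain ⟨⟨⟨hr, hs⟩, hls⟩, ⟨rfl, hi⟩ | ⟨rfl, hi⟩⟩ := h
  · exact lcr_o F hq1 hK hk hσ hls hr hs (lcr_inOK F hq1 hK hk hσ hi)
  · exact lcr_m F hq1 hK hk hσ hls hr hs (lcr_inOK F hq1 hK hk hσ hi)

theorem lcr_le {i j : Fin 24} (hij : i.val ≤ j.val) (hc : cmo (rp i.val) (rp j.val) = true) :
    LCR F hq1 hK σ (rp i.val) (rp j.val) := by
  have h := pairs_ok i j hij
  unfold pairOK at h
  split at h
  · simp [hc] at h
  · next sw yy c hc' =>
    simp only [Bool.and_eq_true, Bool.or_eq_true, decide_eq_true_iff] at h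
    obtain ⟨hy, hcert⟩ := h
    set a := if sw then rp j.val else rp i.val with ha
    set b := if sw then rp i.val else rp j.val with hb
    have hab : LCR F hq1 hK σ a b := by
      have key : LCR F hq1 hK σ a (Rn yy) := by
        cases c with
        | inl d => exact lcr_dOK F hq1 hK hk hσ hcert
        | inr l => exact lcr_lOK F hq1 hK hk hσ hcert
      rcases hy with hy | hy
      · exact hy ▸ key
      · exact LCR.pi_right F hq1 hK (hy ▸ key)
    cases sw
    · simpa [ha, hb] using hab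
    · exact LCR.symm F hq1 hK (by simpa [ha, hb] using hab)

/-- The lifts of commuting root elements commute. -/
theorem lcr_pair (i j : Fin 24) (hc : cmo (rp i.val) (rp j.val) = true) :
    LCR F hq1 hK σ (rp i.val) (rp j.val) := by
  rcases le_total i.val j.val with h | h
  · exact lcr_le F hq1 hK hk hσ h hc
  · exact LCR.symm F hq1 hK (lcr_le F hq1 hK hk hσ h (cmo_symm i j ▸ hc))

end Cfsg.Agent.Lib.TwMult.E6
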