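import Cfsg.Agent.Lib.TwMult.Block
import Cfsg.Agent.Lib.LieTwisted.Twist.F4
import Cfsg.Agent.Lib.LieTwisted.Suzuki

/-!
The actions of the two groups of rank one of ²F₄ on suitable levels.
-/

set_option autoImplicit false
set_option maxRecDepth 100000
set_option linter.unusedSectionVars false

namespace Cfsg.Agent.Lib.TwMult.F4

open Cfsg.Lie
open Cfsg.Agent.Lib.ChevStructure Cfsg.Agent.Lib.LieTwisted.Twist Cfsg.Agent.Lib.LieTwisted.Twist.F4
open scoped MatrixGroups Matrix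

/-- The functionals of the two levels. -/
def mu : Fin 2 → Fin chevF4.rank → ℤ := ![![0, 1, 7, 0], ![1, 0, 0, 7]]

theorem v_eq (r : Rt chevF4) (j : Fin chevF4.rank) : C.v r j = Data.F4.fast.v r.val j.val := rfl

theorem lev_v (μ : Fin chevF4.rank → ℤ) (r : Rt chevF4) :
    lev μ (C.v r) = ∑ j, Data.F4.fast.v r.val j.val * μ j := rfl

theorem cover_of (μ : Fin chevF4.rank → ℤ) {n : ℕ} (idx : Fin n → chevF4.Idx) (j : Fin n → Rt chevF4)
    (hidx : ∀ i, idx i = Sum.inr (j i))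
    (h : ∀ r : Rt chevF4, (∑ k, Data.F4.fast.v r.val k.val * μ k) = 1 ↔ ∃ i, j i = r) :
    ∀ a, lev μ (C.wt a) = 1 ↔ ∃ i, idx i = a := by
  rintro (k | r)
  · refine iff_of_false ?_ ?_
    · simp [lev, Core.wt]
    · rintro ⟨i, hi⟩; rw [hidx] at hi; exact Sum.inr_ne_inl hi
  · refine (h r).trans ⟨fun ⟨i, hi⟩ => ⟨i, by rw [hidx, hi]⟩, fun ⟨i, hi⟩ => ⟨i, ?_⟩⟩
    rw [hidx] at hi
    exact Sum.inr_injective hi

/-- The level of the pair. -/
def V0 : Lvl C (mu 0) 2 where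
  idx i := Sum.inr (![R 34, R 27] i)
  l := 1
  inj := Sum.inr_injective.comp (by decide +kernel)
  cover := cover_of (mu 0) _ _ (fun _ => rfl) (by decide +kernel)

/-- The level of the class of type B₂. -/
def V1 : Lvl C (mu 1) 4 where
  idx i := Sum.inr (![R 37, R 35, R 34, R 33] i)
  l := 1
  inj := Sum.inr_injective.comp (by decide +kernel)
  cover := cover_of (mu 1) _ _ (fun _ => rfl) (by decide +kernel)

theorem lev0 (r : Rt chevF4) (h : r ∈ [R 33, R 24, R 14, R 23] := by decide +kernel) :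
    lev (mu 0) (C.v r) = 0 := by
  have key : ∀ r ∈ [R 33, R 24, R 14, R 23], (∑ k, Data.F4.fast.v r.val k.val * mu 0 k) = 0 := by decide +kernel
  exact key r h

theorem lev1 (r : Rt chevF4) (h : r ∈ [R 27, R 25, R 28, R 30, R 20, R 22, R 19, R 17] := by decide +kernel) :
    lev (mu 1) (C.v r) = 0 := by
  have key : ∀ r ∈ [R 27, R 25, R 28, R 30, R 20, R 22, R 19, R 17],
      (∑ k, Data.F4.fast.v r.val k.val * mu 1 k) = 0 := by decide +kernel
  exact key r h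

variable {K : Type*} [Field K]

/-- The block of a matrix. -/
def bl {μ : Fin chevF4.rank → ℤ} {n : ℕ} (V : Lvl C μ n) (g : GL chevF4.Idx K) : Matrix (Fin n) (Fin n) K :=
  (g : Matrix chevF4.Idx chevF4.Idx K).submatrix V.idx V.idx

theorem X_lev {μ : Fin chevF4.rank → ℤ} {r : Rt chevF4} (h : lev μ (C.v r) = 0) (t : K) :
    C.X K r t ∈ levelGroup C μ K :=
  US_le_levelGroup C μ K (S := {r}) (fun s hs => by rw [Set.mem_singleton_iff.1 hs]; exact h) (C.X_mem_US K (Set.mem_singleton r) t)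

theorem bl_mul {μ : Fin chevF4.rank → ℤ} {n : ℕ} (V : Lvl C μ n) {g : GL chevF4.Idx K}
    (hg : g ∈ levelGroup C μ K) (h : GL chevF4.Idx K) : bl V (g * h) = bl V g * bl V h := by
  rw [bl, Units.val_mul, V.block_mul K hg]; rfl

theorem bl_one {μ : Fin chevF4.rank → ℤ} {n : ℕ} (V : Lvl C μ n) : bl V (1 : GL chevF4.Idx K) = 1 := by
  rw [bl, Units.val_one, Matrix.submatrix_one _ V.inj]

/-- A matrix with a few non-zero entries. -/
def sgl {n : ℕ} (l : List (Fin n × Fin n × ℤ)) : Matrix (Fin n) (Fin n) ℤ :=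
  Matrix.of fun a b => ((l.filter fun x => x.1 = a ∧ x.2.1 = b).map fun x => x.2.2).sum

theorem bl_X {μ : Fin chevF4.rank → ℤ} {n : ℕ} (V : Lvl C μ n) {r : Rt chevF4} (l : List (Fin n × Fin n × ℤ))
    (hE : ∀ p : Fin n × Fin n, E chevF4 1 r (V.idx p.1) (V.idx p.2) = sgl l p.1 p.2 ∧
      E chevF4 2 r (V.idx p.1) (V.idx p.2) = 0 ∧ E chevF4 3 r (V.idx p.1) (V.idx p.2) = 0) (t : K) :
    bl V (C.X K r t) = 1 + t • (sgl l).map (Int.cast : ℤ → K) :=
  V.block_X K (fun a b => hE (a, b)) t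


theorem bl0_33 (t : K) : bl V0 (C.X K (R 33) t) = 1 + t • (sgl [(0, 1, -1)]).map (Int.cast : ℤ → K) :=
  bl_X V0 _ (by decide +kernel) t

theorem bl0_14 (t : K) : bl V0 (C.X K (R 14) t) = 1 + t • (sgl [(1, 0, -1)]).map (Int.cast : ℤ → K) :=
  bl_X V0 _ (by decide +kernel) t

theorem bl0_24 (t : K) : bl V0 (C.X K (R 24) t) = 1 + t • (sgl []).map (Int.cast : ℤ → K) :=
  bl_X V0 _ (by decide +kernel) t

theorem bl0_23 (t : K) : bl V0 (C.X K (R 23) t) = 1 + t • (sgl []).map (Int.cast : ℤ → K) :=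
  bl_X V0 _ (by decide +kernel) t

theorem bl1_27 (t : K) : bl V1 (C.X K (R 27) t) = 1 + t • (sgl [(0, 1, 1), (2, 3, 1)]).map (Int.cast : ℤ → K) :=
  bl_X V1 _ (by decide +kernel) t

theorem bl1_25 (t : K) : bl V1 (C.X K (R 25) t) = 1 + t • (sgl [(1, 2, 1)]).map (Int.cast : ℤ → K) :=
  bl_X V1 _ (by decide +kernel) t

theorem bl1_28 (t : K) : bl V1 (C.X K (R 28) t) = 1 + t • (sgl [(0, 2, -1), (1, 3, 1)]).map (Int.cast : ℤ → K) :=
  bl_X V1 _ (by decide +kernel) t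

theorem bl1_30 (t : K) : bl V1 (C.X K (R 30) t) = 1 + t • (sgl [(0, 3, 1)]).map (Int.cast : ℤ → K) :=
  bl_X V1 _ (by decide +kernel) t

theorem bl1_20 (t : K) : bl V1 (C.X K (R 20) t) = 1 + t • (sgl [(1, 0, 1), (3, 2, 1)]).map (Int.cast : ℤ → K) :=
  bl_X V1 _ (by decide +kernel) t

theorem bl1_22 (t : K) : bl V1 (C.X K (R 22) t) = 1 + t • (sgl [(2, 1, 1)]).map (Int.cast : ℤ → K) :=
  bl_X V1 _ (by decide +kernel) t

section Values

open Cfsg.Agent.Lib.LieTwisted.Suzuki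

variable {θ : K ≃+* K} {e : ℕ} (F : Th θ e)

include F

theorem bl0_gP (t : K) : bl V0 (gPp θ t) = !![1, θ t; 0, 1] := by
  rw [gPp, gP, bl_mul _ (X_lev (lev0 (R 33)) _), bl0_33, bl0_24]
  ext i j
  fin_cases i <;> fin_cases j <;> simp [sgl, Matrix.mul_apply, Fin.sum_univ_two, F.neg]

theorem bl0_P0 : bl V0 (C.wprod K (Jw 0)) = !![0, 1; 1, 0] := by
  rw [show C.wprod K (Jw 0) = C.P K (nd 0) * (C.P K (nd 3) * 1) from rfl, mul_one, Core.P, Core.P, p_eq, p_eq]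
  show bl V0 (C.nR K (R 33) 1 * C.nR K (R 24) 1) = _
  rw [nR_R F 33 (by decide) 14 (by decide) (by decide +kernel),
    nR_R F 24 (by decide) 23 (by decide) (by decide +kernel)]
  have h33 := fun t : K => X_lev (K := K) (lev0 (R 33)) t
  have h14 := fun t : K => X_lev (K := K) (lev0 (R 14)) t
  have h24 := fun t : K => X_lev (K := K) (lev0 (R 24)) t
  have h23 := fun t : K => X_lev (K := K) (lev0 (R 23)) t
  rw [bl_mul _ (mul_mem (mul_mem (h33 _) (h14 _)) (h33 _)), bl_mul _ (mul_mem (h33 _) (h14 _)), bl_mul _ (h33 _),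
    bl_mul _ (mul_mem (h24 _) (h23 _)), bl_mul _ (h24 _), bl0_33, bl0_14, bl0_24, bl0_23]
  ext i j
  fin_cases i <;> fin_cases j <;> simp [sgl, Matrix.mul_apply, Fin.sum_univ_two, F.neg, F.add_self]



theorem bl1_gB {m : ℕ} (hsg : ∀ x : K, sg m x = θ x ^ 2) (t u : K) :
    bl V1 (gBp θ t u) = utMat m (θ t) (θ t * t + u) := by
  have h := fun (r : Rt chevF4) hr (t : K) => X_lev (K := K) (lev1 r hr) t
  rw [gBp, gB, bl_mul _ (mul_mem (mul_mem (h _ (by decide +kernel) _) (h _ (by decide +kernel) _))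
    (h _ (by decide +kernel) _)), bl_mul _ (mul_mem (h _ (by decide +kernel) _) (h _ (by decide +kernel) _)),
    bl_mul _ (h _ (by decide +kernel) _), bl1_27, bl1_25, bl1_28, bl1_30]
  have h1 := F.sq t
  have h2 := F.two
  have ha : sg m (θ t) = t := (hsg _).trans h1
  have hb : sg m (θ t * t + u) = t * θ t ^ 2 + θ u ^ 2 := by
    rw [hsg, map_add, map_mul, CharTwo.add_sq, mul_pow, h1]
  ext i j
  fin_cases i <;> fin_cases j <;>
    simp [sgl, utMat, zfun, ha, hb, Matrix.mul_apply, Fin.sum_univ_four, F.neg] <;>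
    first | ring1 | linear_combination (-(t * θ t)) * (CharTwo.two_eq_zero (R := K)) |
      linear_combination (-(t * θ t ^ 2)) * (CharTwo.two_eq_zero (R := K))

theorem bl1_P1 : bl V1 (C.wprod K (Jw 1)) = wMat K := by
  rw [show C.wprod K (Jw 1) = C.P K (nd 2) * (C.P K (nd 1) * (C.P K (nd 2) * (C.P K (nd 1) * 1))) from rfl, mul_one,
    Core.P, Core.P, p_eq, p_eq]
  show bl V1 (C.nR K (R 25) 1 * (C.nR K (R 27) 1 * (C.nR K (R 25) 1 * C.nR K (R 27) 1))) = _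
  rw [nR_R F 25 (by decide) 22 (by decide) (by decide +kernel),
    nR_R F 27 (by decide) 20 (by decide) (by decide +kernel)]
  have h25 := fun t : K => X_lev (K := K) (lev1 (R 25)) t
  have h22 := fun t : K => X_lev (K := K) (lev1 (R 22)) t
  have h27 := fun t : K => X_lev (K := K) (lev1 (R 27)) t
  have h20 := fun t : K => X_lev (K := K) (lev1 (R 20)) t
  have hb := mul_mem (mul_mem (h25 (1 : Kˣ)) (h22 ((1 : Kˣ)⁻¹ : Kˣ))) (h25 (1 : Kˣ))
  have ha := mul_mem (mul_mem (h27 (1 : Kˣ)) (h20 ((1 : Kˣ)⁻¹ : Kˣ))) (h27 (1 : Kˣ))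
  have eb : bl V1 (C.X K (R 25) ((1 : Kˣ) : K) * C.X K (R 22) (((1 : Kˣ)⁻¹ : Kˣ) : K) * C.X K (R 25) ((1 : Kˣ) : K)) =
      !![(1 : K), 0, 0, 0; 0, 0, 1, 0; 0, 1, 0, 0; 0, 0, 0, 1] := by
    rw [bl_mul _ (mul_mem (h25 _) (h22 _)), bl_mul _ (h25 _), bl1_25, bl1_22]
    ext i j
    fin_cases i <;> fin_cases j <;> simp [sgl, Matrix.mul_apply, Fin.sum_univ_four, F.neg, F.add_self]
  have ea : bl V1 (C.X K (R 27) ((1 : Kˣ) : K) * C.X K (R 20) (((1 : Kˣ)⁻¹ : Kˣ) : K) * C.X K (R 27) ((1 : Kˣ) : K)) =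
      !![(0 : K), 1, 0, 0; 1, 0, 0, 0; 0, 0, 0, 1; 0, 0, 1, 0] := by
    rw [bl_mul _ (mul_mem (h27 _) (h20 _)), bl_mul _ (h27 _), bl1_27, bl1_20]
    ext i j
    fin_cases i <;> fin_cases j <;> simp [sgl, Matrix.mul_apply, Fin.sum_univ_four, F.neg, F.add_self]
  rw [bl_mul _ hb, bl_mul _ ha, bl_mul _ hb, eb, ea]
  ext i j
  fin_cases i <;> fin_cases j <;> simp [wMat, Matrix.mul_apply, Fin.sum_univ_four]

end Values

end Cfsg.Agent.Lib.TwMult.F4
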