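import Cfsg.Agent.Lib.LieTwisted.Twist.F4

/-!
The representatives of the two twisted reflections of ²F₄ as words in the root elements.
-/

set_option autoImplicit false
set_option maxRecDepth 100000
set_option linter.unusedSectionVars false

namespace Cfsg.Agent.Lib.TwMult.F4

open Cfsg.Lie
open Cfsg.Agent.Lib.ChevStructure Cfsg.Agent.Lib.LieTwisted.Twist Cfsg.Agent.Lib.LieTwisted.Twist.F4
open scoped MatrixGroups

variable {K : Type*} [Field K] {θ : K ≃+* K} {e : ℕ} (F : Th θ e)

include F

theorem nPair_eq (u : Kˣ) : C.nR K (R 33) (Units.map (θ : K →* K) u) * C.nR K (R 24) u =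
    gP θ (R 33) (R 24) u * gP θ (R 14) (R 23) (↑u⁻¹ : K) * gP θ (R 33) (R 24) u := by
  have c1 : Com2 (R 33) (R 23) := by unfold Com2; decide +kernel
  have c2 : Com2 (R 14) (R 24) := by unfold Com2; decide +kernel
  have c3 := pair_pos.com
  have h : C.nR K (R 33) (Units.map (θ : K →* K) u) * C.nR K (R 24) u =
      gP θ (R 33) (R 24) u * gP θ (R 14) (R 23) (↑u⁻¹ : K) * gP θ (R 33) (R 24) u := by
    rw [nR_R F 33 (by decide) 14 (by decide) (by decide), nR_R F 24 (by decide) 23 (by decide) (by decide), gP, gP,
      Units.coe_map, Units.val_inv_eq_inv_val, Units.val_inv_eq_inv_val]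
    simp only [Units.coe_map, MonoidHom.coe_coe, map_inv₀]
    set A := C.X K (R 33) (θ (u : K))
    set B := C.X K (R 14) (θ (u : K))⁻¹
    set D := C.X K (R 24) (u : K)
    set E' := C.X K (R 23) (u : K)⁻¹
    have hAD : D * A = A * D := (commute_com F c3 _ _).symm.eq
    have hAE : E' * A = A * E' := (commute_com F c1 _ _).symm.eq
    have hBD : D * B = B * D := (commute_com F c2 _ _).symm.eq
    calc A * B * A * (D * E' * D) = A * B * (A * D) * E' * D := by simp only [mul_assoc]
      _ = A * B * D * (A * E') * D := by rw [← hAD]; simp only [mul_assoc]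
      _ = A * (B * D) * E' * A * D := by rw [← hAE]; simp only [mul_assoc]
      _ = A * D * (B * E') * (A * D) := by rw [← hBD]; simp only [mul_assoc]
  exact h

theorem wprod1_eq : C.wprod K [(⟨2, by decide⟩ : Fin chevF4.rank), ⟨1, by decide⟩, ⟨2, by decide⟩, ⟨1, by decide⟩] =
    gB θ (R 27) (R 25) (R 28) (R 30) 1 0 * gB θ (R 20) (R 22) (R 19) (R 17) 0 1 * gB θ (R 27) (R 25) (R 28) (R 30) 1 1 := by
  set i : Fin chevF4.rank := ⟨1, by decide⟩
  set j : Fin chevF4.rank := ⟨2, by decide⟩
  set na := C.P K i with hna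
  set nb := C.P K j with hnb
  let O : Rt chevF4 → GL chevF4.Idx K := fun r => C.X K r 1
  set A := O (R 27)
  set B := O (R 25)
  set Cc := O (R 28)
  set E' := O (R 30)
  set a' := O (R 20)
  set c' := O (R 19)
  set e' := O (R 17)
  have sq : ∀ r, O r * O r = 1 := fun r => X_sq F r 1
  have nR1 : ∀ k h k' h', (R k h).rev = R k' h' → C.nR K (R k h) 1 = O (R k h) * O (R k' h') * O (R k h) :=
    fun k h k' h' hk => by rw [nR_R F k h k' h' hk]; simp [O]
  have ena : na = A * a' * A := by
    rw [hna, Core.P, p_eq]; exact nR1 27 (by decide) 20 (by decide) (by decide)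
  have enb : nb = B * O (R 22) * B := by
    rw [hnb, Core.P, p_eq]; exact nR1 25 (by decide) 22 (by decide) (by decide)
  have sa : na * na = 1 := by
    rw [ena]
    calc A * a' * A * (A * a' * A) = A * a' * (A * A) * a' * A := by simp only [mul_assoc]
      _ = A * (a' * a') * A := by rw [sq]; simp only [mul_one, mul_assoc]
      _ = 1 := by rw [sq, mul_one, sq]
  have sb : nb * nb = 1 := by
    rw [enb]
    calc B * O (R 22) * B * (B * O (R 22) * B) = B * O (R 22) * (B * B) * O (R 22) * B := by simp only [mul_assoc]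
      _ = B * (O (R 22) * O (R 22)) * B := by rw [sq]; simp only [mul_one, mul_assoc]
      _ = 1 := by rw [sq, mul_one, sq]
  have cj : ∀ (k : Fin chevF4.rank) r r', Data.F4.fast.actW [k.val] r.val = r'.val →
      C.P K k * O r * C.P K k = O r' := fun k r r' h => P_conj F k r r' h
  have bA : nb * A * nb = Cc := cj j _ _ (by decide +kernel)
  have ba : nb * a' * nb = c' := cj j _ _ (by decide +kernel)
  have bC : nb * Cc * nb = A := cj j _ _ (by decide +kernel)
  have aC : na * Cc * na = Cc := cj i _ _ (by decide +kernel)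
  have bB : nb * B * nb = O (R 22) := cj j _ _ (by decide +kernel)
  have am : na * O (R 22) * na = e' := cj i _ _ (by decide +kernel)
  have be : nb * e' * nb = e' := cj j _ _ (by decide +kernel)
  have com : ∀ r s, Com2 r s → O r * O s = O s * O r := fun r s h => (commute_com F h 1 1).eq
  have AC : A * Cc = Cc * A := com _ _ b2_pos.com_a_ab
  have swAB : A * B = B * A * Cc * E' := by
    have := swap F b2_pos (1 : K) 1
    simpa [O] using this
  have eC : e' * Cc = Cc * e' * (a' * B) := by
    have h1 : (R 17) ≠ R 28 ∧ (R 17) ≠ (R 28).rev := by decide +kernel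
    have h2 : chevF4.commTerms 28 17 = [(20, 1, 1, 1), (25, 1, 2, 1)] := by decide +kernel
    have := comm.comm_X (R 28) (R 17) h1.1 h1.2 (1 : K) 1
    rw [show (R 28).val = 28 from rfl, show (R 17).val = 17 from rfl, h2] at this
    simp only [List.map_cons, List.map_nil, List.prod_cons, List.prod_nil, mul_one, Int.cast_one,
      F.neg, one_pow, Core.XN, dif_pos (show 20 < chevF4.nroots by decide),
      dif_pos (show 25 < chevF4.nroots by decide)] at this
    exact this
  have e17a : a' * e' = e' * a' := com _ _ (by unfold Com2; decide +kernel)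
  have e17B : B * e' = e' * B := com _ _ (by unfold Com2; decide +kernel)
  have eCe : e' * Cc * e' = Cc * a' * B := by
    calc e' * Cc * e' = Cc * e' * (a' * (B * e')) := by rw [eC]; simp only [mul_assoc]
      _ = Cc * e' * ((a' * e') * B) := by rw [e17B]; simp only [mul_assoc]
      _ = Cc * (e' * e') * a' * B := by rw [e17a]; simp only [mul_assoc]
      _ = Cc * a' * B := by rw [sq, mul_one]
  set w := nb * na * nb with hw
  have sw : w * w = 1 := by
    calc w * w = nb * na * (nb * nb) * na * nb := by rw [hw]; simp only [mul_assoc]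
      _ = nb * (na * na) * nb := by rw [sb]; simp only [mul_one, mul_assoc]
      _ = 1 := by rw [sa, mul_one, sb]
  have wA : w * A * w = A := by
    calc w * A * w = nb * (na * (nb * A * nb) * na) * nb := by rw [hw]; simp only [mul_assoc]
      _ = A := by rw [bA, aC, bC]
  have wB : w * B * w = e' := by
    calc w * B * w = nb * (na * (nb * B * nb) * na) * nb := by rw [hw]; simp only [mul_assoc]
      _ = e' := by rw [bB, am, be]
  have Cc' : Cc * c' = w * Cc := by
    calc Cc * c' = nb * A * (nb * nb) * a' * nb := by rw [← bA, ← ba]; simp only [mul_assoc]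
      _ = nb * (A * a') * nb := by rw [sb]; simp only [mul_one, mul_assoc]
      _ = nb * (na * A) * nb := by
          rw [ena]
          calc nb * (A * a') * nb = nb * (A * a' * (A * A)) * nb := by rw [sq, mul_one]
            _ = _ := by simp only [mul_assoc]
      _ = nb * na * (nb * nb) * A * nb := by rw [sb]; simp only [mul_one, mul_assoc]
      _ = w * (nb * A * nb) := by rw [hw]; simp only [mul_assoc]
      _ = w * Cc := by rw [bA]
  have ABw : A * B * w = w * A * e' := by
    calc A * B * w = w * (w * A * w) * (w * B * w) := by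
          calc A * B * w = w * w * A * (w * w) * B * w := by rw [sw]; simp only [one_mul, mul_one, mul_assoc]
            _ = _ := by simp only [mul_assoc]
      _ = w * A * e' := by rw [wA, wB]
  have CB : Cc * B = B * Cc := (com _ _ b2_pos.com_b_ab).symm
  have EA : E' * A = A * E' := (com _ _ b2_pos.com_a_aab).symm
  have EB : E' * B = B * E' := (com _ _ b2_pos.com_b_aab).symm
  have ABAB : A * B * A * B * E' = Cc := by
    calc A * B * A * B * E' = B * A * (Cc * (E' * A)) * B * E' := by rw [swAB]; simp only [mul_assoc]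
      _ = B * A * (Cc * A) * (E' * B) * E' := by rw [EA]; simp only [mul_assoc]
      _ = B * (A * A) * (Cc * B) * (E' * E') := by rw [← AC, EB]; simp only [mul_assoc]
      _ = (B * B) * Cc := by rw [sq, sq, CB]; simp only [mul_one, mul_assoc]
      _ = Cc := by rw [sq, one_mul]
  have key : A * B * Cc * (c' * e') * (A * B * E') = nb * na * nb * na := by
    calc A * B * Cc * (c' * e') * (A * B * E') = A * B * (Cc * c') * e' * (A * B * E') := by simp only [mul_assoc]
      _ = (A * B * w) * Cc * e' * (A * B * E') := by rw [Cc']; simp only [mul_assoc]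
      _ = w * A * (e' * Cc * e') * (A * B * E') := by rw [ABw]; simp only [mul_assoc]
      _ = w * (A * Cc) * a' * (A * A) * B * A * B * E' := by rw [eCe, sq]; simp only [mul_one, mul_assoc]
      _ = w * Cc * (A * a' * A) * (A * B * A * B * E') := by rw [AC]; simp only [mul_assoc]
      _ = w * Cc * na * Cc := by rw [ABAB, ← ena]
      _ = w * na * (na * Cc * na) * Cc := by
          calc w * Cc * na * Cc = w * (na * na) * Cc * na * Cc := by rw [sa, mul_one]
            _ = _ := by simp only [mul_assoc]
      _ = w * na := by rw [aC, mul_assoc (w * na), sq, mul_one]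
      _ = _ := by rw [hw]
  have e1 : C.wprod K [j, i, j, i] = gB θ (R 27) (R 25) (R 28) (R 30) 1 0 * gB θ (R 20) (R 22) (R 19) (R 17) 0 1 *
      gB θ (R 27) (R 25) (R 28) (R 30) 1 1 := by
    have hz : (1 : K) + 1 = 0 := F.add_self 1
    have g1 : gB θ (R 27) (R 25) (R 28) (R 30) (1 : K) 0 = A * B * Cc := by simp [gB, C.X_zero, A, B, Cc, O]
    have g2 : gB θ (R 20) (R 22) (R 19) (R 17) (0 : K) 1 = c' * e' := by simp [gB, C.X_zero, c', e', O]
    have g3 : gB θ (R 27) (R 25) (R 28) (R 30) (1 : K) 1 = A * B * E' := by simp [gB, C.X_zero, hz, A, B, E', O]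
    rw [g1, g2, g3, key]
    simp [Core.wprod, hna, hnb, mul_assoc]
  exact e1

theorem wprod0_eq : C.wprod K (Jw 0) =
    gP θ (R 33) (R 24) 1 * gP θ (R 14) (R 23) 1 * gP θ (R 33) (R 24) 1 := by
  have h := nPair_eq F (1 : Kˣ)
  rw [map_one, inv_one, Units.val_one] at h
  refine Eq.trans ?_ h
  show C.P K _ * (C.P K _ * 1) = _
  rw [mul_one, Core.P, Core.P, p_eq, p_eq]
  rfl

end Cfsg.Agent.Lib.TwMult.F4
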