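import Cfsg.Agent.Lib.TwMult.F4Blocks
import Cfsg.Agent.Lib.TwMult.F4Words

/-!
The two groups of rank one of ²F₄ inside the twisted group.
-/

set_option autoImplicit false
set_option maxRecDepth 100000
set_option linter.unusedSectionVars false

namespace Cfsg.Agent.Lib.TwMult.F4

open Cfsg.Lie
open Cfsg.Agent.Lib.ChevStructure Cfsg.Agent.Lib.LieTwisted.Twist Cfsg.Agent.Lib.LieTwisted.Twist.F4
open scoped MatrixGroups Matrix

universe u

variable {K : Type u} [Field K] [Fintype K] {θ : K ≃+* K} {e : ℕ} (F : Th θ e)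

include F

/-- An orbit of nodes. -/
def oN (i : Fin 2) : Fin (tw F).nn := i

/-- The elements of the orthogonal pair. -/
noncomputable def gPW (t : K) : ↥(tw F).W := ⟨gPp θ t, (gP_mem F t).1⟩

/-- The opposite elements of the orthogonal pair. -/
noncomputable def gPW' (t : K) : ↥(tw F).W := ⟨gP θ (R 14) (R 23) t, (gP_mem F t).2⟩

/-- The elements of the class of type B₂. -/
noncomputable def gBW (t u : K) : ↥(tw F).W := ⟨gBp θ t u, (gB_mem F t u).1⟩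

/-- The opposite elements of the class of type B₂. -/
noncomputable def gBW' (t u : K) : ↥(tw F).W := ⟨gB θ (R 20) (R 22) (R 19) (R 17) t u, (gB_mem F t u).2⟩

theorem mem_uO0 {g : ↥(tw F).W} : g ∈ uO (tw F) (oN F 0) ↔ ∃ t, g = gPW F t := by
  refine ⟨fun hg => ?_, ?_⟩
  · obtain ⟨t, ht⟩ := fix_pair F ((mem_uS (tw F)).1 hg) ((tw F).W_fix _ g.2)
    exact ⟨t, Subtype.ext ht⟩
  · rintro ⟨t, rfl⟩
    exact (mem_uS (tw F)).2 (gPp_mem_US F t)

theorem mem_uO1 {g : ↥(tw F).W} : g ∈ uO (tw F) (oN F 1) ↔ ∃ t u, g = gBW F t u := by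
  refine ⟨fun hg => ?_, ?_⟩
  · obtain ⟨t, u, ht⟩ := fix_B2 F ((mem_uS (tw F)).1 hg) ((tw F).W_fix _ g.2)
    exact ⟨t, u, Subtype.ext ht⟩
  · rintro ⟨t, u, rfl⟩
    exact (mem_uS (tw F)).2 (gBp_mem_US F t u)

theorem opp_mem (i : Fin 2) (S : List (Rt chevF4))
    (hS : ∀ r ∈ S, ∃ r' ∈ Jr i, Data.F4.fast.actW ((Jw i).map Fin.val) r.val = r'.val)
    {g : ↥(tw F).W} (hg : (g : GL chevF4.Idx K) ∈ C.US K {r | r ∈ S}) :
    g ∈ rankOne (tw F) (oN F i) := by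
  set n := (tw F).nS (oN F i)
  have h : n⁻¹ * g * n ∈ uO (tw F) (oN F i) := by
    have hn : C.Acts ((n⁻¹ : ↥(tw F).W) : GL chevF4.Idx K) (C.pprod (Jw i))⁻¹ :=
      C.acts_inv K ((tw F).nO_acts (oN F i))
    have h1 : ∀ r ∈ {r | r ∈ S}, (C.pprod (Jw i))⁻¹ r ∈ C.inv' ((tw F).wO (oN F i)) := fun r hr => by
      obtain ⟨r', hr', e⟩ := hS r hr
      have e1 : C.pprod (Jw i) r = r' := Fin.ext ((Cert.F4.certified.actW_eq (Jw i) r).trans e)
      rw [inv_eq_of_mul_eq_one_right (Jw_inv i), e1]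
      show r' ∈ C.inv' (C.pprod (Jw i))
      rw [inv'_Jw]
      exact hr'
    have := conj_uS (tw F) (n := n⁻¹) hn h1 g ((mem_uS (tw F)).2 hg)
    rwa [inv_inv] at this
  exact Subgroup.mem_sup_right ⟨_, h, by show n * (n⁻¹ * g * n) * n⁻¹ = g; group⟩

theorem gPW'_mem (t : K) : gPW' F t ∈ rankOne (tw F) (oN F 0) :=
  opp_mem F 0 [R 14, R 23] (by decide +kernel)
    (mul_mem (C.X_mem_US K (show R 14 ∈ [R 14, R 23] by decide +kernel) _)
      (C.X_mem_US K (show R 23 ∈ [R 14, R 23] by decide +kernel) _))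

theorem gBW'_mem (t u : K) : gBW' F t u ∈ rankOne (tw F) (oN F 1) :=
  opp_mem F 1 [R 20, R 22, R 19, R 17] (by decide +kernel)
    (mul_mem (mul_mem (mul_mem (C.X_mem_US K (show R 20 ∈ [R 20, R 22, R 19, R 17] by decide +kernel) _)
      (C.X_mem_US K (show R 22 ∈ [R 20, R 22, R 19, R 17] by decide +kernel) _))
      (C.X_mem_US K (show R 19 ∈ [R 20, R 22, R 19, R 17] by decide +kernel) _))
      (C.X_mem_US K (show R 17 ∈ [R 20, R 22, R 19, R 17] by decide +kernel) _))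

theorem nS0_mem : (tw F).nS (oN F 0) ∈ rankOne (tw F) (oN F 0) := by
  rw [show (tw F).nS (oN F 0) = gPW F 1 * gPW' F 1 * gPW F 1 from Subtype.ext (wprod0_eq F)]
  have h := Subgroup.mem_sup_left (T := (uO (tw F) (oN F 0)).map (MulAut.conj ((tw F).nS (oN F 0))).toMonoidHom)
    ((mem_uO0 F).2 ⟨(1 : K), rfl⟩)
  exact mul_mem (mul_mem h (gPW'_mem F 1)) h

theorem nS1_mem : (tw F).nS (oN F 1) ∈ rankOne (tw F) (oN F 1) := by
  rw [show (tw F).nS (oN F 1) = gBW F 1 0 * gBW' F 0 1 * gBW F 1 1 from Subtype.ext (wprod1_eq F)]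
  have h := fun t u : K => Subgroup.mem_sup_left
    (T := (uO (tw F) (oN F 1)).map (MulAut.conj ((tw F).nS (oN F 1))).toMonoidHom)
    ((mem_uO1 F).2 ⟨t, u, rfl⟩)
  exact mul_mem (mul_mem (h 1 0) (gBW'_mem F 0 1)) (h 1 1)

theorem nS_mem (i : Fin 2) : (tw F).nS (oN F i) ∈ rankOne (tw F) (oN F i) := by
  fin_cases i
  · exact nS0_mem F
  · exact nS1_mem F

theorem top_eq : ⨆ i, rankOne (tw F) (oN F i) = ⊤ := by
  rw [eq_top_iff]
  rintro ⟨g, hg⟩ -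
  have key : ∀ i, ∀ x ∈ rankOne (tw F) (oN F i), x ∈ ⨆ i, rankOne (tw F) (oN F i) :=
    fun i x hx => le_iSup (fun i => rankOne (tw F) (oN F i)) i hx
  obtain ⟨hg', h⟩ := G_induction F
    (p := fun g => ∃ h : g ∈ (tw F).W, (⟨g, h⟩ : ↥(tw F).W) ∈ ⨆ i, rankOne (tw F) (oN F i))
    ⟨one_mem _, one_mem _⟩
    (fun t u => ⟨⟨_, key 1 _ (Subgroup.mem_sup_left ((mem_uO1 F).2 ⟨t, u, rfl⟩))⟩, ⟨_, key 1 _ (gBW'_mem F t u)⟩⟩)
    (fun t => ⟨⟨_, key 0 _ (Subgroup.mem_sup_left ((mem_uO0 F).2 ⟨t, rfl⟩))⟩, ⟨_, key 0 _ (gPW'_mem F t)⟩⟩)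
    (fun x _ y _ ⟨hx, hx'⟩ ⟨hy, hy'⟩ => ⟨mul_mem hx hy, mul_mem hx' hy'⟩)
    (fun x _ ⟨hx, hx'⟩ => ⟨inv_mem hx, inv_mem hx'⟩) hg
  exact h

theorem mu_zero (i : Fin 2) : ∀ j, (tw F).idx j = oN F i → mu i j = 0 := by
  have key : ∀ i : Fin 2, ∀ j : Fin chevF4.rank, idxF j = i → mu i j = 0 := by decide +kernel
  exact key i

omit F

theorem hχ_val (χ : Fin chevF4.rank → Kˣ) (a b : Rt chevF4) :
    (hχ χ : Matrix chevF4.Idx chevF4.Idx K) (Sum.inr a) (Sum.inr b) =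
      if a = b then (C.chr K χ a : K) else 0 := by
  show (Matrix.diagonal (Sum.elim (fun _ => (1 : K)) fun s => ((C.chA (cOf χ) s : Kˣ) : K)) : Matrix _ _ K)
    (Sum.inr a) (Sum.inr b) = _
  rw [Matrix.diagonal_apply, chA_hχ]
  simp

theorem chr_χOf (x y : Kˣ) (r : Rt chevF4) (a b c d : ℤ)
    (h : Data.F4.fast.v r.val 0 = a ∧ Data.F4.fast.v r.val 1 = b ∧ Data.F4.fast.v r.val 2 = c ∧
      Data.F4.fast.v r.val 3 = d) :
    (C.chr K (χOf θ x y) r : K) = θ (x : K) ^ a * θ (y : K) ^ b * (y : K) ^ c * (x : K) ^ d := by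
  obtain ⟨rfl, rfl, rfl, rfl⟩ := h
  rw [Core.chr, prod4]
  simp only [Units.val_mul, Units.val_zpow_eq_zpow_val]
  rfl

include F

theorem torus_param {h : ↥(tw F).W} (hh : h ∈ tor (tw F)) :
    ∃ x y : Kˣ, (h : GL chevF4.Idx K) = hχ (χOf θ x y) := by
  obtain ⟨χ, hχe⟩ := exists_hχ ((mem_tor (tw F)).1 hh)
  refine ⟨χ (nd 3), χ (nd 2), ?_⟩
  have := (tw F).W_fix _ h.2
  rw [hχe] at this ⊢
  exact congrArg hχ (eq_of_fix F this)

theorem bl0_torus (x y : Kˣ) :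
    bl V0 (hχ (χOf θ x y)) = !![θ (x : K) * θ (y : K), 0; 0, θ (y : K)] := by
  ext i j
  fin_cases i <;> fin_cases j <;>
    simp [bl, V0, hχ_val, chr_χOf x y (R 34) 1 1 0 0 (by decide +kernel),
      chr_χOf x y (R 27) 0 1 0 0 (by decide +kernel), show R 34 ≠ R 27 by decide +kernel,
      show R 27 ≠ R 34 by decide +kernel]

theorem bl1_torus (x y : Kˣ) :
    bl V1 (hχ (χOf θ x y)) = !![θ (x : K) * θ (y : K) * θ (y : K) * y, 0, 0, 0; 0, θ (x : K) * θ (y : K) * y, 0, 0;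
      0, 0, θ (x : K) * θ (y : K), 0; 0, 0, 0, θ (x : K)] := by
  ext i j
  fin_cases i <;> fin_cases j <;>
    simp [bl, V1, hχ_val, chr_χOf x y (R 37) 1 2 1 0 (by decide +kernel),
      chr_χOf x y (R 35) 1 1 1 0 (by decide +kernel), chr_χOf x y (R 34) 1 1 0 0 (by decide +kernel),
      chr_χOf x y (R 33) 1 0 0 0 (by decide +kernel), sq, zpow_two, mul_assoc] <;>
    intro h <;> simp [R, Fin.ext_iff] at h

end Cfsg.Agent.Lib.TwMult.F4
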