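import Cfsg.Agent.Lib.TwMult.F4Elems
import Cfsg.Agent.Lib.LieTwisted.SuzukiStructure
import Cfsg.Agent.Lib.Linear.Transvection

/-!
The two groups of rank one of ²F₄: SL₂(q) and Sz(q).
-/

set_option autoImplicit false
set_option maxRecDepth 100000
set_option linter.unusedSectionVars false

namespace Cfsg.Agent.Lib.TwMult.F4

open Cfsg.Lie
open Cfsg.Agent.Lib.ChevStructure Cfsg.Agent.Lib.LieTwisted.Twist Cfsg.Agent.Lib.LieTwisted.Twist.F4
open Cfsg.Agent.Lib.LieTwisted Cfsg.Agent.Lib.LieTwisted.Suzuki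
open scoped MatrixGroups Matrix

universe u

/-- The range of a homomorphism on a group of rank one. -/
theorem rank_range_le {D : ChevalleyDatum} {C : Core D} {K : Type*} [Field K] (T : Tw C K) (m : Fin T.nn)
    {G' : Type*} [Group G'] (f : ↥(rankOne T m) →* G') (R : Subgroup G') (hn : T.nS m ∈ rankOne T m)
    (hU : ∀ x : ↥(rankOne T m), (x : ↥T.W) ∈ uO T m → f x ∈ R) (hN : f ⟨T.nS m, hn⟩ ∈ R) : f.range ≤ R := by
  have hle : rankOne T m ≤ (R.comap f).map (rankOne T m).subtype := by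
    have h1 : uO T m ≤ (R.comap f).map (rankOne T m).subtype := fun g hg =>
      ⟨⟨g, Subgroup.mem_sup_left hg⟩, hU _ hg, rfl⟩
    refine sup_le h1 ?_
    rintro _ ⟨u, hu, rfl⟩
    exact mul_mem (mul_mem ⟨⟨_, hn⟩, hN, rfl⟩ (h1 hu)) (inv_mem ⟨⟨_, hn⟩, hN, rfl⟩)
  rintro _ ⟨x, rfl⟩
  obtain ⟨y, hy, e⟩ := hle x.2
  rw [show x = y from (Subtype.ext e).symm]
  exact hy

variable {K : Type u} [Field K] [Fintype K] {θ : K ≃+* K} {e : ℕ} (F : Th θ e)

include F

/-- The action of the first group of rank one. -/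
noncomputable def h0 : ↥(rankOne (tw F) (oN F 0)) →* GL (Fin 2) K :=
  rankHom (tw F) (oN F 0) V0 (rankOne_le_of_supp (tw F) (oN F 0) (mu_zero F 0))

/-- The action of the second group of rank one. -/
noncomputable def h1 : ↥(rankOne (tw F) (oN F 1)) →* GL (Fin 4) K :=
  rankHom (tw F) (oN F 1) V1 (rankOne_le_of_supp (tw F) (oN F 1) (mu_zero F 1))

theorem h0_val (x : ↥(rankOne (tw F) (oN F 0))) :
    (h0 F x : Matrix (Fin 2) (Fin 2) K) = bl V0 ((x : ↥(tw F).W) : GL chevF4.Idx K) := rfl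

theorem h1_val (x : ↥(rankOne (tw F) (oN F 1))) :
    (h1 F x : Matrix (Fin 4) (Fin 4) K) = bl V1 ((x : ↥(tw F).W) : GL chevF4.Idx K) := rfl

theorem hq : 1 < (tw F).q := Fintype.one_lt_card

theorem hχ_one' : (hχ (χOf θ (1 : Kˣ) 1) : GL chevF4.Idx K) = 1 := by
  have h := hχ_mul (χOf θ (1 : Kˣ) 1) (χOf θ (1 : Kˣ) 1)
  rw [χOf_mul, one_mul] at h
  exact mul_eq_left.1 h

theorem h0_injective : Function.Injective (h0 F) := by
  refine (injective_iff_map_eq_one _).2 fun x hx => ?_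
  have hb : bl V0 ((x : ↥(tw F).W) : GL chevF4.Idx K) = 1 := by rw [← h0_val, hx, Units.val_one]
  have hlev : ∀ {g : ↥(tw F).W}, g ∈ rankOne (tw F) (oN F 0) → (g : GL chevF4.Idx K) ∈ levelGroup C (mu 0) K :=
    fun {g} hg => rankOne_le_of_supp (tw F) (oN F 0) (mu_zero F 0) g hg
  have hU : ∀ {g : ↥(tw F).W}, g ∈ uO (tw F) (oN F 0) → (g : GL chevF4.Idx K) ∈ levelGroup C (mu 0) K :=
    fun {g} hg => hlev (Subgroup.mem_sup_left hg)
  rcases exists_form (tw F) (hq F) (oN F 0) (nS_mem F 0) x x.2 with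
    ⟨a, ha, h, hh, ex⟩ | ⟨a, ha, b, hb', h, hh, ex⟩
  · obtain ⟨y, z, hy⟩ := torus_param F hh
    obtain ⟨t, rfl⟩ := (mem_uO0 F).1 ha
    rw [ex, Subgroup.coe_mul, bl_mul _ (hU ha), hy] at hb
    change bl V0 (gPp θ t) * _ = _ at hb
    rw [bl0_gP F, bl0_torus F] at hb
    have e00 := congrFun₂ hb 0 0
    have e01 := congrFun₂ hb 0 1
    have e11 := congrFun₂ hb 1 1
    simp [Matrix.mul_apply, Fin.sum_univ_two] at e00 e01 e11
    subst e11
    simp at e00 e01
    subst e00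
    subst e01
    refine Subtype.ext (Subtype.ext ?_)
    rw [ex, Subgroup.coe_mul, hy, hχ_one' F, mul_one]
    show gPp θ (0 : K) = 1
    simp [gPp, gP, C.X_zero]
  · exfalso
    obtain ⟨y, z, hy⟩ := torus_param F hh
    obtain ⟨t, rfl⟩ := (mem_uO0 F).1 ha
    obtain ⟨s, rfl⟩ := (mem_uO0 F).1 hb'
    have hn := hlev (nS_mem F 0)
    rw [ex, Subgroup.coe_mul, Subgroup.coe_mul, Subgroup.coe_mul,
      bl_mul _ (mul_mem (mul_mem (hU ha) hn) (hU hb')), bl_mul _ (mul_mem (hU ha) hn), bl_mul _ (hU ha), hy] at hb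
    change bl V0 (gPp θ t) * bl V0 (C.wprod K (Jw 0)) * bl V0 (gPp θ s) * _ = _ at hb
    rw [bl0_gP F, bl0_gP F, bl0_P0 F, bl0_torus F] at hb
    have e10 := congrFun₂ hb 1 0
    simp [Matrix.mul_apply, Fin.sum_univ_two] at e10

theorem h1_injective {m : ℕ} (hsg : ∀ x : K, sg m x = θ x ^ 2) : Function.Injective (h1 F) := by
  refine (injective_iff_map_eq_one _).2 fun x hx => ?_
  have hb : bl V1 ((x : ↥(tw F).W) : GL chevF4.Idx K) = 1 := by rw [← h1_val, hx, Units.val_one]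
  have hlev : ∀ {g : ↥(tw F).W}, g ∈ rankOne (tw F) (oN F 1) → (g : GL chevF4.Idx K) ∈ levelGroup C (mu 1) K :=
    fun {g} hg => rankOne_le_of_supp (tw F) (oN F 1) (mu_zero F 1) g hg
  have hU : ∀ {g : ↥(tw F).W}, g ∈ uO (tw F) (oN F 1) → (g : GL chevF4.Idx K) ∈ levelGroup C (mu 1) K :=
    fun {g} hg => hlev (Subgroup.mem_sup_left hg)
  rcases exists_form (tw F) (hq F) (oN F 1) (nS_mem F 1) x x.2 with
    ⟨a, ha, h, hh, ex⟩ | ⟨a, ha, b, hb', h, hh, ex⟩
  · obtain ⟨y, z, hy⟩ := torus_param F hh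
    obtain ⟨t, u, rfl⟩ := (mem_uO1 F).1 ha
    rw [ex, Subgroup.coe_mul, bl_mul _ (hU ha), hy] at hb
    change bl V1 (gBp θ t u) * _ = _ at hb
    rw [bl1_gB F hsg, bl1_torus F] at hb
    have e22 := congrFun₂ hb 2 2
    have e23 := congrFun₂ hb 2 3
    have e33 := congrFun₂ hb 3 3
    have e13 := congrFun₂ hb 1 3
    simp [utMat, Matrix.mul_apply, Fin.sum_univ_four] at e22 e23 e33 e13
    subst e33
    simp at e22 e23 e13
    subst e22
    subst e23
    simp at e13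
    subst e13
    refine Subtype.ext (Subtype.ext ?_)
    rw [ex, Subgroup.coe_mul, hy, hχ_one' F, mul_one]
    show gBp θ (0 : K) 0 = 1
    simp [gBp, gB, C.X_zero]
  · exfalso
    obtain ⟨y, z, hy⟩ := torus_param F hh
    obtain ⟨t, u, rfl⟩ := (mem_uO1 F).1 ha
    obtain ⟨s, v, rfl⟩ := (mem_uO1 F).1 hb'
    have hn := hlev (nS_mem F 1)
    rw [ex, Subgroup.coe_mul, Subgroup.coe_mul, Subgroup.coe_mul,
      bl_mul _ (mul_mem (mul_mem (hU ha) hn) (hU hb')), bl_mul _ (mul_mem (hU ha) hn), bl_mul _ (hU ha), hy] at hb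
    change bl V1 (gBp θ t u) * bl V1 (C.wprod K (Jw 1)) * bl V1 (gBp θ s v) * _ = _ at hb
    rw [bl1_gB F hsg, bl1_gB F hsg, bl1_P1 F, bl1_torus F] at hb
    have e30 := congrFun₂ hb 3 0
    simp [utMat, wMat, Matrix.mul_apply, Fin.sum_univ_four] at e30

/-- The image of the first group of rank one. -/
theorem h0_range : (h0 F).range = (Matrix.SpecialLinearGroup.toGL : SL(2, K) →* GL (Fin 2) K).range := by
  haveI := F.two
  have hd : ∀ t : K, (!![1, θ t; 0, 1] : Matrix (Fin 2) (Fin 2) K).det = 1 := fun t => by simp [Matrix.det_fin_two]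
  have hn : (!![(0 : K), 1; 1, 0] : Matrix (Fin 2) (Fin 2) K).det = 1 := by simp [Matrix.det_fin_two, F.neg]
  refine le_antisymm (rank_range_le (tw F) _ _ _ (nS_mem F 0) (fun x hx => ?_) ?_) ?_
  · obtain ⟨t, ht⟩ := (mem_uO0 F).1 hx
    refine ⟨⟨_, hd t⟩, Units.ext ?_⟩
    show !![1, θ t; 0, 1] = _
    rw [h0_val, ht]
    exact (bl0_gP F t).symm
  · exact ⟨⟨_, hn⟩, Units.ext (bl0_P0 F).symm⟩
  · rintro _ ⟨g, rfl⟩
    suffices h : ((h0 F).range.comap (Matrix.SpecialLinearGroup.toGL : SL(2, K) →* GL (Fin 2) K)) = ⊤ by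
      have := Subgroup.mem_top g
      rwa [← h] at this
    refine Linear.sl_eq_top_of_transvection_mem _ fun i j hij c => ?_
    have hup : ∀ c : K, ∃ x, (h0 F x : Matrix (Fin 2) (Fin 2) K) = !![1, c; 0, 1] := fun c =>
      ⟨⟨gPW F (θ.symm c), Subgroup.mem_sup_left ((mem_uO0 F).2 ⟨_, rfl⟩)⟩, by
        rw [h0_val]
        refine (bl0_gP F (θ.symm c)).trans ?_
        rw [RingEquiv.apply_symm_apply]⟩
    have hw : ∃ x, (h0 F x : Matrix (Fin 2) (Fin 2) K) = !![0, 1; 1, 0] :=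
      ⟨⟨_, nS_mem F 0⟩, bl0_P0 F⟩
    obtain ⟨w, hw⟩ := hw
    obtain ⟨u, hu⟩ := hup c
    show _ ∈ (h0 F).range
    obtain ⟨rfl, rfl⟩ | ⟨rfl, rfl⟩ : i = 0 ∧ j = 1 ∨ i = 1 ∧ j = 0 := by
      revert hij; revert i j; decide
    · refine ⟨u, Units.ext ?_⟩
      rw [hu]
      ext a b
      fin_cases a <;> fin_cases b <;> simp [Matrix.SpecialLinearGroup.transvection_coe, Matrix.single]
    · refine ⟨w * u * w, Units.ext ?_⟩
      simp only [map_mul, Units.val_mul, hu, hw]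
      ext a b
      fin_cases a <;> fin_cases b <;>
        simp [Matrix.SpecialLinearGroup.transvection_coe, Matrix.single, Matrix.mul_apply, Fin.sum_univ_two]

/-- The image of the second group of rank one. -/
theorem h1_range {m : ℕ} (hm : 1 ≤ m) (hS : IsSzField K m) (hsg : ∀ x : K, sg m x = θ x ^ 2) :
    (h1 F).range = ((Matrix.SpecialLinearGroup.toGL : SL(4, K) →* GL (Fin 4) K).comp
      (Cfsg.Sz K m).subtype).range := by
  have hu : ∀ a b : K, ∃ x, (h1 F x : Matrix (Fin 4) (Fin 4) K) = utMat m a b := fun a b => by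
    refine ⟨⟨gBW F (θ.symm a) (b + θ (θ.symm a) * θ.symm a),
      Subgroup.mem_sup_left ((mem_uO1 F).2 ⟨_, _, rfl⟩)⟩, ?_⟩
    rw [h1_val]
    refine (bl1_gB F hsg _ _).trans ?_
    rw [RingEquiv.apply_symm_apply, add_left_comm, F.add_self, add_zero]
  have hw : ∃ x, (h1 F x : Matrix (Fin 4) (Fin 4) K) = wMat K := ⟨⟨_, nS_mem F 1⟩, bl1_P1 F⟩
  refine le_antisymm (rank_range_le (tw F) _ _ _ (nS_mem F 1) (fun x hx => ?_) ?_) ?_
  · obtain ⟨t, v, ht⟩ := (mem_uO1 F).1 hx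
    refine ⟨Suzuki.uS hS (θ t) (θ t * t + v), Units.ext ?_⟩
    show utMat m _ _ = _
    rw [h1_val, ht]
    exact (bl1_gB F hsg t v).symm
  · exact ⟨Suzuki.wS hS, Units.ext (bl1_P1 F).symm⟩
  · rintro _ ⟨g, rfl⟩
    set f := (Matrix.SpecialLinearGroup.toGL : SL(4, K) →* GL (Fin 4) K).comp (Cfsg.Sz K m).subtype
    suffices h : (h1 F).range.comap f = ⊤ by
      have := Subgroup.mem_top g
      rwa [← h] at this
    obtain ⟨w, hw⟩ := hw
    refine hS.eq_top_of_unips hm (fun a b => ?_) (fun a b => ?_)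
    · obtain ⟨x, hx⟩ := hu a b
      exact ⟨x, Units.ext hx⟩
    · obtain ⟨x, hx⟩ := hu a b
      refine ⟨w * x * w, Units.ext ?_⟩
      simp only [map_mul, Units.val_mul, hx, hw]
      rfl

/-- The first group of rank one is SL₂. -/
noncomputable def iso0 : ↥(rankOne (tw F) (oN F 0)) ≃* SL(2, K) :=
  ((MonoidHom.ofInjective (h0_injective F)).trans (MulEquiv.subgroupCongr (h0_range F))).trans
    (MonoidHom.ofInjective Matrix.SpecialLinearGroup.toGL_injective).symm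

/-- The second group of rank one is the Suzuki group. -/
noncomputable def iso1 {m : ℕ} (hm : 1 ≤ m) (hS : IsSzField K m) (hsg : ∀ x : K, sg m x = θ x ^ 2) :
    ↥(rankOne (tw F) (oN F 1)) ≃* ↥(Cfsg.Sz K m) :=
  ((MonoidHom.ofInjective (h1_injective F hsg)).trans (MulEquiv.subgroupCongr (h1_range F hm hS hsg))).trans
    (MonoidHom.ofInjective (f := (Matrix.SpecialLinearGroup.toGL : SL(4, K) →* GL (Fin 4) K).comp
      (Cfsg.Sz K m).subtype) (Matrix.SpecialLinearGroup.toGL_injective.comp Subtype.val_injective)).symm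

/-- The tori of the two groups meet trivially. -/
theorem indep {m : ℕ} (hm : 1 ≤ m) (hS : IsSzField K m) (hsg : ∀ x : K, sg m x = θ x ^ 2) :
    ∀ a ∈ tor (tw F) ⊓ rankOne (tw F) (oN F 0), ∀ b ∈ tor (tw F) ⊓ rankOne (tw F) (oN F 1),
      a * b = 1 → a = 1 := by
  intro a ha b hb hab
  obtain ⟨ha1, ha2⟩ := Subgroup.mem_inf.1 ha
  obtain ⟨hb1, hb2⟩ := Subgroup.mem_inf.1 hb
  obtain ⟨x, y, hx⟩ := torus_param F ha1
  obtain ⟨x', y', hx'⟩ := torus_param F hb1
  -- the first torus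
  obtain ⟨g, hg⟩ : h0 F ⟨a, ha2⟩ ∈ (Matrix.SpecialLinearGroup.toGL : SL(2, K) →* GL (Fin 2) K).range :=
    h0_range F ▸ ⟨_, rfl⟩
  have d0 : θ (x : K) * θ (y : K) * θ (y : K) = 1 := by
    have h1 : bl V0 (a : GL chevF4.Idx K) = (g : Matrix (Fin 2) (Fin 2) K) := by
      rw [← h0_val F ⟨a, ha2⟩, ← hg]; rfl
    have := g.2
    rw [← h1, hx, bl0_torus F] at this
    simpa [Matrix.det_fin_two, mul_assoc] using this
  -- the second torus
  obtain ⟨g', hg'⟩ : h1 F ⟨b, hb2⟩ ∈ ((Matrix.SpecialLinearGroup.toGL : SL(4, K) →* GL (Fin 4) K).comp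
      (Cfsg.Sz K m).subtype).range := h1_range F hm hS hsg ▸ ⟨_, rfl⟩
  have hmat : mat g' = !![θ (x' : K) * θ (y' : K) * θ (y' : K) * y', 0, 0, 0; 0, θ (x' : K) * θ (y' : K) * y', 0, 0;
      0, 0, θ (x' : K) * θ (y' : K), 0; 0, 0, 0, θ (x' : K)] := by
    have h1 : bl V1 (b : GL chevF4.Idx K) = mat g' := by rw [← h1_val F ⟨b, hb2⟩, ← hg']; rfl
    rw [← h1, hx', bl1_torus F]
  have d1 : θ (x' : K) * θ (y' : K) * y' * (θ (x' : K) * θ (y' : K)) = 1 := by
    obtain ⟨p, q, f, rfl | ⟨v, w, rfl⟩⟩ := hS.bruhat hm g'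
    · have h11 := congrFun₂ hmat 1 1
      have h22 := congrFun₂ hmat 2 2
      simp [mat_mul, hS.mat_uS, hS.mat_dS, dgMat, utMat, Matrix.mul_apply, Fin.sum_univ_four] at h11 h22
      rw [← h11, ← h22, mul_inv_cancel₀ f.ne_zero]
    · exfalso
      have h30 := congrFun₂ hmat 3 0
      simp [mat_mul, hS.mat_wS, hS.mat_uS, hS.mat_dS, wMat, dgMat, utMat, Matrix.mul_apply, Matrix.vecMul,
        dotProduct, Matrix.diagonal, Matrix.vecHead, Matrix.vecTail, Fin.sum_univ_four, sg_eq_zero] at h30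
  -- the product is one
  have hp : hχ (χOf θ (x * x') (y * y')) = hχ (χOf θ (1 : Kˣ) 1) := by
    rw [hχ_one' F, ← χOf_mul, ← hχ_mul, ← hx, ← hx', ← Subgroup.coe_mul, hab, Subgroup.coe_one]
  have hp' := hχ_inj hp
  have px : (x : K) * x' = 1 := congrArg Units.val (congrFun hp' (nd 3) :)
  have py : (y : K) * y' = 1 := congrArg Units.val (congrFun hp' (nd 2) :)
  have hxy : (x : K) * y * y = 1 := θ.injective (by rw [map_mul, map_mul, map_one, d0])
  have hxy' : (x' : K) * (y' * θ (y' : K)) = 1 := by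
    have h := congrArg (fun s => θ s) d1
    simp only [map_mul, map_one] at h
    have hxx := F.sq (x' : K)
    have hyy := F.sq (y' : K)
    linear_combination h - θ (θ (y' : K)) ^ 2 * θ (y' : K) * hxx - (x' : K) * θ (y' : K) * hyy
  have e1 : (x' : K) = (y : K) * y := by linear_combination (y : K) * y * px - (x' : K) * hxy
  rw [e1] at hxy'
  have e2 : (y : K) * θ (y' : K) = 1 := by linear_combination hxy' - (y : K) * θ (y' : K) * py
  have e3 : θ (y' : K) = y' := mul_left_cancel₀ y.ne_zero (e2.trans py.symm)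
  have e4 : (y' : K) = 1 := by
    have h := F.sq (y' : K)
    rw [e3, e3, sq] at h
    exact mul_left_cancel₀ y'.ne_zero (h.trans (mul_one _).symm)
  obtain rfl : y = 1 := Units.ext (by rw [e4, mul_one] at py; exact py)
  obtain rfl : x = 1 := Units.ext (by simpa using hxy)
  exact Subtype.ext (by rw [hx, hχ_one' F, Subgroup.coe_one])

end Cfsg.Agent.Lib.TwMult.F4
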