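import Cfsg.Agent.Lib.Schur.Fusion
import Mathlib

/-!
Commuting lifts in a central extension: elements expressed as commutators.
-/

set_option autoImplicit false

namespace Cfsg.Agent.Lib.TwMult

open Subgroup
open scoped commutatorElement

universe u v

variable {G : Type v} [Group G] {E : Type u} [Group E] {σ : E →* G}

open Cfsg.Agent.Lib.Schur.Fusion (commutator_congr)

/-- Lifts of elements with commuting images commute as soon as some lifts do. -/
theorem commute_congr (hk : σ.ker ≤ center E) {x x' y y' : E} (hx : σ x = σ x') (hy : σ y = σ y')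
    (h : Commute x y) : Commute x' y' :=
  commutatorElement_eq_one_iff_commute.1
    ((commutator_congr hk hx hy).symm.trans (commutatorElement_eq_one_iff_commute.2 h))

/-- An element commuting with `h` and `x'` has lifts commuting with those of `⁅h, x'⁆`. -/
theorem commute_lift_commutator (hk : σ.ker ≤ center E) {h x x' y : E} (hx : σ x = ⁅σ h, σ x'⁆)
    (h1 : Commute (σ h) (σ y)) (h2 : Commute (σ x') (σ y)) : Commute x y := by
  refine commute_congr hk (x := ⁅h, x'⁆) (by rw [map_commutatorElement, hx]) rfl ?_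
  have key : ∀ a : E, Commute (σ a) (σ y) → ∀ g : E, Commute ⁅a, y⁆ g := fun a ha g =>
    (mem_center_iff.1 (Cfsg.Agent.Lib.Schur.Fusion.central_of_commute hk ha) g).symm
  have cj : ∀ a : E, Commute (σ a) (σ y) → a * y * a⁻¹ = ⁅a, y⁆ * y := fun a _ => by
    rw [commutatorElement_def]; group
  have cj' : ∀ a : E, Commute (σ a) (σ y) → a⁻¹ * y * a = ⁅a, y⁆⁻¹ * y := fun a ha => by
    have h := cj a ha
    calc a⁻¹ * y * a = ⁅a, y⁆⁻¹ * (a⁻¹ * (⁅a, y⁆ * y) * a) := by
          rw [show a⁻¹ * (⁅a, y⁆ * y) * a = a⁻¹ * ⁅a, y⁆ * (y * a) by group, (key a ha a⁻¹).symm.eq]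
          group
      _ = _ := by rw [← h]; group
  set s := ⁅h, y⁆ with hs
  set r := ⁅x', y⁆ with hr
  have sc : ∀ (z : E), (∀ g, Commute z g) → ∀ g w : E, g * (z * w) * g⁻¹ = z * (g * w * g⁻¹) := fun z hz g w => by
    rw [show g * (z * w) * g⁻¹ = g * z * (w * g⁻¹) by group, ← (hz g).eq]; group
  have scs : ∀ g, Commute s g := key h h1
  have scr : ∀ g, Commute r g := key x' h2
  have : ⁅h, x'⁆ * y * ⁅h, x'⁆⁻¹ = y := by
    calc ⁅h, x'⁆ * y * ⁅h, x'⁆⁻¹ = h * (x' * (h⁻¹ * (x'⁻¹ * y * x') * h) * x'⁻¹) * h⁻¹ := by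
          rw [commutatorElement_def]; group
      _ = h * (x' * (r⁻¹ * (h⁻¹ * y * h)) * x'⁻¹) * h⁻¹ := by
          rw [cj' x' h2]
          congr 3
          have := sc r⁻¹ (fun g => (scr g).inv_left) h⁻¹ y
          rw [inv_inv] at this
          rw [← hr, this]
      _ = h * (r⁻¹ * (s⁻¹ * (r * y))) * h⁻¹ := by
          rw [cj' h h1, sc r⁻¹ (fun g => (scr g).inv_left) x', sc s⁻¹ (fun g => (scs g).inv_left) x',
            cj x' h2]
      _ = r⁻¹ * (s⁻¹ * (r * (s * y))) := by
          rw [sc r⁻¹ (fun g => (scr g).inv_left) h, sc s⁻¹ (fun g => (scs g).inv_left) h, sc r scr h, cj h h1]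
      _ = y := by
          rw [← mul_assoc s⁻¹ r, (scs r).inv_left.eq, mul_assoc r, inv_mul_cancel_left, inv_mul_cancel_left]
  exact (mul_inv_eq_iff_eq_mul.1 this)

/-- If `x` moves `a` by `k` and the lifts of `x`, `k` commute with those of `c`, and `k` with `⁅a, c⁆`,
then the lifts of `x` commute with those of `⁅a, c⁆`. -/
theorem commute_lift_middle (hk : σ.ker ≤ center E) {x a c k y : E} (hy : σ y = ⁅σ a, σ c⁆)
    (hxa : σ x * σ a * (σ x)⁻¹ = σ k * σ a) (hxc : Commute x c) (hkc : Commute k c) (hky : Commute k y) :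
    Commute x y := by
  have hky' : Commute k ⁅a, c⁆ := commute_congr hk rfl (by rw [map_commutatorElement, hy]) hky
  refine commute_congr hk rfl (y := ⁅a, c⁆) (by rw [map_commutatorElement, hy]) ?_
  have : x * ⁅a, c⁆ * x⁻¹ = ⁅a, c⁆ := by
    rw [conjugate_commutatorElement,
      commutator_congr hk (a' := k * a) (b' := c) (by simpa using hxa) (by rw [hxc.eq, mul_inv_cancel_right]),
      commutatorElement_mul_left_eq_conj_mul, commutatorElement_eq_one_iff_commute.2 hkc, mul_one, hky'.eq,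
      mul_inv_cancel_right]
  exact mul_inv_eq_iff_eq_mul.1 this

end Cfsg.Agent.Lib.TwMult
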