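import Cfsg.Agent.Lib.TwMult.F4Phi
import Cfsg.Agent.Lib.TwMult.Layers
import Cfsg.Agent.Lib.TwMult.Pair

/-!
The group U¹ of ²F₄(q) lifts through every central extension of the twisted group.
-/

set_option autoImplicit false
set_option maxRecDepth 100000
set_option linter.unusedSectionVars false

namespace Cfsg.Agent.Lib.TwMult.F4

open Cfsg.Lie
open Cfsg.Agent.Lib.ChevStructure Cfsg.Agent.Lib.LieTwisted.Twist Cfsg.Agent.Lib.LieTwisted.Twist.F4
open scoped MatrixGroups commutatorElement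

universe u

variable {K : Type u} [Field K]

/-- Two groups of roots with trivially commuting root elements. -/
theorem commute_US {θ : K ≃+* K} {e : ℕ} (F : Th θ e) {A B : Set (Rt chevF4)} (h : ∀ r ∈ A, ∀ s ∈ B, Com2 r s)
    {x y : GL chevF4.Idx K} (hx : x ∈ C.US K A) (hy : y ∈ C.US K B) : Commute x y := by
  induction hx using Subgroup.closure_induction with
  | mem a ha =>
    obtain ⟨r, hr, t, rfl⟩ := ha
    induction hy using Subgroup.closure_induction with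
    | mem b hb => obtain ⟨s, hs, u, rfl⟩ := hb; exact commute_com F (h r hr s hs) t u
    | one => exact Commute.one_right _
    | mul a b _ _ iha ihb => exact iha.mul_right ihb
    | inv a _ iha => exact iha.inv_right
  | one => exact Commute.one_left _
  | mul a b _ _ iha ihb => exact iha.mul_left ihb
  | inv a _ iha => exact iha.inv_left

variable [Fintype K] {θ : K ≃+* K} {e : ℕ} (F : Th θ e)

include F

theorem big (h8 : 8 ≤ Fintype.card K) :
    ∃ x y : K, x ≠ 0 ∧ x ≠ 1 ∧ y ≠ 0 ∧ y ≠ 1 ∧ x + y ≠ 0 ∧ x + y ≠ 1 := by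
  classical
  have pick : ∀ S : Finset K, S.card < Fintype.card K → ∃ x, x ∉ S := fun S hS => by
    by_contra hn
    push Not at hn
    exact absurd (Finset.eq_univ_iff_forall.2 hn ▸ hS) (by simp)
  obtain ⟨x, hx⟩ := pick {0, 1} (lt_of_le_of_lt (Finset.card_insert_le _ _) (by simp; omega))
  obtain ⟨y, hy⟩ := pick {0, 1, x, x + 1} (lt_of_le_of_lt ((Finset.card_insert_le _ _).trans
    (Nat.succ_le_succ ((Finset.card_insert_le _ _).trans (Nat.succ_le_succ (Finset.card_insert_le _ _))))) (by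
      simp; omega))
  simp only [Finset.mem_insert, Finset.mem_singleton, not_or] at hx hy
  refine ⟨x, y, hx.1, hx.2, hy.1, hy.2.1, fun h => hy.2.2.1 ?_, fun h => hy.2.2.2 ?_⟩
  · rw [← neg_eq_of_add_eq_zero_right h, F.neg]
  · rw [← h, ← add_assoc, F.add_self, zero_add]

theorem exists_unit_ne_one (h8 : 8 ≤ Fintype.card K) : ∃ w : Kˣ, w ≠ 1 := by
  obtain ⟨x, -, hx0, hx1, -⟩ := big F h8
  exact ⟨Units.mk0 x hx0, fun h => hx1 (congrArg Units.val h)⟩

/-- The separating element inside the twisted group. -/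
noncomputable def hW (B : ℕ) (w : Kˣ) : ↥(tw F).W := ⟨hB θ B w, hB_mem F B w⟩

theorem hW_tor (B : ℕ) (w : Kˣ) : hW F B w ∈ tor (tw F) := (mem_tor (tw F)).2 (hχ_mem_diagonal _)

theorem uS_conj_tor (B : ℕ) (w : Kˣ) {S : Set (Rt chevF4)} {x : ↥(tw F).W} (hx : x ∈ uS (tw F) S) :
    hW F B w * x * (hW F B w)⁻¹ ∈ uS (tw F) S :=
  tor_conj_uS (tw F) S _ (hW_tor F B w) x hx

/-- Every element of a direction is a commutator with the separating element of another direction. -/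
theorem hdec {B i : ℕ} (hB8 : B < 8) (hi : i ≠ B) {w : Kˣ} (hw : w ≠ 1) :
    ∀ x ∈ uS (tw F) (DR i), ∃ x' ∈ uS (tw F) (DR i), x = ⁅hW F B w, x'⁆ := by
  intro x hx
  have hm : ∀ a ∈ uS (tw F) (DR i), ⁅hW F B w, a⁆ ∈ uS (tw F) (DR i) := fun a ha => by
    rw [commutatorElement_def]
    exact mul_mem (uS_conj_tor F B w ha) (inv_mem ha)
  let f : ↥(uS (tw F) (DR i)) → ↥(uS (tw F) (DR i)) := fun a => ⟨⁅hW F B w, (a : ↥(tw F).W)⁆, hm a a.2⟩
  have hf : Function.Injective f := by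
    intro a b h
    have h1 : ⁅hW F B w, (a : ↥(tw F).W)⁆ = ⁅hW F B w, (b : ↥(tw F).W)⁆ := congrArg Subtype.val h
    set c := (b : ↥(tw F).W)⁻¹ * a
    set g := hW F B w
    have h2 : g * c * g⁻¹ = c := by
      rw [commutatorElement_def, commutatorElement_def] at h1
      calc g * c * g⁻¹ = (g * b * g⁻¹)⁻¹ * (g * a * g⁻¹) := by simp only [c]; group
        _ = ((g * b * g⁻¹ * (b : ↥(tw F).W)⁻¹) * b)⁻¹ * ((g * a * g⁻¹ * (a : ↥(tw F).W)⁻¹) * a) := by group
        _ = c := by rw [h1]; simp only [c]; group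
    have hc : (c : GL chevF4.Idx K) ∈ C.US K (DR i) := (mem_uS (tw F)).1 (mul_mem (inv_mem b.2) a.2)
    have h3 := hB_free F hB8 hi hw hc (congrArg Subtype.val h2)
    refine Subtype.ext ?_
    have : c = 1 := Subtype.ext h3
    exact (inv_mul_eq_one.1 this).symm
  obtain ⟨a, ha⟩ := (Finite.injective_iff_surjective.1 hf) ⟨x, hx⟩
  exact ⟨a, a.2, (congrArg Subtype.val ha).symm⟩

/-- The separating element fixes its own layers. -/
theorem hW_fix_pair {j : ℕ} (hj : j < 12) (h : nx j = j) (w : Kˣ) (t : K) :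
    Commute (hW F (dd j) w) (φW F j t) := by
  obtain ⟨p1, p2, h1, h2, -⟩ := pidx_rL j hj
  refine Subtype.ext ?_
  show hB θ (dd j) w * (φW F j t : GL chevF4.Idx K) = (φW F j t : GL chevF4.Idx K) * hB θ (dd j) w
  rw [← mul_inv_eq_iff_eq_mul, φW_pair F hj h, gP,
    show hB θ (dd j) w * (C.X K (rL j) (θ t) * C.X K (sL j) t) * (hB θ (dd j) w)⁻¹ =
      hB θ (dd j) w * C.X K (rL j) (θ t) * (hB θ (dd j) w)⁻¹ *
        (hB θ (dd j) w * C.X K (sL j) t * (hB θ (dd j) w)⁻¹) by group,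
    hB_fix F w h1 (by rw [p1]), hB_fix F w h2 (by rw [p2])]

theorem hW_centralises {j : ℕ} (hj : j < 12) (w : Kˣ) :
    ∀ x ∈ uS (tw F) (SR j), ⁅hW F (dd j) w, x⁆ ∈ uS (tw F) (SR (j + 1)) := by
  intro x hx
  obtain ⟨p1, p2, h1, h2, -⟩ := pidx_rL j hj
  obtain ⟨a, b, h⟩ := exists_coord F hj ((mem_uS (tw F)).1 hx)
  refine (mem_uS (tw F)).2 ?_
  set g := hB θ (dd j) w
  set c := co j a b
  have hc : g * c * g⁻¹ = c := by
    simp only [c, co]
    rw [show g * (C.X K (rL j) a * C.X K (sL j) b) * g⁻¹ =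
      g * C.X K (rL j) a * g⁻¹ * (g * C.X K (sL j) b * g⁻¹) by group,
      hB_fix F w h1 (by rw [p1]), hB_fix F w h2 (by rw [p2])]
  set n := c⁻¹ * (x : GL chevF4.Idx K)
  have hgn : g * n * g⁻¹ ∈ C.US K (SR (j + 1)) :=
    (Subgroup.mem_normalizer_iff.1 (C.diag_le_normalizer (SR (j + 1)) (hχ_mem_diagonal _)) n).1 h
  have hcP : c ∈ C.US K C.Pos := C.US_mono K (SR_pos j) (co_mem hj a b)
  have := conj_mem_SR F (j + 1) hcP (mul_mem hgn (inv_mem h))
  convert this using 1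
  show ⁅g, (x : GL chevF4.Idx K)⁆ = _
  calc ⁅g, (x : GL chevF4.Idx K)⁆ = g * c * g⁻¹ * (g * n * g⁻¹) * n⁻¹ * c⁻¹ := by
        rw [commutatorElement_def]; simp only [n]; group
    _ = c * (g * n * g⁻¹ * n⁻¹) * c⁻¹ := by rw [hc]; group

/-- A central series of U¹ with one-dimensional layers. -/
noncomputable def layers (h8 : 8 ≤ Fintype.card K) : Layers ↥(tw F).W K where
  U := uS (tw F) C.Pos
  H := tor (tw F)
  len := 12
  S j := uS (tw F) (SR j)
  S_zero := by rw [SR_zero]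
  S_len := by
    have he : SR 12 = ∅ := Set.eq_empty_iff_forall_notMem.2 fun r hr => by
      have := pidx_lt r; have := hr.2; omega
    rw [eq_bot_iff]
    intro g hg
    rw [he, uS, Core.US] at hg
    exact Subgroup.mem_bot.2 (Subtype.ext (by simpa using Subgroup.mem_subgroupOf.1 hg))
  anti j := fun g hg => (mem_uS (tw F)).2 (C.US_mono K (SR_anti (Nat.le_succ j)) ((mem_uS (tw F)).1 hg))
  central j _ u hu v hv := (mem_uS (tw F)).2 (comm_mem F j ((mem_uS (tw F)).1 hu) ((mem_uS (tw F)).1 hv))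
  H_S j _ := tor_conj_uS (tw F) (SR j)
  H_comm := tor_comm (tw F)
  m := 8
  X i := uS (tw F) (DR i.val)
  X_le i := fun g hg => (mem_uS (tw F)).2 (C.US_mono K (fun r hr => (pos_iff24 r).2 hr.1) ((mem_uS (tw F)).1 hg))
  gen := by
    have hφ : ∀ j, j < 12 → ∀ t, φW F j t ∈ uS (tw F) (DR (dd j)) := fun j hj t => by
      obtain ⟨hcase, -, hlt⟩ := second_exact j hj
      obtain ⟨p1, p2, h1, h2, -⟩ := pidx_rL j hj
      obtain ⟨q1, q2, h3, h4, -⟩ := pidx_rL (nx j) hlt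
      have hd : dd (nx j) = dd j := by
        rcases hcase with h | rfl | rfl | rfl | rfl
        · rw [h]
        all_goals decide
      have m1 := fun x : K => C.X_mem_US K (S := DR (dd j)) (r := rL j) ⟨h1, by rw [p1]⟩ x
      have m2 := fun x : K => C.X_mem_US K (S := DR (dd j)) (r := sL j) ⟨h2, by rw [p2]⟩ x
      have m3 := fun x : K => C.X_mem_US K (S := DR (dd j)) (r := rL (nx j)) ⟨h3, by rw [q1, hd]⟩ x
      have m4 := fun x : K => C.X_mem_US K (S := DR (dd j)) (r := sL (nx j)) ⟨h4, by rw [q2, hd]⟩ x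
      refine (mem_uS (tw F)).2 ?_
      rw [φW_val F hj, φv]
      split_ifs
      · exact mul_mem (m1 _) (m2 _)
      · exact mul_mem (mul_mem (mul_mem (m1 _) (m2 _)) (m3 _)) (m4 _)
    suffices main : ∀ k j, j + k = 12 → uS (tw F) (SR j) ≤ ⨆ i : Fin 8, uS (tw F) (DR i.val) by
      intro g hg
      exact main 12 0 (zero_add _) (by rwa [SR_zero])
    intro k
    induction k with
    | zero =>
      intro j hj g hg
      obtain rfl : j = 12 := by omega
      have he : SR 12 = ∅ := Set.eq_empty_iff_forall_notMem.2 fun r hr => by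
        have := pidx_lt r; have := hr.2; omega
      rw [he, uS, Core.US] at hg
      have : g = 1 := Subtype.ext (by simpa using Subgroup.mem_subgroupOf.1 hg)
      rw [this]
      exact one_mem _
    | succ k ih =>
      intro j hj g hg
      obtain ⟨t, ht⟩ := φW_surj F (show j < 12 by omega) hg
      rw [← mul_inv_cancel_left (φW F j t) g]
      exact mul_mem (le_iSup (fun i : Fin 8 => uS (tw F) (DR i.val)) ⟨dd j, dd_lt j (by omega)⟩
        (hφ j (by omega) t)) (ih (j + 1) (by omega) ht)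
  φ j t := φW F j t
  φ_mem j hj t := (mem_uS (tw F)).2 (by rw [φW_val F hj]; exact (φv_spec F hj t).1)
  φ_add j hj t t' := by
    refine (fixed_coord F hj (a := θ (t + t')) (b := t + t') (g := φW F j t * φW F j t') ?_).2
    rw [Subgroup.coe_mul, φW_val F hj, φW_val F hj, map_add]
    obtain ⟨-, -, h1⟩ := φv_spec F hj t
    obtain ⟨-, -, h2⟩ := φv_spec F hj t'
    have h3 := co_mul F hj (θ t) t (θ t') t'
    have hP : (co j (θ t') t')⁻¹ ∈ C.US K C.Pos := inv_mem (C.US_mono K (SR_pos j) (co_mem hj _ _))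
    have h4 := mul_mem (mul_mem h3 (conj_mem_SR F (j + 1) hP h1)) h2
    convert h4 using 1
    group
  φ_surj j hj x hx := φW_surj F hj hx
  φ_inj j hj t h := by
    have h1 := (mem_uS (tw F)).1 h
    rw [φW_val F hj] at h1
    have h2 := mul_mem h1 (inv_mem (φv_spec F hj t).2.2)
    rw [mul_inv_rev, inv_inv, mul_inv_cancel_left] at h2
    exact (coord_eq_zero F hj h2).2
  scale j hj s hs := by
    obtain ⟨p1, p2, h1, h2, -⟩ := pidx_rL j hj
    set B := if dd j = 0 then 1 else 0 with hBdef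
    have hB8 : B < 8 := by rw [hBdef]; split_ifs <;> omega
    have hne : dd j ≠ B := by rw [hBdef]; split_ifs <;> omega
    have hgood := ev_good' F hB8 h2 (by rw [p2]; exact hne)
    let f : Kˣ →* Kˣ := MonoidHom.mk' (pv θ (ev B (sL j))) (pv_mul _)
    have hf : Function.Injective f := (injective_iff_map_eq_one f).2 fun w hw => pv_eq_one F hgood hw
    obtain ⟨w, hw⟩ := (Finite.injective_iff_surjective.1 hf) (Units.mk0 s hs)
    refine ⟨hW F B w, hW_tor F B w, fun t => ?_⟩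
    set g := hB θ B w
    set n := (co j (θ t) t)⁻¹ * φv θ j t
    have hgn : g * n * g⁻¹ ∈ C.US K (SR (j + 1)) :=
      (Subgroup.mem_normalizer_iff.1 (C.diag_le_normalizer (SR (j + 1)) (hχ_mem_diagonal _)) n).1
        (φv_spec F hj t).2.2
    have hs' : ((pv θ (ev B (sL j)) w : Kˣ) : K) = s := congrArg Units.val hw
    refine (fixed_coord F hj (a := (pv θ (ev B (rL j)) w : K) * θ t) (b := s * t)
      (g := hW F B w * φW F j t * (hW F B w)⁻¹) ?_).2
    convert hgn using 1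
    rw [Subgroup.coe_mul, Subgroup.coe_mul, Subgroup.coe_inv, φW_val F hj]
    show (co j _ _)⁻¹ * (g * φv θ j t * g⁻¹) = g * n * g⁻¹
    have hc : g * co j (θ t) t * g⁻¹ = co j ((pv θ (ev B (rL j)) w : K) * θ t) (s * t) := by
      rw [co, co, show g * (C.X K (rL j) (θ t) * C.X K (sL j) t) * g⁻¹ =
        g * C.X K (rL j) (θ t) * g⁻¹ * (g * C.X K (sL j) t * g⁻¹) by group, hB_X F, hB_X F, hs']
    rw [← hc]
    simp only [n]
    group
  big := big F h8

/-- The lifts of a direction commute with those of a layer in another direction. -/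
theorem sep_commute {E : Type u} [Group E] {σ : E →* ↥(tw F).W} (hk : σ.ker ≤ Subgroup.center E)
    (hσ : Function.Surjective σ) {w : Kˣ} (hw : w ≠ 1) {i j : ℕ} (hj : j < 12) (hn : nx j = j) (hi : i ≠ dd j)
    (hcom : ∀ r ∈ DR i, ∀ s, 24 ≤ s.val → pidx s = j → Com2 r s) {x y : E} (hx : σ x ∈ uS (tw F) (DR i)) {t : K}
    (hy : σ y = φW F j t) : Commute x y := by
  obtain ⟨x', hx', hxe⟩ := hdec F (dd_lt j hj) hi hw (σ x) hx
  obtain ⟨eh, heh⟩ := hσ (hW F (dd j) w)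
  obtain ⟨ex, rfl⟩ := hσ x'
  refine commute_lift_commutator hk (h := eh) (x' := ex) (by rw [heh]; exact hxe) ?_ ?_
  · rw [heh, hy]
    exact hW_fix_pair F hj hn w t
  · rw [hy]
    obtain ⟨p1, p2, h1, h2, -⟩ := pidx_rL j hj
    refine Subtype.ext ?_
    refine commute_US F (B := {s | 24 ≤ s.val ∧ pidx s = j}) (fun r hr s hs => hcom r hr s hs.1 hs.2)
      ((mem_uS (tw F)).1 hx') ?_
    rw [φW_pair F hj hn]
    exact mul_mem (C.X_mem_US K (show rL j ∈ {s | 24 ≤ s.val ∧ pidx s = j} from ⟨h1, p1⟩) _)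
      (C.X_mem_US K (show sL j ∈ {s | 24 ≤ s.val ∧ pidx s = j} from ⟨h2, p2⟩) _)

theorem last_eq_commutator (t : K) : φW F 11 t = ⁅φW F 2 t, φW F 10 1⁆ := by
  refine Subtype.ext ?_
  show _ = ⁅(φW F 2 t : GL chevF4.Idx K), (φW F 10 1 : GL chevF4.Idx K)⁆
  rw [φW_pair F (show 11 < 12 by decide) rfl, φW_pair F (show 2 < 12 by decide) rfl,
    φW_pair F (show 10 < 12 by decide) rfl]
  simp only [gP, map_one]
  obtain ⟨t1, t2⟩ := terms_2_10
  have n1 : rL 10 ≠ rL 2 ∧ rL 10 ≠ (rL 2).rev ∧ sL 10 ≠ sL 2 ∧ sL 10 ≠ (sL 2).rev := by decide +kernel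
  have s1 := comm.comm_X (rL 2) (rL 10) n1.1 n1.2.1 (θ t) (1 : K)
  rw [t1] at s1
  simp only [List.map_cons, List.map_nil, List.prod_cons, List.prod_nil, mul_one, C.XN_fin, Int.cast_one,
    pow_one, one_mul, F.neg] at s1
  have s2 := comm.comm_X (sL 2) (sL 10) n1.2.2.1 n1.2.2.2 t (1 : K)
  rw [t2] at s2
  simp only [List.map_cons, List.map_nil, List.prod_cons, List.prod_nil, mul_one, C.XN_fin, Int.cast_one,
    pow_one, one_mul, F.neg] at s2
  obtain ⟨c1, c2, c3, c4, c5, c6, c7, c8, c9, c10⟩ := com_2_10_11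
  set A1 := C.X K (rL 2) (θ t)
  set A2 := C.X K (sL 2) t
  set B1 := C.X K (rL 10) (1 : K)
  set B2 := C.X K (sL 10) (1 : K)
  set Y1 := C.X K (rL 11) (θ t)
  set Y2 := C.X K (sL 11) t
  have k1 : A1 * B2 = B2 * A1 := (commute_com F c1 _ _).eq
  have k2 : A2 * B1 = B1 * A2 := (commute_com F c2 _ _).eq
  have m1 : Y1 * A1 = A1 * Y1 := (commute_com F c3 _ _).eq
  have m2 : Y1 * A2 = A2 * Y1 := (commute_com F c4 _ _).eq
  have m3 : Y2 * A1 = A1 * Y2 := (commute_com F c5 _ _).eq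
  have m4 : Y2 * A2 = A2 * Y2 := (commute_com F c6 _ _).eq
  have m5 : Y1 * B1 = B1 * Y1 := (commute_com F c7 _ _).eq
  have m6 : Y1 * B2 = B2 * Y1 := (commute_com F c8 _ _).eq
  have m7 : Y2 * B1 = B1 * Y2 := (commute_com F c9 _ _).eq
  have m8 : Y2 * B2 = B2 * Y2 := (commute_com F c10 _ _).eq
  have e1 : B1 * B2 * (A1 * A2) = A1 * A2 * (B1 * B2) * (Y1 * Y2) := by
    calc B1 * B2 * (A1 * A2) = B1 * (B2 * A1) * A2 := by simp only [mul_assoc]
      _ = B1 * A1 * (B2 * A2) := by rw [← k1]; simp only [mul_assoc]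
      _ = A1 * B1 * Y1 * (A2 * B2 * Y2) := by rw [s1, s2]
      _ = A1 * B1 * (Y1 * A2) * B2 * Y2 := by simp only [mul_assoc]
      _ = A1 * (B1 * A2) * Y1 * B2 * Y2 := by rw [m2]; simp only [mul_assoc]
      _ = A1 * A2 * B1 * (Y1 * B2) * Y2 := by rw [← k2]; simp only [mul_assoc]
      _ = A1 * A2 * (B1 * B2) * (Y1 * Y2) := by rw [m6]; simp only [mul_assoc]
  have hsq : Y1 * Y2 * (Y1 * Y2) = 1 := by
    have hy : Y2 * Y1 = Y1 * Y2 := (commute_com F (pair_layer (show 11 < 12 by decide) rfl).com _ _).symm.eq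
    calc Y1 * Y2 * (Y1 * Y2) = Y1 * (Y2 * Y1) * Y2 := by simp only [mul_assoc]
      _ = (Y1 * Y1) * (Y2 * Y2) := by rw [hy]; simp only [mul_assoc]
      _ = 1 := by rw [X_sq F, X_sq F, mul_one]
  have hc : Commute (Y1 * Y2) (A1 * A2 * (B1 * B2)) :=
    ((Commute.mul_left m1 m3).mul_right (Commute.mul_left m2 m4)).mul_right
      ((Commute.mul_left m5 m7).mul_right (Commute.mul_left m6 m8))
  set P := A1 * A2 * (B1 * B2)
  show Y1 * Y2 = _
  rw [show ⁅A1 * A2, B1 * B2⁆ = P * (B1 * B2 * (A1 * A2))⁻¹ from by simp only [P, commutatorElement_def]; group, e1,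
    mul_inv_rev, ← mul_assoc, ← (hc.inv_left).eq, mul_assoc, mul_inv_cancel, mul_one]
  exact (inv_eq_of_mul_eq_one_right hsq).symm

theorem comm_5_2 {x : ↥(tw F).W} (hx : x ∈ uS (tw F) (DR 5)) (t : K) :
    ⁅x, φW F 2 t⁆ ∈ uS (tw F) {q | 24 ≤ q.val ∧ pidx q = 7} := by
  set T : Set (Rt chevF4) := {q | 24 ≤ q.val ∧ pidx q = 7}
  have hcent : ∀ r, 24 ≤ r.val → (dd (pidx r) = 5 ∨ pidx r = 2) → ∀ q ∈ T, Com2 r q := fun r hr hd q hq =>
    com_layers (r, q) hr hq.1 (hd.elim (fun h => Or.inr (Or.inr (Or.inl ⟨h, hq.2⟩)))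
      (fun h => Or.inr (Or.inr (Or.inr ⟨h, hq.2⟩))))
  have hgenP : ∀ r s : Rt chevF4, r ∈ DR 5 → (24 ≤ s.val ∧ pidx s = 2) → ∀ a b : K,
      ⁅C.X K r a, C.X K s b⁆ ∈ C.US K T := by
    intro r s hr hs a b
    obtain ⟨hne, hrev, hterms⟩ := terms_5_2 (r, s) hr.1 hs.1 hr.2 hs.2
    have e := comm.comm_X r s hne hrev a b
    set Pr := ((chevF4.commTerms r.val s.val).map fun c =>
      C.XN K c.1 ((c.2.1 : K) * (-a) ^ c.2.2.1 * b ^ c.2.2.2)).prod
    have hmem : Pr ∈ C.US K T := by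
      refine list_prod_mem fun g hg => ?_
      rw [List.mem_map] at hg
      obtain ⟨c, hc, rfl⟩ := hg
      rcases hterms c hc with h0 | ⟨h48, h⟩
      · rw [F.cast_even h0, zero_mul, zero_mul]
        by_cases h48 : c.1 < chevF4.nroots <;> simp [Core.XN, h48, C.X_zero]
      · exact C.XN_mem_US K (S := T) (q := (⟨c.1, h48⟩ : Rt chevF4)) (h _ rfl) rfl _
    have hA : Commute (C.X K r a) Pr := commute_US F (A := {r}) (B := T)
      (fun p hp q hq => by rw [Set.mem_singleton_iff.1 hp]; exact hcent r hr.1 (Or.inl hr.2) q hq)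
      (C.X_mem_US K (Set.mem_singleton r) a) hmem
    have hB : Commute (C.X K s b) Pr := commute_US F (A := {s}) (B := T)
      (fun p hp q hq => by rw [Set.mem_singleton_iff.1 hp]; exact hcent s hs.1 (Or.inr hs.2) q hq)
      (C.X_mem_US K (Set.mem_singleton s) b) hmem
    set A := C.X K r a
    set Bb := C.X K s b
    rw [show ⁅A, Bb⁆ = A * Bb * (Bb * A)⁻¹ from by rw [commutatorElement_def]; group,
      show Bb * A = A * Bb * Pr from e, mul_inv_rev, ← mul_assoc, ((hA.mul_left hB).inv_right).eq, mul_assoc,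
      mul_inv_cancel, mul_one]
    exact inv_mem hmem
  have hTc : ∀ {v z : GL chevF4.Idx K}, v ∈ C.US K {r | 24 ≤ r.val ∧ (dd (pidx r) = 5 ∨ pidx r = 2)} →
      z ∈ C.US K T → v * z * v⁻¹ = z := fun {v z} hv hz => by
    rw [(commute_US F (fun r hr q hq => hcent r hr.1 hr.2 q hq) hv hz).eq, mul_inv_cancel_right]
  have key : ∀ {v : GL chevF4.Idx K}, v ∈ C.US K (DR 5) → ∀ {z : GL chevF4.Idx K},
      z ∈ C.US K {s | 24 ≤ s.val ∧ pidx s = 2} → ⁅v, z⁆ ∈ C.US K T := by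
    have hsub1 : ∀ {g : GL chevF4.Idx K}, g ∈ C.US K (DR 5) →
        g ∈ C.US K {r | 24 ≤ r.val ∧ (dd (pidx r) = 5 ∨ pidx r = 2)} :=
      fun hg => C.US_mono K (S := DR 5) (T := {r | 24 ≤ r.val ∧ (dd (pidx r) = 5 ∨ pidx r = 2)})
        (fun r hr => ⟨hr.1, Or.inl hr.2⟩) hg
    have hsub2 : ∀ {g : GL chevF4.Idx K}, g ∈ C.US K {s | 24 ≤ s.val ∧ pidx s = 2} →
        g ∈ C.US K {r | 24 ≤ r.val ∧ (dd (pidx r) = 5 ∨ pidx r = 2)} :=
      fun hg => C.US_mono K (S := {s | 24 ≤ s.val ∧ pidx s = 2}) (T := {r | 24 ≤ r.val ∧ (dd (pidx r) = 5 ∨ pidx r = 2)})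
        (fun r hr => ⟨hr.1, Or.inr hr.2⟩) hg
    intro v hv
    induction hv using Subgroup.closure_induction with
    | mem p hp =>
      obtain ⟨r, hr, a, rfl⟩ := hp
      intro z hz
      induction hz using Subgroup.closure_induction with
      | mem q hq => obtain ⟨s, hs, b, rfl⟩ := hq; exact hgenP r s hr hs a b
      | one => rw [commutatorElement_one_right]; exact one_mem _
      | mul p q hp' _ ihp ihq =>
        rw [commutatorElement_mul_right_eq_mul_conj, mul_assoc, mul_assoc, ← mul_assoc p, hTc (hsub2 hp') ihq]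
        exact mul_mem ihp ihq
      | inv p hp' ihp =>
        have h := hTc (inv_mem (hsub2 hp')) (inv_mem ihp)
        rw [show ⁅C.X K r a, p⁻¹⁆ = p⁻¹ * ⁅C.X K r a, p⁆⁻¹ * p⁻¹⁻¹ by
          rw [commutatorElement_def, commutatorElement_def]; group, h]
        exact inv_mem ihp
    | one => intro z _; rw [commutatorElement_one_left]; exact one_mem _
    | mul p q hp' _ ihp ihq =>
      intro z hz
      rw [commutatorElement_mul_left_eq_conj_mul, hTc (hsub1 hp') (ihq hz)]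
      exact mul_mem (ihq hz) (ihp hz)
    | inv p hp' ihp =>
      intro z hz
      have h := hTc (inv_mem (hsub1 hp')) (inv_mem (ihp hz))
      rw [show ⁅p⁻¹, z⁆ = p⁻¹ * ⁅p, z⁆⁻¹ * p⁻¹⁻¹ by
        rw [commutatorElement_def, commutatorElement_def]; group, h]
      exact inv_mem (ihp hz)
  refine (mem_uS (tw F)).2 (key ((mem_uS (tw F)).1 hx) ?_)
  obtain ⟨p1, p2, h1, h2, -⟩ := pidx_rL 2 (by decide)
  rw [φW_pair F (show 2 < 12 by decide) rfl]
  exact mul_mem (C.X_mem_US K (show rL 2 ∈ {s : Rt chevF4 | 24 ≤ s.val ∧ pidx s = 2} from ⟨h1, p1⟩) _)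
    (C.X_mem_US K (show sL 2 ∈ {s : Rt chevF4 | 24 ≤ s.val ∧ pidx s = 2} from ⟨h2, p2⟩) _)

/-- The lifts of the direction of the last layer commute with those of the last layer. -/
theorem special_last {E : Type u} [Group E] {σ : E →* ↥(tw F).W} (hk : σ.ker ≤ Subgroup.center E)
    (hσ : Function.Surjective σ) {w : Kˣ} (hw : w ≠ 1) {x y : E} (hx : σ x ∈ uS (tw F) (DR 5)) {t : K}
    (hy : σ y = φW F 11 t) : Commute x y := by
  obtain ⟨a, ha⟩ := hσ (φW F 2 t)
  obtain ⟨c, hc⟩ := hσ (φW F 10 1)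
  have hk7 := comm_5_2 F hx t
  rw [← ha] at hk7
  set k := ⁅x, a⁆
  have hσk : σ k = ⁅σ x, σ a⁆ := map_commutatorElement σ x a
  have hkD : σ k ∈ uS (tw F) (DR 2) := by
    rw [hσk]
    refine (mem_uS (tw F)).2 (C.US_mono K (S := {q | 24 ≤ q.val ∧ pidx q = 7}) (T := DR 2) (fun q hq => ⟨hq.1, by rw [hq.2]; rfl⟩)
      ((mem_uS (tw F)).1 hk7))
  have hcom5 : ∀ r ∈ DR 5, ∀ s, 24 ≤ s.val → pidx s = 10 → Com2 r s := fun r hr s hs hd =>
    com_layers (r, s) hr.1 hs (Or.inl ⟨hr.2, hd⟩)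
  refine commute_lift_middle hk (a := a) (c := c) (k := k) ?_ ?_ ?_ ?_ ?_
  · rw [hy, ha, hc]; exact last_eq_commutator F t
  · rw [hσk, commutatorElement_def, inv_mul_cancel_right]
  · exact sep_commute F hk hσ hw (show 10 < 12 by decide) rfl (show (5 : ℕ) ≠ dd 10 by decide) hcom5 hx hc
  · exact sep_commute F hk hσ hw (show 10 < 12 by decide) rfl (show (2 : ℕ) ≠ dd 10 by decide)
      (fun r hr s hs hd => com_layers (r, s) hr.1 hs (Or.inr (Or.inl ⟨hr.2, Or.inl hd⟩))) hkD hc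
  · exact sep_commute F hk hσ hw (show 11 < 12 by decide) rfl (show (2 : ℕ) ≠ dd 11 by decide)
      (fun r hr s hs hd => com_layers (r, s) hr.1 hs (Or.inr (Or.inl ⟨hr.2, Or.inr hd⟩))) hkD hy

theorem nS_word (j : ℕ) : ∃ n : ↥(tw F).W, C.Acts (n : GL chevF4.Idx K) (C.pprod (tw5 j)) := by
  have h0 := (tw F).nO_acts (oN F 0)
  have h1 := (tw F).nO_acts (oN F 1)
  unfold tw5
  split_ifs
  · refine ⟨(tw F).nS (oN F 0) * (tw F).nS (oN F 1) * (tw F).nS (oN F 0), ?_⟩
    rw [C.pprod_append, C.pprod_append]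
    exact C.acts_mul K (C.acts_mul K h0 h1) h0
  · refine ⟨(tw F).nS (oN F 0) * (tw F).nS (oN F 1), ?_⟩
    rw [C.pprod_append]
    exact C.acts_mul K h0 h1
  · exact ⟨(tw F).nS (oN F 0), h0⟩
  · exact ⟨1, fun r => ⟨1, fun t => by simp [Core.pprod]⟩⟩

/-- The lifts of a direction of type B₂ commute with those of its second layer. -/
theorem special {E : Type u} [Group E] {σ : E →* ↥(tw F).W} (hk : σ.ker ≤ Subgroup.center E)
    (hσ : Function.Surjective σ) {w : Kˣ} (hw : w ≠ 1) {j : ℕ} (hj : j < 12)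
    (hjs : j = 1 ∨ j = 7 ∨ j = 10 ∨ j = 11) {x y : E} (hx : σ x ∈ uS (tw F) (DR (dd j))) {t : K}
    (hy : σ y = φW F j t) : Commute x y := by
  obtain ⟨n, hn⟩ := nS_word F j
  obtain ⟨e, he⟩ := hσ n
  have hmap : ∀ r : Rt chevF4, 24 ≤ r.val → dd (pidx r) = dd j →
      C.pprod (tw5 j) r ∈ DR 5 ∧ (pidx r = j → pidx (C.pprod (tw5 j) r) = 11) := fun r hr hd => by
    obtain ⟨r', h1, h2, h3, h4⟩ := tw5_spec (⟨j, hj⟩, r) hjs hr hd
    rw [show C.pprod (tw5 j) r = r' from Fin.ext ((Cert.F4.certified.actW_eq _ r).trans h1)]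
    exact ⟨⟨h2, h3⟩, h4⟩
  have hx' : σ (e * x * e⁻¹) ∈ uS (tw F) (DR 5) := by
    rw [map_mul, map_mul, map_inv, he]
    exact conj_uS (tw F) hn (fun r hr => (hmap r hr.1 hr.2).1) _ hx
  have hnj : nx j = j := by rcases hjs with rfl | rfl | rfl | rfl <;> rfl
  obtain ⟨p1, p2, h1, h2, -⟩ := pidx_rL j hj
  have hy' : n * φW F j t * n⁻¹ ∈ uS (tw F) (SR 11) := by
    refine conj_uS (tw F) hn (S := {s | 24 ≤ s.val ∧ pidx s = j}) (fun r hr => ?_) _ ?_
    · obtain ⟨a, b⟩ := hmap r hr.1 (by rw [hr.2])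
      exact ⟨a.1, (b hr.2).ge⟩
    · refine (mem_uS (tw F)).2 ?_
      rw [φW_pair F hj hnj]
      exact mul_mem (C.X_mem_US K (show rL j ∈ {s : Rt chevF4 | 24 ≤ s.val ∧ pidx s = j} from ⟨h1, p1⟩) _)
        (C.X_mem_US K (show sL j ∈ {s : Rt chevF4 | 24 ≤ s.val ∧ pidx s = j} from ⟨h2, p2⟩) _)
  obtain ⟨t', ht'⟩ := φW_last F hy'
  have h := special_last F hk hσ hw hx' (y := e * y * e⁻¹) (t := t') (by
    rw [map_mul, map_mul, map_inv, he, hy, ht'])
  have h' := h.eq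
  rw [show e * x * e⁻¹ * (e * y * e⁻¹) = e * (x * y) * e⁻¹ by group,
    show e * y * e⁻¹ * (e * x * e⁻¹) = e * (y * x) * e⁻¹ by group] at h'
  exact mul_left_cancel (mul_right_cancel h')

/-- U¹ lifts through every central extension. -/
theorem exists_complement_U (h8 : 8 ≤ Fintype.card K) {E : Type u} [Group E] (σ : E →* ↥(tw F).W)
    (hk : σ.ker ≤ Subgroup.center E) (hσ : Function.Surjective σ) :
    ∃ Y : Subgroup E, Y.map σ = uS (tw F) C.Pos ∧ Y ⊓ σ.ker = ⊥ := by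
  obtain ⟨w, hw⟩ := exists_unit_ne_one F h8
  refine (layers F h8).exists_complement σ hk hσ fun j hj i => ?_
  by_cases hi : i.val = dd j
  · rcases second_cases j hj with hfirst | hjs
    · refine Or.inl (Or.inr fun g hg => (mem_uS (tw F)).2 ?_)
      exact C.US_mono K (S := DR i.val) (T := SR j) (fun r hr => ⟨hr.1, hfirst r hr.1 (hr.2.trans hi)⟩)
        ((mem_uS (tw F)).1 hg)
    · refine Or.inr fun x y hx ⟨t, hy⟩ => ?_
      change σ x ∈ uS (tw F) (DR i.val) at hx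
      rw [hi] at hx
      exact special F hk hσ hw hj hjs hx hy
  · exact Or.inl (Or.inl ⟨hW F (dd j) w, hW_tor F _ w, hW_centralises F hj w,
      hdec F (dd_lt j hj) hi hw⟩)

end Cfsg.Agent.Lib.TwMult.F4
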