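import Cfsg.Agent.Lib.TwMult.Split
import Cfsg.Agent.Lib.Schur.Fusion

/-!
Complements over perfect subgroups whose multiplier has no part at the primes of the kernel, and the
reduction of a stem extension to a kernel of prime power order.
-/

set_option autoImplicit false
set_option linter.unusedSectionVars false

namespace Cfsg.Agent.Lib.TwMult

open Subgroup
open scoped commutatorElement

universe u

/-- No stem extension of `X` has a kernel element of order `p`. -/
def NoPart (p : ℕ) (X : Type u) [Group X] : Prop :=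
  ∀ (Γ : Type u) [Group Γ] [Finite Γ] (σ : Γ →* X), Cfsg.IsStemExtension σ → ∀ z ∈ σ.ker, z ^ p = 1 → z = 1

theorem NoPart.of_equiv {p : ℕ} {X Y : Type u} [Group X] [Group Y] (e : X ≃* Y) (h : NoPart p X) : NoPart p Y := by
  intro Γ _ _ σ hσ z hz hzp
  have hk : (e.symm.toMonoidHom.comp σ).ker = σ.ker := by
    ext x; simp [MonoidHom.mem_ker]
  exact h Γ (e.symm.toMonoidHom.comp σ) ⟨e.symm.surjective.comp hσ.1, hk ▸ hσ.2.1, hk ▸ hσ.2.2⟩ z (hk ▸ hz) hzp

theorem NoPart.of_killsPart {p : ℕ} (hp : p.Prime) {X : Type u} [Group X]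
    (h : ∃ P : Subgroup X, ¬ p ∣ P.index ∧ Schur.Fusion.KillsPart p P) : NoPart p X := by
  intro Γ _ _ σ hσ z hz hzp
  obtain ⟨P, hP, hk⟩ := h
  exact Schur.Fusion.eq_one_of_killsPart hσ hp hP hk hz hzp

/-- A central extension with a kernel of `p`-power order splits over a perfect subgroup without `p`-part. -/
theorem exists_comp_perfect {G : Type u} [Group G] {E : Type u} [Group E] [Finite E] {σ : E →* G}
    (hk : σ.ker ≤ center E) (hσ : Function.Surjective σ) {p : ℕ} (hp : p.Prime)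
    (hker : ∃ n, Nat.card σ.ker = p ^ n) (X : Subgroup G) (hperf : commutator ↥X = ⊤) (hno : NoPart p ↥X) :
    ∃ T : Subgroup E, IsComp σ X T := by
  haveI := Fact.mk hp
  set P : Subgroup E := X.comap σ
  set T₀ : Subgroup ↥P := commutator ↥P
  let f : ↥P →* ↥X := σ.subgroupComap X
  have hfker : f.ker ≤ center ↥P := fun x hx => mem_center_iff.2 fun y =>
    Subtype.ext (mem_center_iff.1 (hk (show (x : E) ∈ σ.ker from congrArg Subtype.val (MonoidHom.mem_ker.1 hx))) y)
  have hf : Function.Surjective f := fun g => by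
    obtain ⟨x, hx⟩ := hσ g.1
    exact ⟨⟨x, mem_comap.2 (hx.symm ▸ g.2)⟩, Subtype.ext hx⟩
  have hmap : T₀.map f = ⊤ := by
    rw [show T₀ = ⁅(⊤ : Subgroup ↥P), ⊤⁆ from commutator_def _, map_commutator, ← MonoidHom.range_eq_map, MonoidHom.range_eq_top.2 hf, ← commutator_def,
      hperf]
  let g : ↥T₀ →* ↥X := f.comp T₀.subtype
  have hg : Function.Surjective g := fun x => by
    obtain ⟨y, hy, rfl⟩ : x ∈ T₀.map f := hmap ▸ mem_top x
    exact ⟨⟨y, hy⟩, rfl⟩
  have hgker : g.ker ≤ center ↥T₀ := fun x hx => mem_center_iff.2 fun y =>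
    Subtype.ext (mem_center_iff.1 (hfker hx) y)
  have hT₀ : T₀ = ⁅T₀, T₀⁆ := by
    refine le_antisymm ?_ (commutator_mono le_top le_top)
    have htop : (⊤ : Subgroup ↥P) = T₀ ⊔ f.ker := by
      rw [← comap_map_eq, hmap, comap_top]
    conv_lhs => rw [show T₀ = ⁅(⊤ : Subgroup ↥P), ⊤⁆ from commutator_def _, htop]
    rw [commutator_le]
    intro a ha b hb
    obtain ⟨a₁, ha₁, a₂, ha₂, rfl⟩ := mem_sup_of_normal_right.1 ha
    obtain ⟨b₁, hb₁, b₂, hb₂, rfl⟩ := mem_sup_of_normal_right.1 hb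
    rw [Schur.Fusion.commutator_congr hfker (a' := a₁) (b' := b₁)
      (by rw [map_mul, MonoidHom.mem_ker.1 ha₂, mul_one]) (by rw [map_mul, MonoidHom.mem_ker.1 hb₂, mul_one])]
    exact commutator_mem_commutator ha₁ hb₁
  have hperf₀ : commutator ↥T₀ = ⊤ := by
    apply map_injective T₀.subtype_injective
    rw [map_subtype_commutator, ← MonoidHom.range_eq_map, range_subtype, ← hT₀]
  have hst : Cfsg.IsStemExtension g := ⟨hg, hgker, by rw [hperf₀]; exact le_top⟩
  obtain ⟨n, hn⟩ := hker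
  have htriv : g.ker = ⊥ := by
    by_contra hne
    have hne1 : Nat.card g.ker ≠ 1 := fun h => hne (card_eq_one.1 h)
    let ι : ↥g.ker →* ↥σ.ker :=
      (P.subtype.comp (T₀.subtype.comp g.ker.subtype)).codRestrict _ fun x => by
        have h := congrArg Subtype.val (MonoidHom.mem_ker.1 x.2)
        exact MonoidHom.mem_ker.2 h
    have hι : Function.Injective ι := fun a b h =>
      Subtype.ext (Subtype.ext (Subtype.ext (congrArg (fun x : ↥σ.ker => (x : E)) h :)))
    have hdvd : Nat.card g.ker ∣ p ^ n := hn ▸ card_dvd_of_injective ι hι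
    obtain ⟨k, -, hk'⟩ := (Nat.dvd_prime_pow hp).1 hdvd
    have hk0 : k ≠ 0 := fun h => hne1 (by rw [hk', h, pow_zero])
    obtain ⟨w, hw⟩ := exists_prime_orderOf_dvd_card' (G := g.ker) p (by rw [hk']; exact dvd_pow_self p hk0)
    have := hno ↥T₀ g hst w w.2 (by rw [← coe_pow, ← hw, pow_orderOf_eq_one, coe_one])
    rw [show w = 1 from Subtype.ext this, orderOf_one] at hw
    exact hp.ne_one hw.symm
  refine ⟨T₀.map P.subtype, ?_, ?_⟩
  · refine le_antisymm ?_ fun x hx => ?_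
    · rintro _ ⟨_, ⟨y, -, rfl⟩, rfl⟩
      exact y.2
    · obtain ⟨y, hy, e⟩ : (⟨x, hx⟩ : ↥X) ∈ T₀.map f := hmap ▸ mem_top _
      exact ⟨_, mem_map_of_mem _ hy, congrArg Subtype.val e⟩
  · rw [eq_bot_iff]
    rintro _ ⟨⟨y, hy, rfl⟩, hy1⟩
    have : (⟨y, hy⟩ : ↥T₀) ∈ g.ker := MonoidHom.mem_ker.2 (Subtype.ext hy1)
    rw [htriv, mem_bot] at this
    rw [mem_bot, show y = 1 from congrArg Subtype.val this, map_one]

/-- A complement over the whole group kills a stem extension. -/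
theorem ker_eq_bot_of_comp {G : Type u} [Group G] {E : Type u} [Group E] {σ : E →* G}
    (hσ : Cfsg.IsStemExtension σ) {T : Subgroup E} (hT : IsComp σ ⊤ T) : σ.ker = ⊥ := by
  have hd : commutator E ≤ T := by
    rw [commutator_def, commutator_le]
    intro a _ b _
    obtain ⟨a', ha', ea⟩ := hT.exists_mem (mem_top (σ a))
    obtain ⟨b', hb', eb⟩ := hT.exists_mem (mem_top (σ b))
    rw [Schur.Fusion.commutator_congr hσ.2.1 ea.symm eb.symm, commutatorElement_def]
    exact mul_mem (mul_mem (mul_mem ha' hb') (inv_mem ha')) (inv_mem hb')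
  rw [eq_bot_iff, ← hT.2]
  exact fun z hz => mem_inf.2 ⟨hd (hσ.2.2 hz), hz⟩

/-- The absence of `p`-part follows from complements for the extensions with kernels of `p`-power order. -/
theorem NoPart.of_comp {p : ℕ} (hp : p.Prime) {G : Type u} [Group G]
    (h : ∀ (E : Type u) [Group E] [Finite E] (τ : E →* G), τ.ker ≤ center E → Function.Surjective τ →
      (∃ n, Nat.card τ.ker = p ^ n) → ∃ T : Subgroup E, IsComp τ ⊤ T) : NoPart p G := by
  haveI := Fact.mk hp
  intro Γ _ _ σ hσ z hz hzp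
  set M : Subgroup Γ :=
    { carrier := {x | x ∈ σ.ker ∧ (orderOf x).Coprime p}
      one_mem' := ⟨one_mem _, by simp⟩
      mul_mem' := fun {a b} ha hb => ⟨mul_mem ha.1 hb.1, Nat.Coprime.coprime_dvd_left
        (Commute.orderOf_mul_dvd_mul_orderOf (show Commute a b from (mem_center_iff.1 (hσ.2.1 hb.1) a)))
        (Nat.Coprime.mul_left ha.2 hb.2)⟩
      inv_mem' := fun {a} ha => ⟨inv_mem ha.1, by rw [orderOf_inv]; exact ha.2⟩ } with hM
  haveI : M.Normal := ⟨fun x hx g => by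
    rw [mem_center_iff.1 (hσ.2.1 hx.1) g, mul_inv_cancel_right]; exact hx⟩
  have hMk : M ≤ σ.ker := fun x hx => hx.1
  let τ : Γ ⧸ M →* G := QuotientGroup.lift M σ hMk
  have hτs : Function.Surjective τ := fun g => by
    obtain ⟨x, rfl⟩ := hσ.1 g; exact ⟨QuotientGroup.mk' M x, rfl⟩
  have hkereq : τ.ker = σ.ker.map (QuotientGroup.mk' M) := by
    ext x
    obtain ⟨x, rfl⟩ := QuotientGroup.mk'_surjective M x
    refine ⟨fun hx => ⟨x, hx, rfl⟩, fun ⟨y, hy, e⟩ => ?_⟩
    rw [← e]; exact hy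
  have hτk : τ.ker ≤ center (Γ ⧸ M) := by
    rw [hkereq]
    rintro _ ⟨x, hx, rfl⟩
    refine mem_center_iff.2 fun y => ?_
    obtain ⟨y, rfl⟩ := QuotientGroup.mk'_surjective M y
    rw [← map_mul, ← map_mul, mem_center_iff.1 (hσ.2.1 hx) y]
  have hτd : τ.ker ≤ commutator (Γ ⧸ M) := by
    rw [hkereq]
    refine (map_mono hσ.2.2).trans ?_
    rw [commutator_def, map_commutator]
    exact commutator_mono le_top le_top
  have hpow : IsPGroup p τ.ker := by
    rw [IsPGroup.iff_card]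
    refine ⟨_, Nat.eq_prime_pow_of_unique_prime_dvd Nat.card_pos.ne' fun {r} hr hrd => ?_⟩
    by_contra hne
    haveI := Fact.mk hr
    obtain ⟨w, hw⟩ := exists_prime_orderOf_dvd_card' (G := τ.ker) r hrd
    obtain ⟨x, hx, ex⟩ : (w : Γ ⧸ M) ∈ σ.ker.map (QuotientGroup.mk' M) := hkereq ▸ w.2
    obtain ⟨k, c, hc, he⟩ : ∃ k c, c.Coprime p ∧ orderOf x = p ^ k * c := by
      obtain ⟨k, c, hc, he⟩ := Nat.exists_eq_pow_mul_and_not_dvd (orderOf_pos x).ne' p hp.ne_one
      exact ⟨k, c, ((hp.coprime_iff_not_dvd).2 hc).symm, he⟩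
    have hxM : x ^ p ^ k ∈ M := by
      refine ⟨pow_mem hx _, ?_⟩
      rw [orderOf_pow, he, Nat.gcd_mul_right_left, Nat.mul_div_cancel_left _ (pow_pos hp.pos k)]
      exact hc
    have h1 : w ^ p ^ k = 1 := by
      refine Subtype.ext ?_
      rw [coe_pow, ← ex, ← map_pow, coe_one]
      exact (QuotientGroup.eq_one_iff _).2 hxM
    have h2 := orderOf_dvd_of_pow_eq_one h1
    rw [hw] at h2
    exact hne ((Nat.prime_dvd_prime_iff_eq hr hp).1 (hr.dvd_of_dvd_pow h2))
  obtain ⟨n, hn⟩ := IsPGroup.iff_card.1 hpow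
  obtain ⟨T, hT⟩ := h (Γ ⧸ M) τ hτk hτs ⟨n, hn⟩
  have hbot := ker_eq_bot_of_comp ⟨hτs, hτk, hτd⟩ hT
  have hzM : z ∈ M := by
    rw [← QuotientGroup.ker_mk' M, MonoidHom.mem_ker, ← mem_bot, ← hbot]
    exact MonoidHom.mem_ker.2 hz
  have h2 := orderOf_dvd_of_pow_eq_one hzp
  exact orderOf_eq_one_iff.1 (Nat.Coprime.eq_one_of_dvd hzM.2 h2)

end Cfsg.Agent.Lib.TwMult
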