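import Cfsg.Agent.Lib.TwMult.F4Iso
import Cfsg.Agent.Lib.TwMult.Perfect
import Cfsg.Agent.Lib.SzMultiplier.Odd
import Cfsg.Agent.Lib.Multiplier.Sylow
import Cfsg.Agent.S2117

/-!
²F₄ as a split (B,N)-pair of rank two with simply connected groups of rank one.
-/

set_option autoImplicit false
set_option maxRecDepth 100000
set_option linter.unusedSectionVars false

namespace Cfsg.Agent.Lib.TwMult.F4

open Cfsg.Lie
open Cfsg.Agent.Lib.ChevStructure Cfsg.Agent.Lib.LieTwisted.Twist Cfsg.Agent.Lib.LieTwisted.Twist.F4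
open Cfsg.Agent.Lib.LieTwisted Cfsg.Agent.Lib.LieTwisted.Suzuki
open scoped MatrixGroups Matrix

universe u

/-- The word of a power of the product of the two twisted reflections. -/
def Wj : ℕ → List (Fin chevF4.rank)
  | 0 => []
  | j + 1 => Wj j ++ (Jw 0 ++ Jw 1)

theorem pprod_Wj : ∀ j, C.pprod (Wj j) = (C.pprod (Jw 0) * C.pprod (Jw 1)) ^ j
  | 0 => by simp [Wj, Core.pprod]
  | j + 1 => by rw [Wj, C.pprod_append, C.pprod_append, pprod_Wj j, pow_succ]

theorem pprod_ne_one {L : List (Fin chevF4.rank)}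
    (h : ∃ r : Rt chevF4, Data.F4.fast.actW (L.map Fin.val) r.val ≠ r.val) : C.pprod L ≠ 1 := by
  obtain ⟨r, hr⟩ := h
  intro e
  have h1 := Cert.F4.certified.actW_eq L r
  change (C.pprod L r).val = _ at h1
  rw [e] at h1
  exact hr h1.symm

variable {K : Type u} [Field K] [Fintype K] {θ : K ≃+* K} {e : ℕ} (F : Th θ e)

include F

/-- The data of rank two. -/
noncomputable def rankTwo {m : ℕ} (hm : 1 ≤ m) (hS : IsSzField K m) (hsg : ∀ x : K, sg m x = θ x ^ 2) :
    RankTwo (tw F) where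
  e := oN F
  hL := nS_mem F
  k := 4
  k_pos := by decide
  perm := by
    have key : ∀ r ∈ Jr 1, ∃ r' ∈ Jr 1, Data.F4.fast.actW ((Wj 3 ++ Jw 0).map Fin.val) r.val = r'.val := by
      decide +kernel
    intro r hr
    change r ∈ C.inv' (C.pprod (Jw 1)) at hr
    show ((C.pprod (Jw 0) * C.pprod (Jw 1)) ^ 3 * C.pprod (Jw 0)) r ∈ C.inv' (C.pprod (Jw 1))
    rw [← pprod_Wj, ← C.pprod_append]
    rw [inv'_Jw] at hr ⊢
    obtain ⟨r', hr', e'⟩ := key r hr
    rw [show C.pprod (Wj 3 ++ Jw 0) r = r' from Fin.ext ((Cert.F4.certified.actW_eq _ r).trans e')]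
    exact hr'
  comm := by
    have key : ∀ r : Rt chevF4, Data.F4.fast.actW ((Wj 3 ++ Jw 0 ++ Jw 1).map Fin.val) r.val =
        Data.F4.fast.actW ((Jw 1 ++ (Wj 3 ++ Jw 0)).map Fin.val) r.val := by decide +kernel
    show Commute ((C.pprod (Jw 0) * C.pprod (Jw 1)) ^ 3 * C.pprod (Jw 0)) (C.pprod (Jw 1))
    rw [← pprod_Wj, ← C.pprod_append, Commute, SemiconjBy, ← C.pprod_append, ← C.pprod_append]
    exact Equiv.ext fun r => Fin.ext (((Cert.F4.certified.actW_eq _ r).trans (key r)).trans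
      (Cert.F4.certified.actW_eq _ r).symm)
  inj1 j h0 hj := by
    have key : ∀ j < 8, 0 < j → ∃ r : Rt chevF4, Data.F4.fast.actW ((Wj j).map Fin.val) r.val ≠ r.val := by
      decide +kernel
    show (C.pprod (Jw 0) * C.pprod (Jw 1)) ^ j ≠ 1
    rw [← pprod_Wj]
    exact pprod_ne_one (key j hj h0)
  inj2 j hj := by
    have key : ∀ j < 8, ∃ r : Rt chevF4,
        Data.F4.fast.actW ((Wj j ++ Jw 0).map Fin.val) r.val ≠ r.val := by decide +kernel
    show (C.pprod (Jw 0) * C.pprod (Jw 1)) ^ j * C.pprod (Jw 0) ≠ 1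
    rw [← pprod_Wj, ← C.pprod_append]
    exact pprod_ne_one (key j hj)
  indep := indep F hm hS hsg
  top := top_eq F

omit F

theorem noPart_sz {m : ℕ} (hm1 : 1 ≤ m) (h : IsSzField K m) {r : ℕ} (hr : r.Prime) (hr2 : r ≠ 2) :
    NoPart r ↥(Cfsg.Sz K m) := by
  classical
  haveI : Fact r.Prime := ⟨hr⟩
  refine NoPart.of_killsPart hr ?_
  by_cases hq : r ∣ Fintype.card K ^ 2 + 1
  · obtain ⟨S⟩ : Nonempty (Sylow r (Cfsg.Sz K m)) := inferInstance
    haveI := SzMultiplier.Odd.sylow_cyclic h hr2 hq S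
    obtain ⟨g, hg⟩ := (Subgroup.isCyclic_iff_exists_zpowers_eq_top _).1 this
    exact ⟨S, S.not_dvd_index, hg ▸ Schur.Fusion.killsPart_zpowers r g⟩
  have hrq : ¬ r ∣ Fintype.card K := fun e => by
    rw [h.card] at e
    exact hr2 ((Nat.prime_dvd_prime_iff_eq hr Nat.prime_two).1 (hr.dvd_of_dvd_pow e))
  haveI : IsCyclic (dS h).range :=
    isCyclic_of_surjective (dS h).rangeRestrict (MonoidHom.rangeRestrict_surjective _)
  obtain ⟨g, hg⟩ := (Subgroup.isCyclic_iff_exists_zpowers_eq_top _).1 (inferInstance : IsCyclic (dS h).range)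
  refine ⟨(dS h).range, ?_, hg ▸ Schur.Fusion.killsPart_zpowers r g⟩
  have hcard : Nat.card (dS h).range = Fintype.card K - 1 := by
    rw [Nat.card_congr (MonoidHom.ofInjective h.dS_injective).toEquiv.symm, Nat.card_eq_fintype_card,
      Fintype.card_units]
  have hidx : (dS h).range.index = Fintype.card K ^ 2 * (Fintype.card K ^ 2 + 1) := by
    have h1 := (dS h).range.card_mul_index
    rw [hcard, h.card_group hm1, mul_comm] at h1
    exact mul_right_cancel₀ (by have := h.two_lt_card hm1; omega) h1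
  rw [hidx]
  intro e
  rcases hr.dvd_mul.1 e with e | e
  · exact hrq (hr.dvd_of_dvd_pow e)
  · exact hq e

theorem noPart_sl2 {m : ℕ} (hK : Fintype.card K = 2 ^ (2 * m + 1)) (r : ℕ) : NoPart r SL(2, K) := by
  intro Γ _ _ σ hσ z hz _
  have h4 : Fintype.card K ≠ 4 := fun h => by
    rw [hK, show 4 = 2 ^ 2 from rfl] at h
    exact absurd (Nat.pow_right_injective le_rfl h) (by omega)
  have h9 : Fintype.card K ≠ 9 := fun h => by
    rw [hK] at h
    have : 2 ∣ 2 ^ (2 * m + 1) := dvd_pow_self 2 (by omega)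
    omega
  have := Multiplier.hasCyclicSchurMultiplier_one_iff.1 (Cfsg.Agent.S2117.result h4 h9) Γ σ hσ
  rwa [this, Subgroup.mem_bot] at hz

theorem perfect_of_equiv {X Y : Type*} [Group X] [Group Y] (f : X ≃* Y) (h : commutator Y = ⊤) :
    commutator X = ⊤ := by
  apply Subgroup.map_injective (f := f.toMonoidHom) f.injective
  rw [commutator_def, Subgroup.map_commutator, Subgroup.map_top_of_surjective _ f.surjective, ← commutator_def, h]

include F

/-- Complements over the groups of rank one in extensions with kernels of odd prime power order. -/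
theorem exists_comp_rankOne {m : ℕ} (hm : 1 ≤ m) (hK : Fintype.card K = 2 ^ (2 * m + 1))
    (hsg : ∀ x : K, sg m x = θ x ^ 2) {p : ℕ} (hp : p.Prime) (hp2 : p ≠ 2)
    {E : Type u} [Group E] [Finite E] {σ : E →* ↥(tw F).W} (hk : σ.ker ≤ Subgroup.center E)
    (hσ : Function.Surjective σ) (hker : ∃ n, Nat.card σ.ker = p ^ n) (i : Fin 2) :
    ∃ T : Subgroup E, IsComp σ (rankOne (tw F) (oN F i)) T := by
  have hq4 : 4 ≤ Nat.card K := by
    rw [Nat.card_eq_fintype_card, hK]
    calc 4 = 2 ^ 2 := rfl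
      _ ≤ _ := Nat.pow_le_pow_right (by norm_num) (by omega)
  fin_cases i
  · exact exists_comp_perfect hk hσ hp hker _
      (perfect_of_equiv (iso0 F) (Linear.commutator_SL_eq_top le_rfl fun _ => hq4))
      ((noPart_sl2 hK p).of_equiv (iso0 F).symm)
  · exact exists_comp_perfect hk hσ hp hker _
      (perfect_of_equiv (iso1 F hm ⟨hK⟩ hsg) ((⟨hK⟩ : IsSzField K m).perfect hm))
      ((noPart_sz hm ⟨hK⟩ hp hp2).of_equiv (iso1 F hm ⟨hK⟩ hsg).symm)

end Cfsg.Agent.Lib.TwMult.F4
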