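import Cfsg.Agent.Lib.TwMult.F4SeriesData

/-!
A central series of the group U¹ of ²F₄ with twelve one-dimensional layers, each given by an orbit
of roots.
-/

set_option autoImplicit false
set_option maxRecDepth 100000
set_option linter.unusedSectionVars false

namespace Cfsg.Agent.Lib.TwMult.F4

open Cfsg.Lie
open Cfsg.Agent.Lib.ChevStructure Cfsg.Agent.Lib.LieTwisted.Twist Cfsg.Agent.Lib.LieTwisted.Twist.F4
open scoped MatrixGroups commutatorElement

universe u

/-- A combination of positive roots has bounded coefficients and is seen by the linear coordinate. -/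
theorem combo_code {r s q : Rt chevF4} (hr : 24 ≤ r.val) (hs : 24 ≤ s.val) {i j : ℕ} (hj : 1 ≤ j)
    (hv : C.v q = (i : ℤ) • C.v r + (j : ℤ) • C.v s) :
    24 ≤ q.val ∧ i < 5 ∧ j < 5 ∧ code q = (i : ℤ) * code r + (j : ℤ) * code s := by
  have hv' : ∀ k, Data.F4.fast.v q.val k = (i : ℤ) * Data.F4.fast.v r.val k + (j : ℤ) * Data.F4.fast.v s.val k
      ∨ 4 ≤ k := fun k => by
    by_cases hk : k < 4
    · left
      have := congrFun hv ⟨k, hk⟩
      simpa [v_eq, smul_eq_mul] using this
    · right; omega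
  have hq : 24 ≤ q.val := (pos_iff24 q).1 (comm.pos_closed ((pos_iff24 r).2 hr) ((pos_iff24 s).2 hs) hj hv)
  obtain ⟨⟨k, hk⟩, hqk⟩ := bound_pos r hr
  obtain ⟨⟨k', hk'⟩, -⟩ := bound_pos s hs
  have hnn : ∀ {x : Rt chevF4}, 24 ≤ x.val → ∀ k, 0 ≤ Data.F4.fast.v x.val k ∨ 4 ≤ k := fun {x} hx k => by
    by_cases hk : k < 4
    · exact Or.inl (C.v_nonneg ((pos_iff24 x).2 hx) ⟨k, hk⟩)
    · right; omega
  refine ⟨hq, ?_, ?_, ?_⟩
  · have h1 := (hv' k.val).resolve_right (by have : k.val < 4 := k.isLt; omega)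
    have h2 := (hnn hs k.val).resolve_right (by have : k.val < 4 := k.isLt; omega)
    have h3 := (bound_pos q hq).2 k
    nlinarith
  · have h1 := (hv' k'.val).resolve_right (by have : k'.val < 4 := k'.isLt; omega)
    have h2 := (hnn hr k'.val).resolve_right (by have : k'.val < 4 := k'.isLt; omega)
    have h3 := (bound_pos q hq).2 k'
    nlinarith
  · simp only [code, (hv' 0).resolve_right (by omega), (hv' 1).resolve_right (by omega),
      (hv' 2).resolve_right (by omega), (hv' 3).resolve_right (by omega)]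
    ring

theorem LR_closed (n : ℕ) : ∀ r ∈ LR n, ∀ s ∈ LR n, ∀ (q : Rt chevF4) (i j : ℕ), 1 ≤ i → 1 ≤ j →
    C.v q = (i : ℤ) • C.v r + (j : ℤ) • C.v s → q ∈ LR n := by
  intro r hr s hs q i j hi hj hv
  rw [mem_LR] at hr hs ⊢
  obtain ⟨hq, hi5, hj5, hcode⟩ := combo_code hr.1 hs.1 hj hv
  have hr48 : r.val < 48 := r.isLt
  have hs48 : s.val < 48 := s.isLt
  have hq48 : q.val < 48 := q.isLt
  have h := code_closed ((⟨r.val - 24, by omega⟩, ⟨s.val - 24, by omega⟩), ⟨q.val - 24, by omega⟩)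
    ⟨i, hi5⟩ ⟨j, hj5⟩ hi hj
  have er : (⟨r.val - 24 + 24, by omega⟩ : Rt chevF4) = r := Fin.ext (Nat.sub_add_cancel hr.1)
  have es : (⟨s.val - 24 + 24, by omega⟩ : Rt chevF4) = s := Fin.ext (Nat.sub_add_cancel hs.1)
  have eq' : (⟨q.val - 24 + 24, by omega⟩ : Rt chevF4) = q := Fin.ext (Nat.sub_add_cancel hq)
  simp only [er, es, eq'] at h
  exact ⟨hq, (le_min hr.2 hs.2).trans (h hcode)⟩

variable {K : Type u} [Field K] {θ : K ≃+* K} {e : ℕ} (F : Th θ e)

include F

/-- Root elements of positive roots conjugate the group of a layer into itself, and move it only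
inside later layers. -/
theorem conj_X (j : ℕ) {r q : Rt chevF4} (hr : 24 ≤ r.val) (hq : q ∈ SR j) (t u : K) :
    (C.X K q u)⁻¹ * ((C.X K r t)⁻¹ * C.X K q u * C.X K r t) ∈ C.US K (SR (j + 1)) := by
  by_cases hrq : q = r
  · subst hrq
    rw [C.X_inv, C.X_inv, C.X_add, C.X_add, C.X_add, show -u + (-t + u + t) = 0 by ring, C.X_zero]
    exact one_mem _
  have hrev : q ≠ r.rev := fun h => by
    have h1 := C.ht_pos ((pos_iff24 q).2 hq.1)
    have h2 := C.ht_pos ((pos_iff24 r).2 hr)
    rw [h, C.ht_rev] at h1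
    omega
  have e := comm.comm_X r q hrq hrev t u
  rw [show (C.X K r t)⁻¹ * C.X K q u * C.X K r t = (C.X K r t)⁻¹ * (C.X K q u * C.X K r t) from mul_assoc _ _ _, e,
    mul_assoc (C.X K r t), inv_mul_cancel_left, inv_mul_cancel_left]
  refine list_prod_mem fun g hg => ?_
  rw [List.mem_map] at hg
  obtain ⟨c, hc, rfl⟩ := hg
  rcases terms_later (r, q) hr hq.1 (Ne.symm hrq) c hc with h0 | ⟨h48, h⟩
  · rw [F.cast_even h0, zero_mul, zero_mul]
    by_cases h48 : c.1 < chevF4.nroots <;> simp [Core.XN, h48, C.X_zero]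
  · obtain ⟨h1, h2⟩ := h (⟨c.1, h48⟩ : Rt chevF4) rfl
    exact C.XN_mem_US K (S := SR (j + 1)) (q := (⟨c.1, h48⟩ : Rt chevF4)) ⟨h1, Nat.succ_le_of_lt (lt_of_le_of_lt (hq.2.trans (le_max_right _ _)) h2)⟩ rfl _

theorem pos_le_normalizer (n : ℕ) :
    C.US K C.Pos ≤ Subgroup.normalizer (C.US K (SR n) : Set (GL chevF4.Idx K)) := by
  refine (Subgroup.closure_le _).2 ?_
  rintro x ⟨r, hr, t, rfl⟩
  have key : ∀ t : K, ∀ g ∈ C.US K (SR n), (C.X K r t)⁻¹ * g * C.X K r t ∈ C.US K (SR n) := by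
    intro t g hg
    have hle : C.US K (SR n) ≤ (C.US K (SR n)).comap (MulAut.conj (C.X K r t)⁻¹).toMonoidHom := by
      refine (Subgroup.closure_le _).2 ?_
      rintro y ⟨q, hq, u, rfl⟩
      have h := mul_mem (C.X_mem_US K hq u)
        (C.US_mono K (SR_anti (Nat.le_succ n)) (conj_X F n ((pos_iff24 r).1 hr) hq t u))
      rw [mul_inv_cancel_left] at h
      show (C.X K r t)⁻¹ * C.X K q u * (C.X K r t)⁻¹⁻¹ ∈ C.US K (SR n)
      rwa [inv_inv]
    have := hle hg
    rwa [Subgroup.mem_comap, MulEquiv.coe_toMonoidHom, MulAut.conj_apply, inv_inv] at this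
  refine Subgroup.mem_normalizer_iff.2 fun g => ⟨fun hg => ?_, fun hg => ?_⟩
  · have h := key (-t) g hg
    rwa [← C.X_inv, inv_inv] at h
  · have h := key t _ hg
    rwa [show (C.X K r t)⁻¹ * (C.X K r t * g * (C.X K r t)⁻¹) * C.X K r t = g by group] at h

theorem conj_mem_SR (n : ℕ) {v w : GL chevF4.Idx K} (hv : v ∈ C.US K C.Pos) (hw : w ∈ C.US K (SR n)) :
    v * w * v⁻¹ ∈ C.US K (SR n) :=
  (Subgroup.mem_normalizer_iff.1 (pos_le_normalizer F n hv) w).1 hw

/-- The commutator with a layer lies in the later layers. -/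
theorem comm_mem (n : ℕ) {v : GL chevF4.Idx K} (hv : v ∈ C.US K C.Pos) :
    ∀ {w : GL chevF4.Idx K}, w ∈ C.US K (SR n) → ⁅v, w⁆ ∈ C.US K (SR (n + 1)) := by
  induction hv using Subgroup.closure_induction with
  | mem x hx =>
    intro w hw
    obtain ⟨r, hr, t, rfl⟩ := hx
    induction hw using Subgroup.closure_induction with
    | mem y hy =>
      obtain ⟨q, hq, u, rfl⟩ := hy
      have h := conj_X F n ((pos_iff24 r).1 hr) hq (-t) u
      rw [← C.X_inv, inv_inv] at h
      have := conj_mem_SR F (n + 1) (C.US_mono K (SR_pos n) (C.X_mem_US K hq u)) h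
      convert this using 1
      rw [commutatorElement_def]; group
    | one => rw [commutatorElement_one_right]; exact one_mem _
    | mul a b ha _ iha ihb =>
      rw [commutatorElement_mul_right_eq_mul_conj, mul_assoc, mul_assoc, ← mul_assoc a]
      exact mul_mem iha (conj_mem_SR F (n + 1) (C.US_mono K (SR_pos n) ha) ihb)
    | inv a ha iha =>
      have := conj_mem_SR F (n + 1) (inv_mem (C.US_mono K (SR_pos n) ha)) (inv_mem iha)
      convert this using 1
      rw [commutatorElement_def, commutatorElement_def]; group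
  | one => intro w _; rw [commutatorElement_one_left]; exact one_mem _
  | mul a b ha _ iha ihb =>
    intro w hw
    rw [commutatorElement_mul_left_eq_conj_mul]
    exact mul_mem (conj_mem_SR F (n + 1) ha (ihb hw)) (iha hw)
  | inv a ha iha =>
    intro w hw
    have := conj_mem_SR F (n + 1) (inv_mem ha) (inv_mem (iha hw))
    convert this using 1
    rw [commutatorElement_def, commutatorElement_def]; group

omit F

/-- The element with given coordinates in a layer. -/
noncomputable def co (j : ℕ) (a b : K) : GL chevF4.Idx K := C.X K (rL j) a * C.X K (sL j) b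

theorem X_rL_mem {j : ℕ} (hj : j < 12) (a : K) : C.X K (rL j) a ∈ C.US K (SR j) :=
  C.X_mem_US K (S := SR j) ⟨(pidx_rL j hj).2.2.1, (pidx_rL j hj).1.ge⟩ a

theorem X_sL_mem {j : ℕ} (hj : j < 12) (b : K) : C.X K (sL j) b ∈ C.US K (SR j) :=
  C.X_mem_US K (S := SR j) ⟨(pidx_rL j hj).2.2.2.1, (pidx_rL j hj).2.1.ge⟩ b

theorem co_mem {j : ℕ} (hj : j < 12) (a b : K) : co j a b ∈ C.US K (SR j) :=
  mul_mem (X_rL_mem hj a) (X_sL_mem hj b)

theorem co_zero (j : ℕ) : co j (0 : K) 0 = 1 := by rw [co, C.X_zero, C.X_zero, one_mul]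

include F

theorem co_mul {j : ℕ} (hj : j < 12) (a b a' b' : K) :
    (co j (a + a') (b + b'))⁻¹ * (co j a b * co j a' b') ∈ C.US K (SR (j + 1)) := by
  have h := comm_mem F j (C.US_mono K (SR_pos j) (inv_mem (X_rL_mem hj a'))) (X_sL_mem hj b)
  have e : (co j (a + a') (b + b'))⁻¹ * (co j a b * co j a' b') =
      (C.X K (sL j) b * C.X K (sL j) b')⁻¹ * ⁅(C.X K (rL j) a')⁻¹, C.X K (sL j) b⁆ *
        (C.X K (sL j) b * C.X K (sL j) b') := by
    simp only [co, ← C.X_add, commutatorElement_def]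
    group
  rw [e]
  have := conj_mem_SR F (j + 1) (inv_mem (mul_mem (C.US_mono K (SR_pos j) (X_sL_mem hj b))
    (C.US_mono K (SR_pos j) (X_sL_mem hj b')))) h
  rwa [inv_inv] at this

/-- Coordinates of an element of a layer. -/
theorem exists_coord {j : ℕ} (hj : j < 12) {g : GL chevF4.Idx K} (hg : g ∈ C.US K (SR j)) :
    ∃ a b, (co j a b)⁻¹ * g ∈ C.US K (SR (j + 1)) := by
  induction hg using Subgroup.closure_induction with
  | mem x hx =>
    obtain ⟨q, hq, u, rfl⟩ := hx
    rcases eq_or_lt_of_le hq.2 with h | h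
    · rcases layer_iff q hq.1 with h' | h' <;> rw [← h] at h'
      · exact ⟨u, 0, by rw [co, h', C.X_zero, mul_one, inv_mul_cancel]; exact one_mem _⟩
      · exact ⟨0, u, by rw [co, h', C.X_zero, one_mul, inv_mul_cancel]; exact one_mem _⟩
    · exact ⟨0, 0, by rw [co_zero, inv_one, one_mul]; exact C.X_mem_US K (S := SR (j + 1)) ⟨hq.1, h⟩ u⟩
  | one => exact ⟨0, 0, by rw [co_zero]; simp⟩
  | mul x y _ hy ihx ihy =>
    obtain ⟨a, b, h1⟩ := ihx
    obtain ⟨a', b', h2⟩ := ihy
    refine ⟨a + a', b + b', ?_⟩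
    have h3 := conj_mem_SR F (j + 1) (inv_mem (C.US_mono K (SR_pos j) (co_mem hj a' b'))) h1
    have h4 := mul_mem (mul_mem (co_mul F hj a b a' b') h3) h2
    convert h4 using 1
    group
  | inv x _ ihx =>
    obtain ⟨a, b, h1⟩ := ihx
    refine ⟨-a, -b, ?_⟩
    have h2 := co_mul F hj (-a) (-b) a b
    rw [neg_add_cancel, neg_add_cancel, co_zero, inv_one, one_mul] at h2
    -- `co (-a) (-b) * co a b` and `(co a b)⁻¹ * x` are later
    have h3 := conj_mem_SR F (j + 1) (inv_mem (C.US_mono K (SR_pos j) (co_mem hj (-a) (-b)))) (inv_mem h1)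
    have h4 := conj_mem_SR F (j + 1) (inv_mem (C.US_mono K (SR_pos j) (co_mem hj (-a) (-b)))) h2
    have h5 := mul_mem h3 (inv_mem h4)
    rw [show (co j (-a) (-b))⁻¹ * ((co j a b)⁻¹ * x)⁻¹ * (co j (-a) (-b))⁻¹⁻¹ *
        ((co j (-a) (-b))⁻¹ * (co j (-a) (-b) * co j a b) * (co j (-a) (-b))⁻¹⁻¹)⁻¹ =
      (co j (-a) (-b))⁻¹ * x⁻¹ * (co j a b * (co j a b)⁻¹) by group, mul_inv_cancel, mul_one] at h5
    exact h5

theorem coord_eq_zero {j : ℕ} (hj : j < 12) {a b : K} (h : co j a b ∈ C.US K (SR (j + 1))) : a = 0 ∧ b = 0 := by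
  classical
  obtain ⟨-, -, h1, h2, hne, -⟩ := pidx_rL j hj
  have main : ∀ (p q : Rt chevF4) (a b : K), p < q → (LR j).filter (fun r => decide (pidx r = j)) = [p, q] →
      C.X K p a * C.X K q b ∈ C.US K (SR (j + 1)) → a = 0 ∧ b = 0 := by
    intro p q a b hpq hf h
    have hpm : p ∈ (LR j).filter (fun r => decide (pidx r = j)) := hf ▸ List.mem_cons_self ..
    have hqm : q ∈ (LR j).filter (fun r => decide (pidx r = j)) := hf ▸ List.mem_cons_of_mem _ (List.mem_cons_self ..)
    rw [List.mem_filter, decide_eq_true_iff] at hpm hqm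
    have hsort : ∀ n, (LR n).Pairwise (· < ·) := fun n => (List.pairwise_lt_finRange _).filter _
    have hfilter : ∀ (P : Rt chevF4 → Bool) (L : List (Rt chevF4)) (t : Rt chevF4 → K),
        (∀ r ∈ L, P r = false → t r = 0) → C.wordX K L t = C.wordX K (L.filter P) t := by
      intro P L t ht
      induction L with
      | nil => rfl
      | cons x L ih =>
        have ih' := ih fun r hr => ht r (List.mem_cons_of_mem _ hr)
        simp only [Core.wordX, List.map_cons, List.prod_cons] at ih' ⊢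
        cases hx : P x
        · rw [List.filter_cons_of_neg (by simp [hx]), ht x (List.mem_cons_self ..) hx, C.X_zero, one_mul, ih']
        · rw [List.filter_cons_of_pos hx, List.map_cons, List.prod_cons, ih']
    obtain ⟨t, ht⟩ := comm.exists_word (R := K) (hsort (j + 1)) (fun r hr => SR_pos _ (mem_LR.1 hr))
      (LR_closed (j + 1)) (by rwa [show {r | r ∈ LR (j + 1)} = SR (j + 1) from Set.ext fun _ => mem_LR])
    let f : Rt chevF4 → K := fun r => if r = p then a else if r = q then b else 0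
    let t' : Rt chevF4 → K := fun r => if pidx r = j then 0 else t r
    have e1 : C.wordX K (LR j) f = C.X K p a * C.X K q b := by
      rw [hfilter (fun r => decide (pidx r = j)) _ f (fun r hr hd => ?_), hf]
      · simp [Core.wordX, f, (ne_of_gt hpq)]
      · have hd' : pidx r ≠ j := by simpa using hd
        simp [f, show r ≠ p from fun e => hd' (e ▸ hpm.2), show r ≠ q from fun e => hd' (e ▸ hqm.2)]
    have e2 : C.wordX K (LR j) t' = C.wordX K (LR (j + 1)) t := by
      have hL : (LR j).filter (fun r => decide (pidx r ≠ j)) = LR (j + 1) := by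
        rw [LR, LR, List.filter_filter]
        refine List.filter_congr fun r _ => ?_
        rw [Bool.eq_iff_iff]
        simp only [Bool.and_eq_true, decide_eq_true_iff]
        omega
      rw [hfilter (fun r => decide (pidx r ≠ j)) _ t' (fun r _ hd => ?_), hL]
      · exact C.wordX_congr K fun r hr => if_neg (by have := (mem_LR.1 hr).2; omega)
      · have hd' : pidx r = j := by simpa using hd
        simp [t', hd']
    have hu := C.wordX_unique K (hsort j) (fun r hr => SR_pos _ (mem_LR.1 hr))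
      (e1.trans (ht.trans e2.symm))
    refine ⟨?_, ?_⟩
    · simpa [f, t', hpm.2] using hu p hpm.1
    · simpa [f, t', hqm.2, ne_of_gt hpq] using hu q hqm.1
  have key : ∀ j < 12, (LR j).filter (fun r => decide (pidx r = j)) =
      if rL j < sL j then [rL j, sL j] else [sL j, rL j] := by decide +kernel
  by_cases hlt : rL j < sL j
  · exact main _ _ a b hlt ((key j hj).trans (if_pos hlt)) h
  · have := main _ _ b a (lt_of_le_of_ne (not_lt.1 hlt) hne.symm) ((key j hj).trans (if_neg hlt)) (by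
      have h' := conj_mem_SR F (j + 1) (inv_mem (C.US_mono K (SR_pos j) (X_rL_mem hj a))) h
      convert h' using 1
      rw [co]; group)
    exact ⟨this.2, this.1⟩

theorem coord_unique {j : ℕ} (hj : j < 12) {a b a' b' : K} {g : GL chevF4.Idx K}
    (h : (co j a b)⁻¹ * g ∈ C.US K (SR (j + 1))) (h' : (co j a' b')⁻¹ * g ∈ C.US K (SR (j + 1))) :
    a = a' ∧ b = b' := by
  -- `(co a b)⁻¹ * co a' b'` and `(co a' b')⁻¹ * (co a b * co (a' - a) (b' - b))` are later
  have h1 := mul_mem h (inv_mem h')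
  have h2 := co_mul F hj a b (a' - a) (b' - b)
  rw [add_sub_cancel, add_sub_cancel] at h2
  have h3 := mul_mem h1 h2
  rw [show (co j a b)⁻¹ * g * ((co j a' b')⁻¹ * g)⁻¹ * ((co j a' b')⁻¹ * (co j a b * co j (a' - a) (b' - b))) =
    co j (a' - a) (b' - b) by group] at h3
  obtain ⟨e1, e2⟩ := coord_eq_zero F hj h3
  exact ⟨(sub_eq_zero.1 e1).symm, (sub_eq_zero.1 e2).symm⟩

end Cfsg.Agent.Lib.TwMult.F4
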