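import Cfsg.Agent.Lib.TwMult.F4Elems

/-!
The tables of a central series of the group U¹ of ²F₄ with twelve layers.
-/

set_option autoImplicit false
set_option maxRecDepth 100000
set_option linter.unusedSectionVars false

namespace Cfsg.Agent.Lib.TwMult.F4

open Cfsg.Lie
open Cfsg.Agent.Lib.ChevStructure Cfsg.Agent.Lib.LieTwisted.Twist Cfsg.Agent.Lib.LieTwisted.Twist.F4
open scoped MatrixGroups commutatorElement

universe u

/-- The layer of a positive root. -/
def pidx (r : Rt chevF4) : ℕ :=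
  [2, 0, 3, 0, 1, 6, 1, 4, 5, 2, 3, 4, 7, 5, 8, 9, 10, 6, 7, 8, 11, 9, 10, 11].getD (r.val - 24) 0

/-- The root of a layer on which the exponent of the isogeny is 2. -/
def rL (j : ℕ) : Rt chevF4 :=
  [R 27, R 28, R 33, R 34, R 35, R 37, R 29, R 36, R 38, R 39, R 40, R 44].getD j (R 44)

/-- The root of a layer on which the exponent of the isogeny is 1. -/
def sL (j : ℕ) : Rt chevF4 :=
  [R 25, R 30, R 24, R 26, R 31, R 32, R 41, R 42, R 43, R 45, R 46, R 47].getD j (R 47)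

/-- The roots of the layers from the given one on. -/
def SR (j : ℕ) : Set (Rt chevF4) := {r | 24 ≤ r.val ∧ j ≤ pidx r}

/-- The same roots in increasing order. -/
def LR (j : ℕ) : List (Rt chevF4) :=
  (List.finRange chevF4.nroots).filter fun r => decide (24 ≤ r.val ∧ j ≤ pidx r)

theorem mem_LR {j : ℕ} {r : Rt chevF4} : r ∈ LR j ↔ r ∈ SR j := by simp [LR, SR]

theorem pos_iff24 (r : Rt chevF4) : r ∈ C.Pos ↔ 24 ≤ r.val := by
  show 48 ≤ 2 * r.val ↔ _
  omega

theorem SR_pos (j : ℕ) : SR j ⊆ C.Pos := fun r hr => (pos_iff24 r).2 hr.1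

theorem SR_zero : SR 0 = C.Pos := Set.ext fun r => by simp [SR, pos_iff24]

theorem SR_anti {i j : ℕ} (h : i ≤ j) : SR j ⊆ SR i := fun _ hr => ⟨hr.1, h.trans hr.2⟩

theorem pidx_lt : ∀ r : Rt chevF4, pidx r < 12 := by decide +kernel

theorem layer_iff : ∀ r : Rt chevF4, 24 ≤ r.val → r = rL (pidx r) ∨ r = sL (pidx r) := by decide +kernel

theorem pidx_rL : ∀ j < 12, pidx (rL j) = j ∧ pidx (sL j) = j ∧ 24 ≤ (rL j).val ∧ 24 ≤ (sL j).val ∧
    rL j ≠ sL j ∧ π (rL j) = sL j ∧ π (sL j) = rL j ∧ lam (rL j) = 2 ∧ lam (sL j) = 1 := by decide +kernel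

theorem π_layer : ∀ r : Rt chevF4, 24 ≤ r.val → 24 ≤ (π r).val ∧ pidx (π r) = pidx r := by decide +kernel

/-- Commutators of root elements fall into strictly later layers. -/
theorem terms_later : ∀ p : Rt chevF4 × Rt chevF4, 24 ≤ p.1.val → 24 ≤ p.2.val → p.1 ≠ p.2 →
    ∀ c ∈ chevF4.commTerms p.1.val p.2.val, c.2.1 % 2 = 0 ∨
      (c.1 < 48 ∧ ∀ q : Rt chevF4, q.val = c.1 → 24 ≤ q.val ∧ max (pidx p.1) (pidx p.2) < pidx q) := by
  decide +kernel

/-- A linear coordinate of a root. -/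
def code (r : Rt chevF4) : ℤ :=
  Data.F4.fast.v r.val 0 + 64 * Data.F4.fast.v r.val 1 + 4096 * Data.F4.fast.v r.val 2 +
    262144 * Data.F4.fast.v r.val 3

theorem bound_pos : ∀ r : Rt chevF4, 24 ≤ r.val →
    (∃ k : Fin chevF4.rank, 1 ≤ Data.F4.fast.v r.val k.val) ∧
      ∀ k : Fin chevF4.rank, Data.F4.fast.v r.val k.val ≤ 4 := by decide +kernel

theorem code_closed : ∀ p : (Fin 24 × Fin 24) × Fin 24, ∀ i : Fin 5, ∀ j : Fin 5, 1 ≤ i.val → 1 ≤ j.val →
    code ⟨p.2.val + 24, by have := p.2.isLt; show _ < 48; omega⟩ =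
      (i.val : ℤ) * code ⟨p.1.1.val + 24, by have := p.1.1.isLt; show _ < 48; omega⟩ +
        (j.val : ℤ) * code ⟨p.1.2.val + 24, by have := p.1.2.isLt; show _ < 48; omega⟩ →
    min (pidx ⟨p.1.1.val + 24, by have := p.1.1.isLt; show _ < 48; omega⟩)
      (pidx ⟨p.1.2.val + 24, by have := p.1.2.isLt; show _ < 48; omega⟩) ≤
      pidx ⟨p.2.val + 24, by have := p.2.isLt; show _ < 48; omega⟩ := by
  decide +kernel

end Cfsg.Agent.Lib.TwMult.F4
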