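import Cfsg.Agent.Lib.TwMult.Split
import Mathlib.GroupTheory.Coxeter.Basic

/-!
Central extensions with kernel of order prime to the unipotent part over a group with a split
(B,N)-pair of arbitrary rank: the unique lifts of the elements of order prime to the kernel generate a
subgroup meeting the kernel only in the lifted tori of the groups of rank one.
-/

set_option autoImplicit false
set_option linter.unusedSectionVars false

namespace Cfsg.Agent.Lib.TwMult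

open Subgroup
open scoped Pointwise

universe u v

/-- The alternating product of two elements with the given number of factors. -/
def altP {M : Type*} [Monoid M] : M → M → ℕ → M
  | _, _, 0 => 1
  | a, b, k + 1 => a * altP b a k

theorem altP_succ {M : Type*} [Monoid M] : ∀ (k : ℕ) (a b : M),
    altP a b (k + 1) = altP a b k * (if Even k then a else b)
  | 0, a, b => by simp [altP]
  | k + 1, a, b => by
    show a * altP b a (k + 1) = a * altP b a k * _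
    rw [altP_succ k b a, mul_assoc]
    congr 2
    by_cases h : Even k
    · rw [if_pos h, if_neg (by simp [Nat.even_add_one, h])]
    · rw [if_neg h, if_pos (by simp [Nat.even_add_one, h])]

theorem map_altP {M N F : Type*} [Monoid M] [Monoid N] [FunLike F M N] [MonoidHomClass F M N] (f : F) :
    ∀ (k : ℕ) (a b : M), f (altP a b k) = altP (f a) (f b) k
  | 0, _, _ => map_one f
  | k + 1, a, b => by rw [altP, map_mul, map_altP f k b a]; rfl

theorem altP_mul_inv {G : Type*} [Group G] : ∀ (k : ℕ) {a b : G}, a * a = 1 → b * b = 1 →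
    altP a b k * (altP b a k)⁻¹ = (a * b) ^ k
  | 0, _, _, _, _ => by simp [altP]
  | k + 1, a, b, ha, hb => by
    show a * altP b a k * (b * altP a b k)⁻¹ = _
    rw [mul_inv_rev, inv_eq_of_mul_eq_one_right hb, show a * altP b a k * ((altP a b k)⁻¹ * b) =
      a * (altP b a k * (altP a b k)⁻¹) * b by group, altP_mul_inv k hb ha]
    have key : ∀ j : ℕ, a * (b * a) ^ j = (a * b) ^ j * a := by
      intro j
      induction j with
      | zero => simp
      | succ j ih => rw [pow_succ, ← mul_assoc, ih, pow_succ]; simp only [mul_assoc]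
    rw [key, pow_succ, mul_assoc]

/-- The data of a split (B,N)-pair. -/
structure FrameN (G : Type v) [Group G] (d : ℕ) where
  U : Subgroup G
  N : Subgroup G
  H : Subgroup G
  n : Fin d → G
  Ui : Fin d → Subgroup G
  Uc : Fin d → Subgroup G
  L : Fin d → Subgroup G
  L_eq : ∀ i, L i = Ui i ⊔ (Ui i).map (MulAut.conj (n i)).toMonoidHom
  n_mem_L : ∀ i, n i ∈ L i
  n_mem : ∀ i, n i ∈ N
  H_le : H ≤ N
  n_sq : ∀ i, n i * n i ∈ H
  n_conj : ∀ i, ∀ h ∈ H, n i * h * (n i)⁻¹ ∈ H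
  H_comm : ∀ a ∈ H, ∀ b ∈ H, a * b = b * a
  H_conj : ∀ h ∈ H, ∀ u ∈ U, h * u * h⁻¹ ∈ U
  H_conj_Ui : ∀ i, ∀ h ∈ H, ∀ u ∈ Ui i, h * u * h⁻¹ ∈ Ui i
  Ui_le : ∀ i, Ui i ≤ U
  Uc_le : ∀ i, Uc i ≤ U
  split : ∀ i, ∀ u ∈ U, ∃ a ∈ Uc i, ∃ c ∈ Ui i, u = a * c
  n_Uc : ∀ i, ∀ a ∈ Uc i, n i * a * (n i)⁻¹ ∈ Uc i
  borel_N : ∀ u ∈ U, ∀ h ∈ H, u * h ∈ N → u = 1
  tri : ∀ x ∈ N, ∀ i, (∀ u ∈ Ui i, x⁻¹ * u * x ∈ U) ∨
    (∀ u ∈ Ui i, ((n i)⁻¹ * x)⁻¹ * u * ((n i)⁻¹ * x) ∈ U)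
  one : ∀ i, ∀ u ∈ Ui i, (∃ a ∈ Ui i, ∃ h ∈ H, n i * u * n i = a * h) ∨
    (∃ a ∈ Ui i, ∃ b ∈ Ui i, ∃ h ∈ H, n i * u * n i = a * n i * b * h)
  top : ⨆ i, L i = ⊤
  M : CoxeterMatrix (Fin d)
  M_ne : ∀ i j, M i j ≠ 0
  cox : ↥N →* M.Group
  cox_n : ∀ i, cox ⟨n i, n_mem i⟩ = M.simple i
  cox_ker : ∀ x : ↥N, cox x = 1 ↔ (x : G) ∈ H
  braid : ∀ i j, i ≠ j → ∀ u ∈ Ui (if Even (M i j - 1) then i else j),
    altP (n i) (n j) (M i j - 1) * u * (altP (n i) (n j) (M i j - 1))⁻¹ ∈ L j ∧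
      altP (n i) (n j) (M i j - 1) * (n (if Even (M i j - 1) then i else j) * u *
        (n (if Even (M i j - 1) then i else j))⁻¹) * (altP (n i) (n j) (M i j - 1))⁻¹ ∈ L j
  braid_n : ∀ i j, i ≠ j → (n j)⁻¹ * (altP (n i) (n j) (M i j - 1) *
    n (if Even (M i j - 1) then i else j) * (altP (n i) (n j) (M i j - 1))⁻¹) ∈ H

namespace FrameN

variable {G : Type v} [Group G] [Finite G] {d : ℕ} (F : FrameN G d)
variable {E : Type u} [Group E] [Finite E] {σ : E →* G}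

theorem conj_word (i : Fin d) {h : G} (hh : h ∈ F.H) : (F.n i)⁻¹ * h * F.n i ∈ F.H := by
  have h1 := F.n_conj i _ hh
  have h2 : (F.n i)⁻¹ * (F.n i)⁻¹ ∈ F.H := by rw [← mul_inv_rev]; exact inv_mem (F.n_sq i)
  have := mul_mem (mul_mem h2 h1) (inv_mem h2)
  convert this using 1; group

/-- The conjugation of the elements of a complement over a subgroup of rank one. -/
theorem transfer (hk : σ.ker ≤ center E) {Lt : Fin d → Subgroup E} (hLt : ∀ i, IsComp σ (F.L i) (Lt i))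
    (hU : (Nat.card F.U).Coprime (Nat.card σ.ker)) {e : E} {i j : Fin d}
    (h1 : ∀ u ∈ F.Ui i, σ e * u * (σ e)⁻¹ ∈ F.L j ∧ σ e * (F.n i * u * (F.n i)⁻¹) * (σ e)⁻¹ ∈ F.L j) :
    ∀ a ∈ Lt i, e * a * e⁻¹ ∈ Lt j := by
  set T : Subgroup E := closure {a | a ∈ Lt i ∧ Lft σ a ∧
    (σ a ∈ F.Ui i ∨ σ a ∈ (F.Ui i).map (MulAut.conj (F.n i)).toMonoidHom)} with hT
  have hTle : T ≤ Lt i := (closure_le _).2 fun a ha => ha.1
  have hcov : F.L i ≤ T.map σ := by
    have key : ∀ g ∈ F.L i, g ^ Nat.card F.U = 1 → (g ∈ F.Ui i ∨ g ∈ (F.Ui i).map (MulAut.conj (F.n i)).toMonoidHom) →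
        g ∈ T.map σ := by
      intro g hgL hgm hg
      obtain ⟨a, ha, rfl⟩ := (hLt i).exists_mem hgL
      exact mem_map_of_mem σ (subset_closure ⟨ha, (hLt i).lft ha hU hgm, hg⟩)
    have hpow : ∀ u ∈ F.Ui i, u ^ Nat.card F.U = 1 := fun u hu => pow_card_mem (F.Ui_le i hu)
    conv_lhs => rw [F.L_eq]
    refine sup_le (fun g hg => key g (F.L_eq i ▸ mem_sup_left hg) (hpow g hg) (Or.inl hg)) ?_
    rintro _ ⟨u, hu, rfl⟩
    refine key _ (F.L_eq i ▸ mem_sup_right ⟨u, hu, rfl⟩) ?_ (Or.inr ⟨u, hu, rfl⟩)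
    rw [← map_pow, hpow u hu, map_one]
  intro a ha
  have haT : a ∈ T := by
    obtain ⟨b, hb, e'⟩ := hcov ((hLt i).mem ha)
    rw [(hLt i).inj ha (hTle hb) e'.symm]; exact hb
  have hle : T ≤ (Lt j).comap (MulAut.conj e).toMonoidHom := (closure_le _).2 fun b hb => by
    refine (hLt j).mem_of_lft hk (lft_conj e hb.2.1) ?_
    show σ (e * b * e⁻¹) ∈ F.L j
    rw [map_mul, map_mul, map_inv]
    rcases hb.2.2 with h | ⟨u, hu, h⟩
    · exact (h1 _ h).1
    · rw [← h]; exact (h1 u hu).2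
  exact hle haT

theorem transfer_H (hk : σ.ker ≤ center E) {Lt : Fin d → Subgroup E} (hLt : ∀ i, IsComp σ (F.L i) (Lt i))
    (hU : (Nat.card F.U).Coprime (Nat.card σ.ker)) {e : E} (he : σ e ∈ F.H) (i : Fin d) :
    ∀ a ∈ Lt i, e * a * e⁻¹ ∈ Lt i := by
  refine F.transfer hk hLt hU fun u hu => ?_
  refine ⟨F.L_eq i ▸ mem_sup_left (F.H_conj_Ui i _ he u hu), F.L_eq i ▸ mem_sup_right ⟨_, F.H_conj_Ui i _
    (F.conj_word i he) u hu, ?_⟩⟩
  show F.n i * _ * (F.n i)⁻¹ = _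
  group

/-- Central extensions of kernel order prime to `U` which split over the groups of rank one split up to
the lifted tori of these groups. -/
theorem exists_almost_complement (hk : σ.ker ≤ center E) (hσ : Function.Surjective σ)
    (hU : (Nat.card F.U).Coprime (Nat.card σ.ker))
    (hL : ∀ i, ∃ T : Subgroup E, IsComp σ (F.L i) T) :
    ∃ (T : Subgroup E) (Lt : Fin d → Subgroup E), (∀ i, IsComp σ (F.L i) (Lt i)) ∧
      (∀ i j, ∀ a ∈ Lt i ⊓ F.H.comap σ, ∀ b ∈ Lt j ⊓ F.H.comap σ, Commute a b) ∧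
      T.map σ = ⊤ ∧ T ⊓ σ.ker ≤ ⨆ i, (Lt i ⊓ F.H.comap σ) := by
  choose Lt hLt using hL
  obtain ⟨Ut, hUt⟩ := exists_comp hk hσ F.U hU
  choose w hw hwn using fun i => (hLt i).exists_mem (F.n_mem_L i)
  -- the lifted torus
  let A : Fin d → Subgroup E := fun i => Lt i ⊓ F.H.comap σ
  set Ht : Subgroup E := ⨆ i, A i with hHt
  have hA : ∀ i, A i ≤ Ht := le_iSup A
  have hHσ : ∀ x ∈ Ht, σ x ∈ F.H := by
    have : Ht ≤ F.H.comap σ := iSup_le fun i => inf_le_right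
    exact fun x hx => this hx
  have hAcomm : ∀ i, ∀ a ∈ A i, ∀ e : E, σ e ∈ F.H → e * a * e⁻¹ = a := by
    intro i a ha e he
    refine (hLt i).inj (F.transfer_H hk hLt hU he i a ha.1) ha.1 ?_
    rw [map_mul, map_mul, map_inv, F.H_comm _ he _ ha.2, mul_inv_cancel_right]
  have hAA : ∀ i j, ∀ a ∈ A i, ∀ b ∈ A j, Commute a b := fun i j a ha b hb =>
    (mul_inv_eq_iff_eq_mul.1 (hAcomm j b hb a ha.2))
  have hwsq : ∀ i, w i * w i ∈ Ht := fun i =>
    hA i (mem_inf.2 ⟨mul_mem (hw i) (hw i), by rw [mem_comap, map_mul, hwn]; exact F.n_sq i⟩)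
  -- the torus is normalised by the representatives
  have hwH : ∀ i, ∀ x ∈ Ht, w i * x * (w i)⁻¹ ∈ Ht := by
    intro i x hx
    have h1 : x⁻¹ * w i * x ∈ Lt i := by
      have := F.transfer_H hk hLt hU (e := x⁻¹) (by simpa using hHσ x hx) i _ (hw i)
      rwa [inv_inv] at this
    have h2 : (x⁻¹ * w i * x) * (w i)⁻¹ ∈ A i := mem_inf.2 ⟨mul_mem h1 (inv_mem (hw i)), by
      rw [mem_comap, map_mul, map_mul, map_mul, map_inv, map_inv, hwn,
        show (σ x)⁻¹ * F.n i * σ x * (F.n i)⁻¹ = (σ x)⁻¹ * (F.n i * σ x * (F.n i)⁻¹) by group]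
      exact mul_mem (inv_mem (hHσ x hx)) (F.n_conj i _ (hHσ x hx))⟩
    have := mul_mem hx (hA i h2)
    convert this using 1; group
  -- the lifted monomial group
  set Nt : Subgroup E := closure (Set.range w) ⊔ Ht with hNt
  have hwN : ∀ i, w i ∈ Nt := fun i => mem_sup_left (subset_closure ⟨i, rfl⟩)
  have hNσ : ∀ x ∈ Nt, σ x ∈ F.N := by
    have : Nt ≤ F.N.comap σ := sup_le ((closure_le _).2 (by
      rintro _ ⟨i, rfl⟩
      show σ (w i) ∈ F.N
      rw [hwn]; exact F.n_mem i))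
      (le_trans (fun x hx => hHσ x hx) (comap_mono F.H_le))
    exact fun x hx => this hx
  have hnorm : Nt ≤ normalizer (Ht : Set E) := by
    refine sup_le ((closure_le _).2 ?_) le_normalizer
    rintro _ ⟨i, rfl⟩
    refine mem_normalizer_iff.2 fun y => ⟨hwH i y, fun hy => ?_⟩
    have h2 : (w i)⁻¹ * (w i)⁻¹ ∈ Ht := by rw [← mul_inv_rev]; exact inv_mem (hwsq i)
    have := mul_mem (mul_mem h2 (hwH i _ hy)) (inv_mem h2)
    convert this using 1; group
  let H' : Subgroup ↥Nt := Ht.subgroupOf Nt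
  haveI : H'.Normal := ⟨fun x hx g => (mem_normalizer_iff.1 (hnorm g.2) x.1).1 hx⟩
  let q : ↥Nt →* ↥Nt ⧸ H' := QuotientGroup.mk' H'
  let f : Fin d → ↥Nt ⧸ H' := fun i => q ⟨w i, hwN i⟩
  have hqH : ∀ x : ↥Nt, (x : E) ∈ Ht → q x = 1 := fun x hx => (QuotientGroup.eq_one_iff x).2 hx
  have hff : ∀ i, f i * f i = 1 := fun i => by
    rw [← map_mul]; exact hqH _ (hwsq i)
  have hlift : F.M.IsLiftable f := by
    intro i j
    by_cases hij : i = j
    · subst hij; rw [F.M.diagonal, pow_one]; exact hff i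
    set m := F.M i j - 1 with hm
    set e := if Even m then i else j with he
    have hm1 : F.M i j = m + 1 := (Nat.sub_add_cancel (Nat.one_le_iff_ne_zero.2 (F.M_ne i j))).symm
    set x := altP (w i) (w j) m with hx
    have hσx : σ x = altP (F.n i) (F.n j) m := by rw [hx, map_altP σ, hwn, hwn]
    have h1 : x * w e * x⁻¹ ∈ Lt j := F.transfer hk hLt hU (i := e) (j := j) (fun u hu => by
      rw [hσx]; exact F.braid i j hij u hu) _ (hw e)
    have h2 : (w j)⁻¹ * (x * w e * x⁻¹) ∈ Ht := hA j (mem_inf.2 ⟨mul_mem (inv_mem (hw j)) h1, by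
      rw [mem_comap]
      have := F.braid_n i j hij
      rw [← hm, ← he, ← hσx] at this
      simpa [hwn] using this⟩)
    have hxN : x ∈ Nt := by
      have : ∀ (k : ℕ) (a b : E), a ∈ Nt → b ∈ Nt → altP a b k ∈ Nt := by
        intro k
        induction k with
        | zero => intro a b _ _; exact one_mem _
        | succ k ih => intro a b ha hb; exact mul_mem ha (ih b a hb ha)
      exact this _ _ _ (hwN i) (hwN j)
    have hq := hqH ⟨(w j)⁻¹ * (x * w e * x⁻¹),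
      mul_mem (inv_mem (hwN j)) (mul_mem (mul_mem hxN (hwN e)) (inv_mem hxN))⟩ h2
    have eq1 : q ⟨(w j)⁻¹ * (x * w e * x⁻¹),
        mul_mem (inv_mem (hwN j)) (mul_mem (mul_mem hxN (hwN e)) (inv_mem hxN))⟩ =
        (f j)⁻¹ * (altP (f i) (f j) m * f e * (altP (f i) (f j) m)⁻¹) := by
      rw [show altP (f i) (f j) m = q ⟨x, hxN⟩ by
        rw [← map_altP q]
        refine congrArg q (Subtype.ext ?_)
        show Nt.subtype (altP (⟨w i, hwN i⟩ : ↥Nt) ⟨w j, hwN j⟩ m) = x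
        rw [map_altP Nt.subtype]; rfl]
      simp only [f, ← map_inv, ← map_mul]
      rfl
    rw [hq, eq_comm, inv_mul_eq_one, eq_mul_inv_iff_mul_eq] at eq1
    have e2 : altP (f i) (f j) (m + 1) = altP (f i) (f j) m * f e := by
      rw [altP_succ, he, apply_ite f]
    have e3 : altP (f i) (f j) (m + 1) = altP (f j) (f i) (m + 1) := by rw [e2, ← eq1]; rfl
    rw [hm1, ← altP_mul_inv _ (hff i) (hff j), e3, mul_inv_cancel]
  let ψ : F.M.Group →* ↥Nt ⧸ H' := F.M.toCoxeterSystem.lift ⟨f, hlift⟩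
  let ν : ↥Nt →* ↥F.N := (σ.comp Nt.subtype).codRestrict F.N fun x => hNσ x x.2
  have hψ : ψ.comp (F.cox.comp ν) = q := by
    refine MonoidHom.ext fun x => ?_
    have hle : Nt ≤ (MonoidHom.eqLocus (ψ.comp (F.cox.comp ν)) q).map Nt.subtype := by
      refine sup_le ((closure_le _).2 ?_) fun y hy => ?_
      · rintro _ ⟨i, rfl⟩
        refine ⟨⟨w i, hwN i⟩, ?_, rfl⟩
        show ψ (F.cox (ν _)) = f i
        rw [show ν ⟨w i, hwN i⟩ = ⟨F.n i, F.n_mem i⟩ from Subtype.ext (hwn i), F.cox_n]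
        exact F.M.toCoxeterSystem.lift_apply_simple hlift i
      · refine ⟨⟨y, mem_sup_right hy⟩, ?_, rfl⟩
        show ψ (F.cox (ν _)) = q _
        rw [(F.cox_ker (ν ⟨y, mem_sup_right hy⟩)).2 (hHσ y hy), map_one]
        exact (hqH ⟨y, mem_sup_right hy⟩ hy).symm
    obtain ⟨y, hy, e⟩ := hle x.2
    rwa [show x = y from Subtype.ext e.symm]
  have hNker : ∀ x ∈ Nt, σ x ∈ F.H → x ∈ Ht := by
    intro x hx hσH
    have h := DFunLike.congr_fun hψ ⟨x, hx⟩
    rw [MonoidHom.comp_apply, MonoidHom.comp_apply, (F.cox_ker (ν ⟨x, hx⟩)).2 hσH, map_one] at h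
    exact (QuotientGroup.eq_one_iff (⟨x, hx⟩ : ↥Nt)).1 h.symm
  -- the lifted Borel group
  have hUconj : ∀ h ∈ Ht, ∀ u ∈ Ut, h * u * h⁻¹ ∈ Ut := by
    intro h hh u hu
    refine hUt.mem_of_lft hk (lft_conj h (hUt.lft hu hU ?_)) ?_
    · exact pow_card_mem (hUt.mem hu)
    · rw [map_mul, map_mul, map_inv]; exact F.H_conj _ (hHσ h hh) _ (hUt.mem hu)
  have hlftU : ∀ {u : E}, u ∈ Ut → Lft σ u := fun {u} hu => hUt.lft hu hU
    (pow_card_mem (hUt.mem hu))
  have hUmem : ∀ {g u : E}, u ∈ Ut → σ g * σ u * (σ g)⁻¹ ∈ F.U → g * u * g⁻¹ ∈ Ut := fun {g u} hu h =>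
    hUt.mem_of_lft hk (lft_conj g (hlftU hu)) (by rwa [map_mul, map_mul, map_inv])
  set Bt : Subgroup E := Ut ⊔ Ht with hBt
  have hBdec : ∀ x ∈ Bt, ∃ u ∈ Ut, ∃ h ∈ Ht, u * h = x := by
    intro x hx
    have hN : Ht ≤ normalizer (Ut : Set E) := fun h hh => by
      rw [mem_normalizer_iff]
      refine fun y => ⟨fun hy => hUconj h hh y hy, fun hy => ?_⟩
      have := hUconj h⁻¹ (inv_mem hh) _ hy
      rwa [show h⁻¹ * (h * y * h⁻¹) * h⁻¹⁻¹ = y by group] at this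
    have := coe_mul_of_right_le_normalizer_left Ut Ht hN
    have hx' : x ∈ ((Ut : Set E) * (Ht : Set E)) := this ▸ (SetLike.mem_coe.2 hx)
    exact Set.mem_mul.1 hx'
  let S : Set E := {x | ∃ p ∈ Bt, ∃ y ∈ Nt, ∃ q ∈ Bt, x = p * y * q}
  have hSB : ∀ p ∈ Bt, ∀ x ∈ S, p * x ∈ S := by
    rintro p hp x ⟨p', hp', y, hy, q, hq, rfl⟩
    exact ⟨p * p', mul_mem hp hp', y, hy, q, hq, by group⟩
  have hLtU : ∀ i, ∀ g ∈ F.Ui i, ∃ u ∈ Ut, u ∈ Lt i ∧ σ u = g := fun i g hg => by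
    obtain ⟨u, hu, e⟩ := hUt.exists_mem (F.Ui_le i hg)
    refine ⟨u, hu, (hLt i).mem_of_lft hk (hlftU hu) ?_, e⟩
    rw [e, F.L_eq]; exact mem_sup_left hg
  have hkey : ∀ i, ∀ c ∈ Ut, σ c ∈ F.Ui i → ∀ y ∈ Nt, w i * c * y ∈ S := by
    intro i c hc hci y hy
    have hA' : ∀ (d z : E), d ∈ Ut → σ d ∈ F.Ui i → (∀ u ∈ F.Ui i, (σ z)⁻¹ * u * σ z ∈ F.U) →
        z⁻¹ * d * z ∈ Ut := fun d z hd hdi hz => by
      have := hUmem (g := z⁻¹) hd (by simpa using hz _ hdi)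
      rwa [inv_inv] at this
    rcases F.tri _ (hNσ y hy) i with h | h
    · exact ⟨1, one_mem _, w i * y, mul_mem (hwN i) hy, y⁻¹ * c * y,
        mem_sup_left (hA' c y hc hci h), by group⟩
    · set z := (w i)⁻¹ * y with hz
      have hzN : z ∈ Nt := mul_mem (inv_mem (hwN i)) hy
      have hσz : σ z = (F.n i)⁻¹ * σ y := by simp [hz, hwn]
      rw [show w i * c * y = (w i * c * w i) * z by simp only [hz]; group]
      obtain ⟨c', hc', hc'L, ec⟩ := hLtU i _ hci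
      have hcL : c ∈ Lt i := hUt.inj hc' hc ec ▸ hc'L
      have hmem : w i * c * w i ∈ Lt i := mul_mem (mul_mem (hw i) hcL) (hw i)
      have hσm : σ (w i * c * w i) = F.n i * σ c * F.n i := by simp [hwn]
      rcases F.one i _ hci with ⟨g, hg, h', hh', e⟩ | ⟨g, hg, g', hg', h', hh', e⟩
      · obtain ⟨p, hp, hpL, rfl⟩ := hLtU i g hg
        have h1 : p⁻¹ * (w i * c * w i) ∈ Ht := hA i (mem_inf.2 ⟨mul_mem (inv_mem hpL) hmem, by
          rw [mem_comap, map_mul, map_inv, hσm, e, inv_mul_cancel_left]; exact hh'⟩)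
        exact ⟨p, mem_sup_left hp, p⁻¹ * (w i * c * w i) * z, mul_mem (mem_sup_right h1) hzN, 1, one_mem _,
          by group⟩
      · obtain ⟨p, hp, hpL, rfl⟩ := hLtU i g hg
        obtain ⟨r, hr, hrL, rfl⟩ := hLtU i g' hg'
        set t := (p * w i * r)⁻¹ * (w i * c * w i) with ht
        have h1 : t ∈ Ht := hA i (mem_inf.2 ⟨mul_mem (inv_mem (mul_mem (mul_mem hpL (hw i)) hrL)) hmem, by
          rw [mem_comap, ht, map_mul, map_inv, hσm, e, map_mul, map_mul, hwn, inv_mul_cancel_left]; exact hh'⟩)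
        have hz' : ∀ u ∈ F.Ui i, (σ (t * z))⁻¹ * u * σ (t * z) ∈ F.U := fun u hu => by
          have := h _ (F.H_conj_Ui i _ (inv_mem (hHσ t h1)) u hu)
          rw [← hσz] at this
          convert this using 1; rw [map_mul]; group
        exact ⟨p, mem_sup_left hp, w i * (t * z), mul_mem (hwN i) (mul_mem (mem_sup_right h1) hzN),
          (t * z)⁻¹ * r * (t * z), mem_sup_left (hA' r _ hr (by simpa using hg') hz'), by simp only [ht]; group⟩
  have hSw : ∀ i, ∀ x ∈ S, w i * x ∈ S := by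
    rintro i x ⟨p, hp, y, hy, q, hq, rfl⟩
    obtain ⟨u, hu, h, hh, rfl⟩ := hBdec p hp
    obtain ⟨g, hg, g', hg', e⟩ := F.split i _ (hUt.mem hu)
    obtain ⟨u1, hu1, e1⟩ := hUt.exists_mem (F.Uc_le i hg)
    obtain ⟨u2, hu2, -, e2⟩ := hLtU i g' hg'
    have hdec : u = u1 * u2 := hUt.inj hu (mul_mem hu1 hu2) (by rw [map_mul, e1, e2, e])
    have hu1' : w i * u1 * (w i)⁻¹ ∈ Ut := hUmem hu1 (by rw [hwn, e1]; exact F.Uc_le i (F.n_Uc i g hg))
    obtain ⟨p', hp', y', hy', q', hq', e'⟩ := hkey i u2 hu2 (e2 ▸ hg') (h * y) (mul_mem (mem_sup_right hh) hy)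
    refine ⟨w i * u1 * (w i)⁻¹ * p', mul_mem (mem_sup_left hu1') hp', y', hy', q' * q, mul_mem hq' hq, ?_⟩
    calc w i * (u * h * y * q) = w i * u1 * (w i)⁻¹ * (w i * u2 * (h * y)) * q := by rw [hdec]; group
      _ = _ := by rw [e']; group
  refine ⟨closure (Set.range w ∪ (Bt : Set E)), Lt, hLt, hAA, ?_, ?_⟩
  · rw [eq_top_iff, ← F.top, iSup_le_iff]
    intro i g hg
    have hUi : ∀ g ∈ F.Ui i, g ∈ (closure (Set.range w ∪ (Bt : Set E))).map σ := fun g hg => by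
      obtain ⟨u, hu, -, rfl⟩ := hLtU i g hg
      exact mem_map_of_mem σ (subset_closure (Or.inr (show u ∈ Bt from mem_sup_left hu)))
    have hn : F.n i ∈ (closure (Set.range w ∪ (Bt : Set E))).map σ :=
      hwn i ▸ mem_map_of_mem σ (subset_closure (Or.inl ⟨i, rfl⟩))
    rw [F.L_eq] at hg
    refine (sup_le (fun g hg => hUi g hg) ?_ : _ ≤ (closure (Set.range w ∪ (Bt : Set E))).map σ) hg
    rintro _ ⟨u, hu, rfl⟩
    exact mul_mem (mul_mem hn (hUi u hu)) (inv_mem hn)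
  · rintro x ⟨hx, hx1⟩
    have hmon : x ∈ Submonoid.closure (Set.range w ∪ (Bt : Set E)) := by
      rw [← closure_toSubmonoid_of_finite]; exact hx
    have hxS : x ∈ S := by
      refine Submonoid.closure_induction_left (motive := fun x _ => x ∈ S)
        ⟨1, one_mem _, 1, one_mem _, 1, one_mem _, by simp⟩ (fun g hg y _ hy => ?_) hmon
      rcases hg with ⟨i, rfl⟩ | hg
      · exact hSw i y hy
      · exact hSB g hg y hy
    obtain ⟨p, hp, y, hy, q, hq, rfl⟩ := hxS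
    obtain ⟨u, hu, h, hh, rfl⟩ := hBdec p hp
    obtain ⟨v, hv, l, hl, rfl⟩ := hBdec q hq
    have h1 : σ u * σ h * σ y * (σ v * σ l) = 1 := by simpa using MonoidHom.mem_ker.1 hx1
    have hBG : σ y ∈ F.U ⊔ F.H := by
      have e : σ y = (σ u * σ h)⁻¹ * (σ v * σ l)⁻¹ := by
        rw [eq_inv_mul_iff_mul_eq, eq_inv_iff_mul_eq_one]; exact h1
      rw [e]
      exact mul_mem (inv_mem (mul_mem (mem_sup_left (hUt.mem hu)) (mem_sup_right (hHσ h hh))))
        (inv_mem (mul_mem (mem_sup_left (hUt.mem hv)) (mem_sup_right (hHσ l hl))))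
    have hNG : F.H ≤ normalizer (F.U : Set G) := fun h hh => by
      rw [mem_normalizer_iff]
      refine fun y => ⟨fun hy => F.H_conj h hh y hy, fun hy => ?_⟩
      have := F.H_conj h⁻¹ (inv_mem hh) _ hy
      rwa [show h⁻¹ * (h * y * h⁻¹) * h⁻¹⁻¹ = y by group] at this
    have hdecG : ∀ g ∈ F.U ⊔ F.H, ∃ u ∈ F.U, ∃ h ∈ F.H, u * h = g := fun g hg => by
      have := coe_mul_of_right_le_normalizer_left F.U F.H hNG
      have hg' : g ∈ ((F.U : Set G) * (F.H : Set G)) := this ▸ (SetLike.mem_coe.2 hg)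
      exact Set.mem_mul.1 hg'
    obtain ⟨g, hg, g', hg', e⟩ := hdecG _ hBG
    have := F.borel_N g hg g' hg' (e ▸ hNσ y hy)
    rw [this, one_mul] at e
    have hyH : y ∈ Ht := hNker y hy (e ▸ hg')
    obtain ⟨u', hu', h', hh', e'⟩ := hBdec (u * h * y * (v * l))
      (mul_mem (mul_mem (mul_mem (mem_sup_left hu) (mem_sup_right hh)) (mem_sup_right hyH))
        (mul_mem (mem_sup_left hv) (mem_sup_right hl)))
    have h2 : σ u' * σ h' = 1 := by rw [← map_mul, e']; exact MonoidHom.mem_ker.1 hx1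
    have hu1 : σ u' = 1 := F.borel_N _ (hUt.mem hu') _ (hHσ h' hh') (by rw [h2]; exact one_mem _)
    rw [← e', hUt.inj hu' (one_mem _) (hu1.trans (map_one σ).symm), one_mul]
    exact hh'

end FrameN

end Cfsg.Agent.Lib.TwMult
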