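import Cfsg.Agent.Lib.TwMult.HeisRad

/-!
The order of the radical of a Heisenberg parabolic.
-/

set_option autoImplicit false
set_option linter.unusedSectionVars false

namespace Cfsg.Agent.Lib.TwMult

open Subgroup
open scoped commutatorElement

universe u v w

namespace Rad

theorem comm_drop {G : Type v} [Group G] {x r y : G} (h : Commute r y) : ⁅x * r, y⁆ = ⁅x, y⁆ := by
  rw [commutatorElement_mul_left_eq_conj_mul, commutatorElement_eq_one_iff_commute.2 h]
  group

variable {F K : Type w} [Field F] [Field K] [Algebra F K] {G : Type v} [Group G]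

/-- The product of the five coordinates is injective as soon as the centre is faithful. -/
theorem heis_prod_injective (H : Cfsg.Agent.Lib.ExcDeg48.Heis F K G) (hZ : Function.Injective H.Z) :
    Function.Injective fun x : F × K × K × F × F => H.A (.ofAdd x.1) * H.B (.ofAdd x.2.1) *
      H.C (.ofAdd x.2.2.1) * H.D (.ofAdd x.2.2.2.1) * H.Z (.ofAdd x.2.2.2.2) := by
  have zi : ∀ {x y : F}, H.Z (.ofAdd x) = H.Z (.ofAdd y) → x = y := fun h =>
    Multiplicative.ofAdd.injective (hZ h)
  have Lsep : ∀ {x : K}, (∀ y, H.L (x * y) = 0) → x = 0 := fun {x} h => by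
    by_contra hx
    obtain ⟨c, hc⟩ := H.L_ne
    have := h (x⁻¹ * c)
    rw [mul_inv_cancel_left₀ hx] at this
    exact hc this
  have dd : ∀ x y, Commute (H.D x) (H.D y) := fun x y => (Commute.all x y).map H.D
  have cc : ∀ x y, Commute (H.C x) (H.C y) := fun x y => (Commute.all x y).map H.C
  have ad : ∀ a d, ⁅H.A (.ofAdd a), H.D (.ofAdd d)⁆ = (H.Z (.ofAdd (a * d)))⁻¹ := fun a d =>
    swap_comm (H.DA a d) (H.zA _ _) (H.zD _ _)
  have bc : ∀ b c, ⁅H.B (.ofAdd b), H.C (.ofAdd c)⁆ = (H.Z (.ofAdd (H.L (b * c))))⁻¹ := fun b c =>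
    swap_comm (H.CB b c) (H.zB _ _) (H.zC _ _)
  rintro ⟨a, b, c, d, z⟩ ⟨a', b', c', d', z'⟩ h
  simp only at h
  have ha : a = a' := by
    have key : ∀ a b c d z, ⁅H.A (.ofAdd a) * H.B b * H.C c * H.D d * H.Z z, H.D (.ofAdd 1)⁆ =
        (H.Z (.ofAdd (a * 1)))⁻¹ := fun a b c d z => by
      rw [comm_drop (H.zD _ _), comm_drop (dd _ _), comm_drop (H.CD _ _), comm_drop (H.BD _ _), ad]
    have h1 := congrArg (fun g => ⁅g, H.D (.ofAdd 1)⁆) h
    simp only [key, inv_inj] at h1
    simpa using zi h1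
  subst ha
  simp only [mul_assoc, mul_right_inj] at h
  simp only [← mul_assoc] at h
  have hb : b = b' := by
    refine sub_eq_zero.1 (Lsep fun y => ?_)
    have key : ∀ b c d z, ⁅H.B (.ofAdd b) * H.C c * H.D d * H.Z z, H.C (.ofAdd y)⁆ =
        (H.Z (.ofAdd (H.L (b * y))))⁻¹ := fun b c d z => by
      rw [comm_drop (H.zC _ _), comm_drop (H.CD _ _).symm, comm_drop (cc _ _), bc]
    have h1 := congrArg (fun g => ⁅g, H.C (.ofAdd y)⁆) h
    simp only [key, inv_inj] at h1
    rw [sub_mul, map_sub, zi h1, sub_self]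
  subst hb
  simp only [mul_assoc, mul_right_inj] at h
  simp only [← mul_assoc] at h
  have hc : c = c' := by
    refine sub_eq_zero.1 (Lsep fun y => ?_)
    have key : ∀ c d z, ⁅H.C (.ofAdd c) * H.D d * H.Z z, H.B (.ofAdd y)⁆ = H.Z (.ofAdd (H.L (y * c))) :=
      fun c d z => by
        rw [comm_drop (H.zB _ _), comm_drop (H.BD _ _).symm, ← commutatorElement_inv, bc, inv_inv]
    have h1 := congrArg (fun g => ⁅g, H.B (.ofAdd y)⁆) h
    simp only [key] at h1
    rw [sub_mul, map_sub, mul_comm c, mul_comm c', zi h1, sub_self]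
  subst hc
  simp only [mul_assoc, mul_right_inj] at h
  have hd : d = d' := by
    have key : ∀ d z, ⁅H.D (.ofAdd d) * H.Z z, H.A (.ofAdd 1)⁆ = H.Z (.ofAdd (1 * d)) := fun d z => by
      rw [comm_drop (H.zA _ _), ← commutatorElement_inv, ad, inv_inv]
    have h1 := congrArg (fun g => ⁅g, H.A (.ofAdd 1)⁆) h
    simp only [key] at h1
    simpa using zi h1
  subst hd
  rw [zi (mul_left_cancel h)]

variable (R : Rad F K G)

/-- The product of the five coordinates. -/
def prod5 (x : F × K × K × F × F) : G := R.a x.1 * R.b x.2.1 * R.c x.2.2.1 * R.d x.2.2.2.1 * R.z x.2.2.2.2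

theorem prod5_injective : Function.Injective R.prod5 := heis_prod_injective R.H R.Z_inj

theorem card_Qg_ge [Finite G] : Nat.card F * (Nat.card K * (Nat.card K * (Nat.card F * Nat.card F))) ≤
    Nat.card R.Qg := by
  rw [← Nat.card_prod, ← Nat.card_prod, ← Nat.card_prod, ← Nat.card_prod]
  refine Nat.card_le_card_of_injective (fun x => (⟨R.prod5 x, mul_mem (mul_mem (mul_mem (mul_mem (R.a_mem _)
    (R.b_mem _)) (R.c_mem _)) (R.d_mem _)) (R.z_mem _)⟩ : R.Qg)) fun x y e => ?_
  exact R.prod5_injective (congrArg Subtype.val e)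

end Rad

end Cfsg.Agent.Lib.TwMult
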