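import Cfsg.Agent.Lib.TwMult.HeisZero
import Cfsg.Agent.Lib.TwMult.HeisCard

/-!
Complements over the radical of a Heisenberg parabolic, invariant under the Levi root group.
-/

set_option autoImplicit false
set_option linter.unusedSectionVars false

namespace Cfsg.Agent.Lib.TwMult

open Subgroup
open Cfsg.Agent.Lib.Schur.Fusion (commutator_congr commutator_conj)
open scoped commutatorElement

universe u v w

namespace Rad

variable {F K : Type w} [Field F] [Field K] [Algebra F K] {G : Type v} [Group G] (R : Rad F K G)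
  {E : Type u} [Group E] {σ : E →* G} (hk : σ.ker ≤ center E) (hσ : Function.Surjective σ)

theorem h1_Qg (s : Fˣ) : ∀ x ∈ R.Qg, R.H.h1 s * x * (R.H.h1 s)⁻¹ ∈ R.Qg := by
  have h : R.Qg ≤ R.Qg.comap (MulAut.conj (R.H.h1 s)).toMonoidHom := by
    refine sup_le (sup_le (sup_le (sup_le ?_ ?_) ?_) ?_) ?_ <;> rintro _ ⟨x, rfl⟩
    · show R.H.h1 s * R.z x.toAdd * (R.H.h1 s)⁻¹ ∈ R.Qg
      rw [h1_z]; exact R.z_mem _
    · show R.H.h1 s * R.a x.toAdd * (R.H.h1 s)⁻¹ ∈ R.Qg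
      rw [h1_a]; exact R.a_mem _
    · show R.H.h1 s * R.b x.toAdd * (R.H.h1 s)⁻¹ ∈ R.Qg
      rw [h1_b]; exact R.b_mem _
    · show R.H.h1 s * R.c x.toAdd * (R.H.h1 s)⁻¹ ∈ R.Qg
      rw [h1_c]; exact R.c_mem _
    · show R.H.h1 s * R.d x.toAdd * (R.H.h1 s)⁻¹ ∈ R.Qg
      rw [h1_d]; exact R.d_mem _
  exact fun x hx => h hx

theorem h1_comm_a (s : Fˣ) (x : F) : ⁅R.H.h1 s, R.a x⁆ = R.a (((s : F) - 1) * x) := by
  rw [commutatorElement_def, h1_a, ← a_neg, a_add]; congr 1; ring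

theorem h1_comm_d (s : Fˣ) (x : F) : ⁅R.H.h1 s, R.d x⁆ = R.d (((s : F) - 1) * x) := by
  rw [commutatorElement_def, h1_d, ← d_neg, d_add]; congr 1; ring

theorem h1_comm_b (s : Fˣ) (x : K) : ⁅R.H.h1 s, R.b x⁆ = R.b (((s : F) - 1) • x) := by
  rw [commutatorElement_def, h1_b, ← b_neg, b_add]; congr 1; rw [sub_smul, one_smul]; ring

theorem h1_comm_c (s : Fˣ) (x : K) : ⁅R.H.h1 s, R.c x⁆ = R.c (((s : F) - 1) • x) := by
  rw [commutatorElement_def, h1_c, ← c_neg, c_add]; congr 1; rw [sub_smul, one_smul]; ring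

include hk hσ

/-- The torus commutators with the lifted radical. -/
noncomputable def Y1 {e : E} {s : Fˣ} (he : σ e = R.H.h1 s) : Subgroup E where
  carrier := {x | ∃ m ∈ R.Qg.comap σ, ∃ w ∈ R.Z0 hk hσ, x = ⁅e, m⁆ * w}
  one_mem' := ⟨1, one_mem _, 1, one_mem _, by simp⟩
  mul_mem' := by
    rintro _ _ ⟨m, hm, w, hw, rfl⟩ ⟨m', hm', w', hw', rfl⟩
    obtain ⟨hcent, hcl⟩ := R.class_two hk hσ
    have hm2 : ⁅e, m'⁆ ∈ R.Qg.comap σ := by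
      refine mul_mem ?_ (inv_mem hm')
      rw [mem_comap, map_mul, map_mul, map_inv, he]
      exact R.h1_Qg s _ hm'
    have hz := hcl m hm _ hm2
    refine ⟨m * m', mul_mem hm hm', (⁅m, ⁅e, m'⁆⁆)⁻¹ * (w * w'), mul_mem (inv_mem hz) (mul_mem hw hw'), ?_⟩
    have e1 : ⁅e, m * m'⁆ = ⁅e, m⁆ * (⁅m, ⁅e, m'⁆⁆ * ⁅e, m'⁆) := by
      rw [commutatorElement_mul_right_eq_mul_conj, commutatorElement_def m ⁅e, m'⁆]
      group
    rw [e1, (hcent _ hz _ hm2).eq,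
      show ⁅e, m⁆ * w * (⁅e, m'⁆ * w') = ⁅e, m⁆ * (w * ⁅e, m'⁆) * w' by simp only [mul_assoc],
      (hcent _ hw _ hm2).eq]
    group
  inv_mem' := by
    rintro _ ⟨m, hm, w, hw, rfl⟩
    obtain ⟨hcent, hcl⟩ := R.class_two hk hσ
    have hm1 : ∀ m ∈ R.Qg.comap σ, ⁅e, m⁆ ∈ R.Qg.comap σ := fun m hm => by
      refine mul_mem ?_ (inv_mem hm)
      rw [mem_comap, map_mul, map_mul, map_inv, he]
      exact R.h1_Qg s _ hm
    have hz := hcl m hm _ (hm1 _ (inv_mem hm))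
    refine ⟨m⁻¹, inv_mem hm, ⁅m, ⁅e, m⁻¹⁆⁆ * w⁻¹, mul_mem hz (inv_mem hw), ?_⟩
    have e1 : ⁅e, m⁆ * (⁅m, ⁅e, m⁻¹⁆⁆ * ⁅e, m⁻¹⁆) = 1 := by
      rw [show ⁅m, ⁅e, m⁻¹⁆⁆ * ⁅e, m⁻¹⁆ = m * ⁅e, m⁻¹⁆ * m⁻¹ by rw [commutatorElement_def m ⁅e, m⁻¹⁆]; group,
        ← mul_assoc, ← mul_assoc, ← commutatorElement_mul_right_eq_mul_conj, mul_inv_cancel,
        commutatorElement_one_right]
    have e2 : (⁅e, m⁆)⁻¹ = ⁅e, m⁻¹⁆ * ⁅m, ⁅e, m⁻¹⁆⁆ := by
      rw [inv_eq_of_mul_eq_one_right e1, (hcent _ hz _ (hm1 _ (inv_mem hm))).eq]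
    rw [mul_inv_rev, e2, (hcent _ (inv_mem hw) _ (mul_mem (hm1 _ (inv_mem hm)) (R.Z0_le hk hσ hz))).eq, mul_assoc]

theorem Z_comm : ∀ x ∈ R.H.Z.range, ∀ y ∈ R.Qg, Commute x y := by
  rintro _ ⟨x, rfl⟩ y hy
  obtain ⟨Y, rfl⟩ := hσ y
  have h := (R.class_two hk hσ).1 _ (R.f_mem hk hσ (-x.toAdd)) Y (mem_comap.2 hy)
  have h2 := congrArg σ h.eq
  rw [map_mul, map_mul, R.σ_f, neg_neg] at h2
  exact h2

/-- With a scalar different from one. -/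
theorem exists_complement_big [Finite G] {s : Fˣ} (hs : (s : F) ≠ 1) :
    ∃ Y : Subgroup E, IsComp σ R.Qg Y ∧ ∀ e t, σ e = R.H.u t → ∀ y ∈ Y, e * y * e⁻¹ ∈ Y := by
  obtain ⟨eh, he⟩ := hσ (R.H.h1 s)
  have hs1 : (s : F) - 1 ≠ 0 := sub_ne_zero.2 hs
  have hh : ∀ m ∈ R.Qg.comap σ, ⁅eh, m⁆ ∈ R.Qg.comap σ := fun m hm => by
    refine mul_mem ?_ (inv_mem hm)
    rw [mem_comap, map_mul, map_mul, map_inv, he]
    exact R.h1_Qg s _ hm
  have hmap : (R.Y1 hk hσ he).map σ = R.Qg := by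
    refine le_antisymm ?_ ?_
    · rintro _ ⟨_, ⟨m, hm, w, hw, rfl⟩, rfl⟩
      exact mem_comap.1 (mul_mem (hh m hm) (R.Z0_le hk hσ hw))
    · have key : ∀ {g : G}, g ∈ R.Qg → ⁅R.H.h1 s, g⁆ ∈ (R.Y1 hk hσ he).map σ := fun {g} hg =>
        ⟨⁅eh, lift hσ g⁆, ⟨lift hσ g, by rw [mem_comap, σ_lift]; exact hg, 1, one_mem _, (mul_one _).symm⟩,
          by rw [map_commutatorElement, he, σ_lift]⟩
      refine R.gens_closure.ge.trans ((closure_le _).2 ?_)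
      rintro g (⟨x, rfl⟩ | ⟨x, rfl⟩ | ⟨x, rfl⟩ | ⟨x, rfl⟩ | ⟨x, rfl⟩)
      · exact ⟨R.f hσ (-x), ⟨1, one_mem _, _, R.f_mem hk hσ (-x), by simp⟩, by rw [σ_f, neg_neg]⟩
      · have := key (R.a_mem (x / ((s : F) - 1)))
        rwa [h1_comm_a, mul_div_cancel₀ _ hs1] at this
      · have := key (R.b_mem (((s : F) - 1)⁻¹ • x))
        rwa [h1_comm_b, smul_smul, mul_inv_cancel₀ hs1, one_smul] at this
      · have := key (R.c_mem (((s : F) - 1)⁻¹ • x))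
        rwa [h1_comm_c, smul_smul, mul_inv_cancel₀ hs1, one_smul] at this
      · have := key (R.d_mem (x / ((s : F) - 1)))
        rwa [h1_comm_d, mul_div_cancel₀ _ hs1] at this
  -- the torus element fixes only the centre modulo the centre
  have hfix : ∀ g ∈ R.Qg, ⁅R.H.h1 s, g⁆ ∈ R.H.Z.range → g ∈ R.H.Z.range := by
    set Zs := R.H.Z.range.subgroupOf R.Qg with hZs
    let ψ : ↥R.Qg ⧸ Zs → ↥R.Qg ⧸ Zs := Quotient.lift
      (fun g => QuotientGroup.mk (⟨⁅R.H.h1 s, (g : G)⁆,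
        mul_mem (R.h1_Qg s _ g.2) (inv_mem g.2)⟩ : ↥R.Qg)) (by
        intro g g' hgg
        replace hgg := mem_subgroupOf.1 (QuotientGroup.leftRel_apply.1 hgg)
        rw [QuotientGroup.eq, mem_subgroupOf]
        set w := (g : G)⁻¹ * (g' : G)
        have hw : w ∈ R.H.Z.range := hgg
        show (⁅R.H.h1 s, (g : G)⁆)⁻¹ * ⁅R.H.h1 s, (g' : G)⁆ ∈ R.H.Z.range
        rw [show (g' : G) = (g : G) * w by simp [w]]
        have h1 : ⁅R.H.h1 s, w⁆ ∈ R.H.Z.range := by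
          obtain ⟨x, hx⟩ := hw
          rw [← hx, commutatorElement_def, show R.H.h1 s * R.H.Z x * (R.H.h1 s)⁻¹ = R.z ((s : F) ^ 2 * x.toAdd)
            from R.h1_z s x.toAdd]
          exact mul_mem ⟨_, rfl⟩ (inv_mem ⟨x, rfl⟩)
        rw [commutatorElement_mul_right_eq_mul_conj, mul_assoc, mul_assoc, inv_mul_cancel_left, ← mul_assoc,
          ← (R.Z_comm hk hσ _ h1 _ g.2).eq, mul_inv_cancel_right]
        exact h1)
    have hψ : Function.Surjective ψ := by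
      intro c
      obtain ⟨⟨g, hg⟩, rfl⟩ := QuotientGroup.mk_surjective c
      rw [← hmap] at hg
      obtain ⟨_, ⟨m, hm, w, hw, rfl⟩, rfl⟩ := hg
      refine ⟨QuotientGroup.mk ⟨σ m, hm⟩, ?_⟩
      show (QuotientGroup.mk _ : ↥R.Qg ⧸ Zs) = QuotientGroup.mk _
      rw [QuotientGroup.eq, mem_subgroupOf]
      show (⁅R.H.h1 s, σ m⁆)⁻¹ * σ (⁅eh, m⁆ * w) ∈ R.H.Z.range
      rw [map_mul, map_commutatorElement, he, inv_mul_cancel_left]
      exact (R.Z0_comp hk hσ).mem hw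
    intro g hg h
    have h1 : ψ (QuotientGroup.mk ⟨g, hg⟩) = ψ (QuotientGroup.mk 1) := by
      show (QuotientGroup.mk _ : ↥R.Qg ⧸ Zs) = QuotientGroup.mk _
      rw [QuotientGroup.eq, mem_subgroupOf]
      show (⁅R.H.h1 s, g⁆)⁻¹ * ⁅R.H.h1 s, ((1 : ↥R.Qg) : G)⁆ ∈ R.H.Z.range
      rw [coe_one, commutatorElement_one_right, mul_one]
      exact inv_mem h
    have h2 := Finite.injective_iff_surjective.2 hψ h1
    rw [QuotientGroup.eq, mem_subgroupOf] at h2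
    simpa using h2
  refine ⟨R.Y1 hk hσ he, ⟨hmap, ?_⟩, ?_⟩
  · rw [eq_bot_iff]
    intro x hx
    obtain ⟨⟨m, hm, w, hw, rfl⟩, hx1⟩ := mem_inf.1 hx
    have hZ := (R.Z0_comp hk hσ)
    have h1 : ⁅R.H.h1 s, σ m⁆ ∈ R.H.Z.range := by
      have h := MonoidHom.mem_ker.1 hx1
      rw [map_mul, map_commutatorElement, he, mul_eq_one_iff_eq_inv] at h
      rw [h]
      exact inv_mem (hZ.mem hw)
    obtain ⟨z1, hz1, e1⟩ := hZ.exists_mem (hfix _ hm h1)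
    have h2 : ⁅eh, m⁆ ∈ R.Z0 hk hσ := by
      rw [commutator_congr hk rfl e1.symm, commutatorElement_def]
      obtain ⟨y, rfl⟩ := (R.mem_Z0 hk hσ).1 hz1
      rw [R.h1_f hk hσ he]
      exact mul_mem (R.f_mem hk hσ _) (inv_mem (R.f_mem hk hσ _))
    rw [← hZ.2]
    exact mem_inf.2 ⟨mul_mem h2 hw, hx1⟩
  · rintro e t ht _ ⟨m, hm, w, hw, rfl⟩
    refine ⟨e * m * e⁻¹, R.Qg_u hk ht m hm, w, hw, ?_⟩
    have h1 : e * ⁅eh, m⁆ * e⁻¹ = ⁅eh, e * m * e⁻¹⁆ := by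
      rw [conjugate_commutatorElement]
      refine commutator_congr hk ?_ rfl
      rw [map_mul, map_mul, map_inv, he, ht, ← (R.h1u s t).eq, mul_inv_cancel_right]
    rw [← h1]
    conv_rhs => rw [← R.Z0_u hk hσ ht w hw]
    group

end Rad

end Cfsg.Agent.Lib.TwMult
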