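import Cfsg.Agent.Lib.TwMult.LiftComm
import Cfsg.Agent.Lib.ExcDeg48.D4Abstract

/-!
The radical of a Heisenberg parabolic: commuting lifts in central extensions.
-/

set_option autoImplicit false
set_option linter.unusedSectionVars false

namespace Cfsg.Agent.Lib.TwMult

open Subgroup
open Cfsg.Agent.Lib.ExcDeg48
open scoped commutatorElement

universe u v w

/-- What is needed beyond the relations of a Heisenberg parabolic. -/
structure Rad (F : Type w) (K : Type w) [Field F] [Field K] [Algebra F K] (G : Type v) [Group G] where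
  H : Heis F K G
  Z_inj : Function.Injective H.Z
  u_add : ∀ s t, H.u s * H.u t = H.u (s + t)
  hku : ∀ (k : Kˣ) t, H.hk k * H.u t = H.u ((k : K) ^ 2 * t) * H.hk k
  h1u : ∀ s t, Commute (H.h1 s) (H.u t)
  Au1 : ∃ z, H.A (.ofAdd 1) * H.u 1 =
    H.u 1 * (H.A (.ofAdd 1) * H.B (.ofAdd (-1)) * H.C (.ofAdd 1) * H.D (.ofAdd H.e) * H.Z z)
  u_norm : ∀ t, ∀ x ∈ H.Z.range ⊔ H.A.range ⊔ H.B.range ⊔ H.C.range ⊔ H.D.range,
    H.u t * x * (H.u t)⁻¹ ∈ H.Z.range ⊔ H.A.range ⊔ H.B.range ⊔ H.C.range ⊔ H.D.range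
  hk_pow : ∀ k, H.hk k ^ Nat.card Kˣ = 1
  N_surj : ∀ a : F, a ≠ 0 → ∃ k : Kˣ, H.N k = a
  dec : ∀ z : Kˣ, ∃ (s : Fˣ) (k : Kˣ), (z : K) = (s : F) • (k : K) ^ 2
  k0 : ∃ k : Kˣ, H.N k = 1 ∧ (k : K) ^ 2 ≠ 1
  big : ∃ x y : K, x ≠ 0 ∧ x ≠ 1 ∧ y ≠ 0 ∧ y ≠ 1 ∧ x + y ≠ 0 ∧ x + y ≠ 1
  p : ℕ
  p_cast : (p : F) = 0
  p_cop : p.Coprime (Nat.card Kˣ)

namespace Rad

variable {F K : Type w} [Field F] [Field K] [Algebra F K] {G : Type v} [Group G] (R : Rad F K G)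

/-- The elements of the lowest root group. -/
def a (x : F) : G := R.H.A (.ofAdd x)

/-- The elements of the second root group. -/
def b (x : K) : G := R.H.B (.ofAdd x)

/-- The elements of the third root group. -/
def c (x : K) : G := R.H.C (.ofAdd x)

/-- The elements of the highest root group. -/
def d (x : F) : G := R.H.D (.ofAdd x)

/-- The elements of the centre. -/
def z (x : F) : G := R.H.Z (.ofAdd x)

/-- The radical. -/
def Qg : Subgroup G := R.H.Z.range ⊔ R.H.A.range ⊔ R.H.B.range ⊔ R.H.C.range ⊔ R.H.D.range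

theorem a_add (x y : F) : R.a x * R.a y = R.a (x + y) := (map_mul R.H.A _ _).symm
theorem b_add (x y : K) : R.b x * R.b y = R.b (x + y) := (map_mul R.H.B _ _).symm
theorem c_add (x y : K) : R.c x * R.c y = R.c (x + y) := (map_mul R.H.C _ _).symm
theorem d_add (x y : F) : R.d x * R.d y = R.d (x + y) := (map_mul R.H.D _ _).symm
theorem z_add (x y : F) : R.z x * R.z y = R.z (x + y) := (map_mul R.H.Z _ _).symm

theorem a_zero : R.a 0 = 1 := map_one R.H.A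
theorem b_zero : R.b 0 = 1 := map_one R.H.B
theorem c_zero : R.c 0 = 1 := map_one R.H.C
theorem d_zero : R.d 0 = 1 := map_one R.H.D
theorem z_zero : R.z 0 = 1 := map_one R.H.Z

theorem a_neg (x : F) : R.a (-x) = (R.a x)⁻¹ := map_inv R.H.A _
theorem b_neg (x : K) : R.b (-x) = (R.b x)⁻¹ := map_inv R.H.B _
theorem c_neg (x : K) : R.c (-x) = (R.c x)⁻¹ := map_inv R.H.C _
theorem d_neg (x : F) : R.d (-x) = (R.d x)⁻¹ := map_inv R.H.D _
theorem z_neg (x : F) : R.z (-x) = (R.z x)⁻¹ := map_inv R.H.Z _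

theorem z_inj {x y : F} (h : R.z x = R.z y) : x = y := Multiplicative.ofAdd.injective (R.Z_inj h)

theorem u_zero : R.H.u 0 = 1 := by
  have h := R.u_add 0 0
  rwa [add_zero, mul_eq_left] at h

theorem u_neg (t : K) : R.H.u (-t) = (R.H.u t)⁻¹ :=
  eq_inv_of_mul_eq_one_left (by rw [R.u_add, neg_add_cancel, R.u_zero])

theorem za (x y : F) : Commute (R.z x) (R.a y) := R.H.zA _ _
theorem zb (x : F) (y : K) : Commute (R.z x) (R.b y) := R.H.zB _ _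
theorem zc (x : F) (y : K) : Commute (R.z x) (R.c y) := R.H.zC _ _
theorem zd (x y : F) : Commute (R.z x) (R.d y) := R.H.zD _ _
theorem zz (x y : F) : Commute (R.z x) (R.z y) := by rw [Commute, SemiconjBy, z_add, z_add, add_comm]
theorem aa (x y : F) : Commute (R.a x) (R.a y) := by rw [Commute, SemiconjBy, a_add, a_add, add_comm]
theorem bb (x y : K) : Commute (R.b x) (R.b y) := by rw [Commute, SemiconjBy, b_add, b_add, add_comm]
theorem cc (x y : K) : Commute (R.c x) (R.c y) := by rw [Commute, SemiconjBy, c_add, c_add, add_comm]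
theorem dd (x y : F) : Commute (R.d x) (R.d y) := by rw [Commute, SemiconjBy, d_add, d_add, add_comm]
theorem ab (x : F) (y : K) : Commute (R.a x) (R.b y) := R.H.AB _ _
theorem ac (x : F) (y : K) : Commute (R.a x) (R.c y) := R.H.AC _ _
theorem bd (x : K) (y : F) : Commute (R.b x) (R.d y) := R.H.BD _ _
theorem cd (x : K) (y : F) : Commute (R.c x) (R.d y) := R.H.CD _ _
theorem ud (t : K) (y : F) : Commute (R.H.u t) (R.d y) := R.H.uD _ _
theorem zu (x : F) (t : K) : Commute (R.z x) (R.H.u t) := R.H.zu _ _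

omit R in
theorem swap_comm {a d z : G} (h : d * a = a * d * z) (hza : Commute z a) (hzd : Commute z d) :
    ⁅a, d⁆ = z⁻¹ := by
  have h' : a * d = d * a * z⁻¹ := by rw [h]; group
  rw [commutatorElement_def, h', mul_assoc (d * a), hza.inv_inv.eq, ← mul_assoc (d * a), mul_inv_cancel_right,
    mul_assoc d, hzd.inv_inv.eq, ← mul_assoc, mul_inv_cancel, one_mul]

theorem comm_ad (x y : F) : ⁅R.a x, R.d y⁆ = R.z (-(x * y)) := by
  rw [z_neg]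
  exact swap_comm (R.H.DA x y) (R.za _ _) (R.zd _ _)

theorem comm_bc (x y : K) : ⁅R.b x, R.c y⁆ = R.z (-R.H.L (x * y)) := by
  rw [z_neg]
  exact swap_comm (R.H.CB x y) (R.zb _ _) (R.zc _ _)

theorem d_eq_comm (t x : K) : R.d (R.H.L (t * x)) = ⁅R.c (-x), R.H.u (-t)⁆ := by
  have h : R.c x * R.H.u t = R.H.u t * (R.c x * R.d (R.H.L (t * x))) := R.H.Cu t x
  rw [commutatorElement_def, R.c_neg, R.u_neg, inv_inv, inv_inv, mul_assoc ((R.c x)⁻¹ * (R.H.u t)⁻¹),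
    h, ← mul_assoc, mul_assoc (R.c x)⁻¹, inv_mul_cancel, mul_one, inv_mul_cancel_left]

theorem L_surj (y : F) : ∃ x, R.H.L x = y := by
  obtain ⟨x, hx⟩ := R.H.L_ne
  exact ⟨(y / R.H.L x) • x, by rw [map_smul, smul_eq_mul, div_mul_cancel₀ _ hx]⟩

theorem exists_d_eq (y : F) : ∃ x, R.d y = ⁅R.c x, R.H.u (-1)⁆ := by
  obtain ⟨x, rfl⟩ := R.L_surj y
  exact ⟨-x, by rw [← R.d_eq_comm, one_mul]⟩

theorem hk_a (k : Kˣ) (x : F) : R.H.hk k * R.a x * (R.H.hk k)⁻¹ = R.a ((R.H.N k)⁻¹ * x) :=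
  mul_inv_eq_iff_eq_mul.2 (R.H.hkA k x)

theorem hk_d (k : Kˣ) (x : F) : R.H.hk k * R.d x * (R.H.hk k)⁻¹ = R.d (R.H.N k * x) :=
  mul_inv_eq_iff_eq_mul.2 (R.H.hkD k x)

theorem hk_b (k : Kˣ) (x : K) :
    R.H.hk k * R.b x * (R.H.hk k)⁻¹ = R.b ((R.H.N k)⁻¹ • ((k : K) ^ 2 * x)) :=
  mul_inv_eq_iff_eq_mul.2 (R.H.hkB k x)

theorem hk_c (k : Kˣ) (x : K) :
    R.H.hk k * R.c x * (R.H.hk k)⁻¹ = R.c (R.H.N k • ((k : K)⁻¹ ^ 2 * x)) :=
  mul_inv_eq_iff_eq_mul.2 (R.H.hkC k x)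

theorem hk_u (k : Kˣ) (t : K) : R.H.hk k * R.H.u t * (R.H.hk k)⁻¹ = R.H.u ((k : K) ^ 2 * t) :=
  mul_inv_eq_iff_eq_mul.2 (R.hku k t)

theorem hk_z (k : Kˣ) (x : F) : Commute (R.H.hk k) (R.z x) := R.H.hkZ _ _

theorem h1_a (s : Fˣ) (x : F) : R.H.h1 s * R.a x * (R.H.h1 s)⁻¹ = R.a ((s : F) * x) :=
  mul_inv_eq_iff_eq_mul.2 (R.H.h1A s x)

theorem h1_d (s : Fˣ) (x : F) : R.H.h1 s * R.d x * (R.H.h1 s)⁻¹ = R.d ((s : F) * x) :=
  mul_inv_eq_iff_eq_mul.2 (R.H.h1D s x)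

theorem h1_b (s : Fˣ) (x : K) : R.H.h1 s * R.b x * (R.H.h1 s)⁻¹ = R.b ((s : F) • x) :=
  mul_inv_eq_iff_eq_mul.2 (R.H.h1B s x)

theorem h1_c (s : Fˣ) (x : K) : R.H.h1 s * R.c x * (R.H.h1 s)⁻¹ = R.c ((s : F) • x) :=
  mul_inv_eq_iff_eq_mul.2 (R.H.h1C s x)

theorem h1_z (s : Fˣ) (x : F) : R.H.h1 s * R.z x * (R.H.h1 s)⁻¹ = R.z ((s : F) ^ 2 * x) :=
  mul_inv_eq_iff_eq_mul.2 (R.H.h1Z s x)

theorem z_mem (x : F) : R.z x ∈ R.Qg :=
  mem_sup_left (mem_sup_left (mem_sup_left (mem_sup_left ⟨_, rfl⟩)))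

theorem a_mem (x : F) : R.a x ∈ R.Qg := mem_sup_left (mem_sup_left (mem_sup_left (mem_sup_right ⟨_, rfl⟩)))
theorem b_mem (x : K) : R.b x ∈ R.Qg := mem_sup_left (mem_sup_left (mem_sup_right ⟨_, rfl⟩))
theorem c_mem (x : K) : R.c x ∈ R.Qg := mem_sup_left (mem_sup_right ⟨_, rfl⟩)
theorem d_mem (x : F) : R.d x ∈ R.Qg := mem_sup_right ⟨_, rfl⟩

theorem z_pow (x : F) : R.z x ^ R.p = 1 := by
  rw [z, ← map_pow, ← ofAdd_nsmul, nsmul_eq_mul, R.p_cast, zero_mul, ofAdd_zero, map_one]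

section Lift

variable {E : Type u} [Group E] {σ : E →* G} (hk : σ.ker ≤ center E) (hσ : Function.Surjective σ)

include hk hσ

/-- `x` is a commutator of a torus element fixing `y` with an element commuting with `y`. -/
theorem exists_k0 : ∃ k : Kˣ, R.H.N k = 1 ∧ (k : K) ^ 2 - 1 ≠ 0 ∧ (k : K)⁻¹ ^ 2 - 1 ≠ 0 := by
  obtain ⟨k, hN, h2⟩ := R.k0
  refine ⟨k, hN, sub_ne_zero.2 h2, sub_ne_zero.2 fun h => h2 ?_⟩
  rwa [inv_pow, inv_eq_one] at h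

theorem lc_b {y : G} (x : K) (h1 : ∀ k : Kˣ, R.H.N k = 1 → Commute (R.H.hk k) y) (h2 : ∀ x', Commute (R.b x') y) :
    LC σ (R.b x) y := by
  obtain ⟨k, hN, hne, -⟩ := R.exists_k0 hk hσ
  refine LC.of_commutator hk hσ (h := R.H.hk k) (g' := R.b (x / ((k : K) ^ 2 - 1))) ?_ (h1 k hN) (h2 _)
  rw [commutatorElement_def, hk_b, hN, inv_one, one_smul, ← b_neg, b_add]
  congr 1
  field_simp
  ring

theorem lc_c {y : G} (x : K) (h1 : ∀ k : Kˣ, R.H.N k = 1 → Commute (R.H.hk k) y) (h2 : ∀ x', Commute (R.c x') y) :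
    LC σ (R.c x) y := by
  obtain ⟨k, hN, -, hne⟩ := R.exists_k0 hk hσ
  refine LC.of_commutator hk hσ (h := R.H.hk k) (g' := R.c (x / ((k : K)⁻¹ ^ 2 - 1))) ?_ (h1 k hN) (h2 _)
  rw [commutatorElement_def, hk_c, hN, one_smul, ← c_neg, c_add]
  congr 1
  revert hne
  generalize (k : K)⁻¹ ^ 2 = j
  intro hne
  field_simp
  ring

theorem lc_u {y : G} (x : K) (h1 : ∀ k : Kˣ, R.H.N k = 1 → Commute (R.H.hk k) y) (h2 : ∀ x', Commute (R.H.u x') y) :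
    LC σ (R.H.u x) y := by
  obtain ⟨k, hN, hne, -⟩ := R.exists_k0 hk hσ
  refine LC.of_commutator hk hσ (h := R.H.hk k) (g' := R.H.u (x / ((k : K) ^ 2 - 1))) ?_ (h1 k hN) (h2 _)
  rw [commutatorElement_def, hk_u, ← u_neg, R.u_add]
  congr 1
  field_simp
  ring

omit hk hσ in
theorem hk_fix_a {k : Kˣ} (hN : R.H.N k = 1) (x : F) : Commute (R.H.hk k) (R.a x) :=
  mul_inv_eq_iff_eq_mul.1 (by rw [hk_a, hN, inv_one, one_mul])

omit hk hσ in
theorem hk_fix_d {k : Kˣ} (hN : R.H.N k = 1) (x : F) : Commute (R.H.hk k) (R.d x) :=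
  mul_inv_eq_iff_eq_mul.1 (by rw [hk_d, hN, one_mul])

theorem lc_zb (x : F) (y : K) : LC σ (R.z x) (R.b y) :=
  (R.lc_b hk hσ y (fun k _ => R.hk_z k x) fun _ => (R.zb _ _).symm).symm

theorem lc_zc (x : F) (y : K) : LC σ (R.z x) (R.c y) :=
  (R.lc_c hk hσ y (fun k _ => R.hk_z k x) fun _ => (R.zc _ _).symm).symm

theorem lc_zu (x : F) (t : K) : LC σ (R.z x) (R.H.u t) :=
  (R.lc_u hk hσ t (fun k _ => R.hk_z k x) fun _ => (R.zu _ _).symm).symm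

theorem lc_ab (x : F) (y : K) : LC σ (R.a x) (R.b y) :=
  (R.lc_b hk hσ y (fun _ h => R.hk_fix_a h x) fun _ => (R.ab _ _).symm).symm

theorem lc_ac (x : F) (y : K) : LC σ (R.a x) (R.c y) :=
  (R.lc_c hk hσ y (fun _ h => R.hk_fix_a h x) fun _ => (R.ac _ _).symm).symm

theorem lc_bd (x : K) (y : F) : LC σ (R.b x) (R.d y) :=
  R.lc_b hk hσ x (fun _ h => R.hk_fix_d h y) fun _ => R.bd _ _

theorem lc_cd (x : K) (y : F) : LC σ (R.c x) (R.d y) :=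
  R.lc_c hk hσ x (fun _ h => R.hk_fix_d h y) fun _ => R.cd _ _

theorem lc_dd (x y : F) : LC σ (R.d x) (R.d y) := by
  obtain ⟨c, hc⟩ := R.exists_d_eq x
  exact LC.of_commutator hk hσ hc (R.cd _ _) (R.ud _ _)

theorem lc_zd (x y : F) : LC σ (R.z x) (R.d y) := by
  obtain ⟨c, hc⟩ := R.exists_d_eq y
  exact (LC.of_commutator hk hσ hc (R.zc _ _).symm (R.zu _ _).symm).symm

theorem exists_w_a (x : F) : ∃ y, R.a x = R.H.w⁻¹ * R.d y * R.H.w⁻¹⁻¹ := by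
  obtain ⟨e, he, h⟩ := R.H.wA
  exact ⟨e * x, by rw [inv_inv, mul_assoc, show R.d (e * x) * R.H.w = R.H.w * R.a x from (h x).symm,
    inv_mul_cancel_left]⟩

theorem exists_w_z (x : F) : ∃ y, R.z x = R.H.w⁻¹ * R.z y * R.H.w⁻¹⁻¹ := by
  obtain ⟨e, he, h⟩ := R.H.wZ
  exact ⟨e * x, by rw [inv_inv, mul_assoc, show R.z (e * x) * R.H.w = R.H.w * R.z x from (h x).symm,
    inv_mul_cancel_left]⟩

theorem lc_za (x y : F) : LC σ (R.z x) (R.a y) := by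
  obtain ⟨x', hx⟩ := R.exists_w_z hk hσ x
  obtain ⟨y', hy⟩ := R.exists_w_a hk hσ y
  rw [hx, hy]
  exact (R.lc_zd hk hσ x' y').conj hσ _

theorem lc_aa (x y : F) : LC σ (R.a x) (R.a y) := by
  obtain ⟨x', hx⟩ := R.exists_w_a hk hσ x
  obtain ⟨y', hy⟩ := R.exists_w_a hk hσ y
  rw [hx, hy]
  exact (R.lc_dd hk hσ x' y').conj hσ _

theorem lc_zz (x y : F) : LC σ (R.z x) (R.z y) := by
  refine LC.of_commutator hk hσ (h := R.a (-x)) (g' := R.d 1) ?_ (R.za _ _).symm (R.zd _ _).symm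
  rw [comm_ad, mul_one, neg_neg]

theorem lc_hk_z (k : Kˣ) (x : F) : LC σ (R.H.hk k) (R.z x) :=
  LC.of_coprime hk (R.hk_z k x) (R.hk_pow k) (R.z_pow x) R.p_cop.symm

end Lift

end Rad

end Cfsg.Agent.Lib.TwMult
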