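import Mathlib
import Cfsg.Prelude.Def_KGroupFacts

/-!
Central extensions with kernel of order prime to the unipotent part split over a group with a split
(B,N)-pair of rank two, as soon as they split over the two subgroups of rank one: the unique lifts of
the elements of order prime to the kernel generate a complement.
-/

set_option autoImplicit false
set_option linter.unusedSectionVars false

namespace Cfsg.Agent.Lib.TwMult

open Subgroup
open scoped Pointwise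

universe u v

/-- Two involutive elements modulo a normalised subgroup: an equality of alternating products gives
the relation of the product. -/
theorem pow_mul_pow_mem {E : Type u} [Group E] (A : Subgroup E) {a b : E}
    (ha : a * a ∈ A) (hb : b * b ∈ A) (hna : ∀ x ∈ A, a * x * a⁻¹ ∈ A) (hnb : ∀ x ∈ A, b * x * b⁻¹ ∈ A) :
    ∀ j : ℕ, (a * b) ^ j * (b * a) ^ j ∈ A
  | 0 => by simp
  | j + 1 => by
    have h1 : a * (b * b) * a ∈ A := by
      have := mul_mem (hna _ hb) ha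
      convert this using 1; group
    have h2 : ∀ (n : ℕ), ∀ x ∈ A, (a * b) ^ n * x * ((a * b) ^ n)⁻¹ ∈ A := by
      intro n
      induction n with
      | zero => intro x hx; simpa using hx
      | succ n ih =>
        intro x hx
        have := ih _ (hna _ (hnb _ hx))
        convert this using 1; rw [pow_succ]; group
    have := mul_mem (h2 j _ h1) (pow_mul_pow_mem A ha hb hna hnb j)
    convert this using 1
    rw [pow_succ, pow_succ']
    simp only [mul_assoc, inv_mul_cancel_left]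

theorem pow_card_mem {G : Type v} [Group G] {U : Subgroup G} {u : G} (hu : u ∈ U) :
    u ^ Nat.card U = 1 := by
  have := congrArg Subtype.val (pow_card_eq_one' (x := (⟨u, hu⟩ : U)))
  rwa [SubgroupClass.coe_pow, coe_one] at this

/-- The data of a split (B,N)-pair of rank two. -/
structure Frame (G : Type v) [Group G] where
  U : Subgroup G
  N : Subgroup G
  H : Subgroup G
  n : Fin 2 → G
  Ui : Fin 2 → Subgroup G
  Uc : Fin 2 → Subgroup G
  L : Fin 2 → Subgroup G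
  L_eq : ∀ i, L i = Ui i ⊔ (Ui i).map (MulAut.conj (n i)).toMonoidHom
  n_mem_L : ∀ i, n i ∈ L i
  n_mem : ∀ i, n i ∈ N
  H_le : H ≤ N
  n_sq : ∀ i, n i * n i ∈ H
  n_conj : ∀ i, ∀ h ∈ H, n i * h * (n i)⁻¹ ∈ H
  H_comm : ∀ a ∈ H, ∀ b ∈ H, a * b = b * a
  H_conj : ∀ h ∈ H, ∀ u ∈ U, h * u * h⁻¹ ∈ U
  H_conj_Ui : ∀ i, ∀ h ∈ H, ∀ u ∈ Ui i, h * u * h⁻¹ ∈ Ui i
  Ui_le : ∀ i, Ui i ≤ U
  Uc_le : ∀ i, Uc i ≤ U
  split : ∀ i, ∀ u ∈ U, ∃ a ∈ Uc i, ∃ c ∈ Ui i, u = a * c
  n_Uc : ∀ i, ∀ a ∈ Uc i, n i * a * (n i)⁻¹ ∈ Uc i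
  borel_N : ∀ u ∈ U, ∀ h ∈ H, u * h ∈ N → u = 1
  tri : ∀ x ∈ N, ∀ i, (∀ u ∈ Ui i, x⁻¹ * u * x ∈ U) ∨
    (∀ u ∈ Ui i, ((n i)⁻¹ * x)⁻¹ * u * ((n i)⁻¹ * x) ∈ U)
  one : ∀ i, ∀ u ∈ Ui i, (∃ a ∈ Ui i, ∃ h ∈ H, n i * u * n i = a * h) ∨
    (∃ a ∈ Ui i, ∃ b ∈ Ui i, ∃ h ∈ H, n i * u * n i = a * n i * b * h)
  top : ⨆ i, L i = ⊤
  k : ℕ
  k_pos : 0 < k
  braid : ∀ u ∈ Ui 1, (n 0 * n 1) ^ (k - 1) * n 0 * u * ((n 0 * n 1) ^ (k - 1) * n 0)⁻¹ ∈ L 1 ∧
    (n 0 * n 1) ^ (k - 1) * n 0 * (n 1 * u * (n 1)⁻¹) * ((n 0 * n 1) ^ (k - 1) * n 0)⁻¹ ∈ L 1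
  braid_n : (n 1)⁻¹ * ((n 0 * n 1) ^ (k - 1) * n 0 * n 1 * ((n 0 * n 1) ^ (k - 1) * n 0)⁻¹) ∈ H
  inj1 : ∀ j, 0 < j → j < 2 * k → (n 0 * n 1) ^ j ∉ H
  inj2 : ∀ j, j < 2 * k → (n 0 * n 1) ^ j * n 0 ∉ H
  indep : ∀ a ∈ H ⊓ L 0, ∀ b ∈ H ⊓ L 1, a * b = 1 → a = 1

section Lift

variable {G : Type v} [Group G] {E : Type u} [Group E] (σ : E →* G)

/-- An element whose order is prime to the order of the kernel. -/
def Lft (x : E) : Prop := ∃ m : ℕ, m.Coprime (Nat.card σ.ker) ∧ x ^ m = 1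

variable {σ}

theorem lft_conj (e : E) {x : E} (h : Lft σ x) : Lft σ (e * x * e⁻¹) := by
  obtain ⟨m, hm, hx⟩ := h
  exact ⟨m, hm, by rw [conj_pow, hx, mul_one, mul_inv_cancel]⟩

theorem lft_unique (hk : σ.ker ≤ center E) {x y : E} (hx : Lft σ x) (hy : Lft σ y) (h : σ x = σ y) :
    x = y := by
  obtain ⟨m, hm, hxm⟩ := hx
  obtain ⟨n, hn, hyn⟩ := hy
  have hz : x⁻¹ * y ∈ σ.ker := by simp [MonoidHom.mem_ker, h]
  have hc : Commute x (x⁻¹ * y) := mem_center_iff.1 (hk hz) x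
  have hxy : y = x * (x⁻¹ * y) := (mul_inv_cancel_left x y).symm
  have h1 : (x⁻¹ * y) ^ (m * n) = 1 := by
    have : y ^ (m * n) = x ^ (m * n) * (x⁻¹ * y) ^ (m * n) := by
      conv_lhs => rw [hxy]
      exact hc.mul_pow _
    rw [mul_comm m n, pow_mul, hyn, one_pow, mul_comm n m, pow_mul, hxm, one_pow, one_mul] at this
    exact this.symm
  have h2 : (x⁻¹ * y) ^ Nat.card σ.ker = 1 := by
    have := pow_card_eq_one' (x := (⟨_, hz⟩ : σ.ker))
    simpa using congrArg Subtype.val this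
  have h3 := pow_gcd_eq_one.2 ⟨h1, h2⟩
  rw [Nat.Coprime.gcd_eq_one (Nat.Coprime.mul_left hm hn), pow_one] at h3
  exact inv_mul_eq_one.1 h3

/-- A complement of the kernel over a subgroup. -/
def IsComp (σ : E →* G) (X : Subgroup G) (T : Subgroup E) : Prop := T.map σ = X ∧ T ⊓ σ.ker = ⊥

theorem IsComp.mem {X : Subgroup G} {T : Subgroup E} (h : IsComp σ X T) {x : E} (hx : x ∈ T) : σ x ∈ X :=
  h.1 ▸ mem_map_of_mem σ hx

theorem IsComp.exists_mem {X : Subgroup G} {T : Subgroup E} (h : IsComp σ X T) {g : G} (hg : g ∈ X) :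
    ∃ x ∈ T, σ x = g := by
  rw [← h.1] at hg
  exact hg

theorem IsComp.inj {X : Subgroup G} {T : Subgroup E} (h : IsComp σ X T) {x y : E} (hx : x ∈ T) (hy : y ∈ T)
    (e : σ x = σ y) : x = y := by
  have : x⁻¹ * y ∈ T ⊓ σ.ker := mem_inf.2 ⟨mul_mem (inv_mem hx) hy, by simp [MonoidHom.mem_ker, e]⟩
  rw [h.2, mem_bot] at this
  exact inv_mul_eq_one.1 this

theorem IsComp.lft {X : Subgroup G} {T : Subgroup E} (h : IsComp σ X T) {x : E} (hx : x ∈ T) {m : ℕ}
    (hm : m.Coprime (Nat.card σ.ker)) (hgm : σ x ^ m = 1) : Lft σ x :=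
  ⟨m, hm, h.inj (pow_mem hx m) (one_mem _) (by rw [map_pow, hgm, map_one])⟩

/-- A lift of order prime to the kernel lies in every complement containing its image. -/
theorem IsComp.mem_of_lft (hk : σ.ker ≤ center E) {X : Subgroup G} {T : Subgroup E} (h : IsComp σ X T) {x : E}
    (hx : Lft σ x) (hX : σ x ∈ X) : x ∈ T := by
  obtain ⟨y, hy, e⟩ := h.exists_mem hX
  obtain ⟨m, hm, hxm⟩ := hx
  rw [lft_unique hk ⟨m, hm, hxm⟩ (h.lft hy hm (by rw [e, ← map_pow, hxm, map_one])) e.symm]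
  exact hy

theorem exists_comp [Finite E] (hk : σ.ker ≤ center E) (hσ : Function.Surjective σ) (U : Subgroup G)
    (hU : (Nat.card U).Coprime (Nat.card σ.ker)) : ∃ T : Subgroup E, IsComp σ U T := by
  have hle : σ.ker ≤ U.comap σ := fun x hx => by
    rw [mem_comap, MonoidHom.mem_ker.1 hx]; exact one_mem _
  set K' : Subgroup ↥(U.comap σ) := σ.ker.subgroupOf (U.comap σ) with hK
  have : K'.Normal := Normal.subgroupOf inferInstance _
  have hcard : Nat.card K' = Nat.card σ.ker := Nat.card_congr (subgroupOfEquivOfLe hle).toEquiv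
  let f : ↥(U.comap σ) →* ↥U := σ.subgroupComap U
  have hf : Function.Surjective f := fun g => by
    obtain ⟨x, hx⟩ := hσ g.1
    exact ⟨⟨x, mem_comap.2 (hx.symm ▸ g.2)⟩, Subtype.ext hx⟩
  have hker : f.ker = K' := by
    ext x
    rw [MonoidHom.mem_ker, hK, mem_subgroupOf, MonoidHom.mem_ker]
    exact Subtype.ext_iff
  have hidx : K'.index = Nat.card U := by
    rw [← hker, index_ker, MonoidHom.range_eq_top.2 hf, card_top]
  obtain ⟨C, hC⟩ := exists_right_complement'_of_coprime (N := K') (by rw [hcard, hidx]; exact hU.symm)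
  refine ⟨C.map (U.comap σ).subtype, le_antisymm ?_ ?_, ?_⟩
  · rintro g ⟨x, ⟨c, -, rfl⟩, rfl⟩
    exact c.2
  · intro g hg
    obtain ⟨x, hx⟩ := hf ⟨g, hg⟩
    obtain ⟨⟨a, c⟩, e⟩ := hC.2 x
    refine ⟨_, ⟨c.1, c.2, rfl⟩, ?_⟩
    have h1 : f x = f (a : ↥(U.comap σ)) * f c := by rw [← map_mul]; exact congrArg f e.symm
    rw [show f (a : ↥(U.comap σ)) = 1 by rw [← MonoidHom.mem_ker, hker]; exact a.2, one_mul, hx] at h1
    exact (congrArg Subtype.val h1).symm
  · rw [eq_bot_iff]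
    rintro x ⟨⟨c, hc, rfl⟩, hx⟩
    have : c ∈ K' ⊓ C := ⟨hx, hc⟩
    rw [disjoint_iff.1 hC.disjoint, mem_bot] at this
    simp [this]

end Lift

namespace Frame

variable {G : Type v} [Group G] [Finite G] (F : Frame G)
variable {E : Type u} [Group E] [Finite E] {σ : E →* G}

theorem conj_word (i : Fin 2) {h : G} (hh : h ∈ F.H) : (F.n i)⁻¹ * h * F.n i ∈ F.H := by
  have h1 := F.n_conj i _ hh
  have h2 : (F.n i)⁻¹ * (F.n i)⁻¹ ∈ F.H := by rw [← mul_inv_rev]; exact inv_mem (F.n_sq i)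
  have := mul_mem (mul_mem h2 h1) (inv_mem h2)
  convert this using 1; group

/-- The conjugation of the elements of a complement over a subgroup of rank one. -/
theorem transfer (hk : σ.ker ≤ center E) {Lt : Fin 2 → Subgroup E} (hLt : ∀ i, IsComp σ (F.L i) (Lt i))
    (hU : (Nat.card F.U).Coprime (Nat.card σ.ker)) {e : E} {i j : Fin 2}
    (h1 : ∀ u ∈ F.Ui i, σ e * u * (σ e)⁻¹ ∈ F.L j ∧ σ e * (F.n i * u * (F.n i)⁻¹) * (σ e)⁻¹ ∈ F.L j) :
    ∀ a ∈ Lt i, e * a * e⁻¹ ∈ Lt j := by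
  set T : Subgroup E := closure {a | a ∈ Lt i ∧ Lft σ a ∧
    (σ a ∈ F.Ui i ∨ σ a ∈ (F.Ui i).map (MulAut.conj (F.n i)).toMonoidHom)} with hT
  have hTle : T ≤ Lt i := (closure_le _).2 fun a ha => ha.1
  have hcov : F.L i ≤ T.map σ := by
    have key : ∀ g ∈ F.L i, g ^ Nat.card F.U = 1 → (g ∈ F.Ui i ∨ g ∈ (F.Ui i).map (MulAut.conj (F.n i)).toMonoidHom) →
        g ∈ T.map σ := by
      intro g hgL hgm hg
      obtain ⟨a, ha, rfl⟩ := (hLt i).exists_mem hgL
      exact mem_map_of_mem σ (subset_closure ⟨ha, (hLt i).lft ha hU hgm, hg⟩)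
    have hpow : ∀ u ∈ F.Ui i, u ^ Nat.card F.U = 1 := fun u hu => pow_card_mem (F.Ui_le i hu)
    conv_lhs => rw [F.L_eq]
    refine sup_le (fun g hg => key g (F.L_eq i ▸ mem_sup_left hg) (hpow g hg) (Or.inl hg)) ?_
    rintro _ ⟨u, hu, rfl⟩
    refine key _ (F.L_eq i ▸ mem_sup_right ⟨u, hu, rfl⟩) ?_ (Or.inr ⟨u, hu, rfl⟩)
    rw [← map_pow, hpow u hu, map_one]
  intro a ha
  have haT : a ∈ T := by
    obtain ⟨b, hb, e'⟩ := hcov ((hLt i).mem ha)
    rw [(hLt i).inj ha (hTle hb) e'.symm]; exact hb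
  have hle : T ≤ (Lt j).comap (MulAut.conj e).toMonoidHom := (closure_le _).2 fun b hb => by
    refine (hLt j).mem_of_lft hk (lft_conj e hb.2.1) ?_
    show σ (e * b * e⁻¹) ∈ F.L j
    rw [map_mul, map_mul, map_inv]
    rcases hb.2.2 with h | ⟨u, hu, h⟩
    · exact (h1 _ h).1
    · rw [← h]; exact (h1 u hu).2
  exact hle haT

theorem transfer_H (hk : σ.ker ≤ center E) {Lt : Fin 2 → Subgroup E} (hLt : ∀ i, IsComp σ (F.L i) (Lt i))
    (hU : (Nat.card F.U).Coprime (Nat.card σ.ker)) {e : E} (he : σ e ∈ F.H) (i : Fin 2) :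
    ∀ a ∈ Lt i, e * a * e⁻¹ ∈ Lt i := by
  refine F.transfer hk hLt hU fun u hu => ?_
  refine ⟨F.L_eq i ▸ mem_sup_left (F.H_conj_Ui i _ he u hu), F.L_eq i ▸ mem_sup_right ⟨_, F.H_conj_Ui i _
    (F.conj_word i he) u hu, ?_⟩⟩
  show F.n i * _ * (F.n i)⁻¹ = _
  group

/-- Central extensions of kernel order prime to `U` split if they do over the rank one subgroups. -/
theorem exists_complement (hk : σ.ker ≤ center E) (hσ : Function.Surjective σ)
    (hU : (Nat.card F.U).Coprime (Nat.card σ.ker))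
    (hL : ∀ i, ∃ T : Subgroup E, IsComp σ (F.L i) T) : ∃ T : Subgroup E, IsComp σ ⊤ T := by
  choose Lt hLt using hL
  obtain ⟨Ut, hUt⟩ := exists_comp hk hσ F.U hU
  choose w hw hwn using fun i => (hLt i).exists_mem (F.n_mem_L i)
  -- the lifted torus
  let A : Fin 2 → Subgroup E := fun i => Lt i ⊓ F.H.comap σ
  set Ht : Subgroup E := A 0 ⊔ A 1 with hHt
  have hA : ∀ i, A i ≤ Ht := Fin.forall_fin_two.2 ⟨le_sup_left, le_sup_right⟩
  have hHσ : ∀ x ∈ Ht, σ x ∈ F.H := by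
    have : Ht ≤ F.H.comap σ := sup_le inf_le_right inf_le_right
    exact fun x hx => this hx
  have hAcomm : ∀ i, ∀ a ∈ A i, ∀ e : E, σ e ∈ F.H → e * a * e⁻¹ = a := by
    intro i a ha e he
    refine (hLt i).inj (F.transfer_H hk hLt hU he i a ha.1) ha.1 ?_
    rw [map_mul, map_mul, map_inv, F.H_comm _ he _ ha.2, mul_inv_cancel_right]
  have hA01 : A 1 ≤ normalizer (A 0 : Set E) := fun b hb => by
    rw [mem_normalizer_iff]
    intro x
    refine ⟨fun hx => by rw [hAcomm 0 x hx b (hHσ b (hA 1 hb))]; exact hx, fun hx => ?_⟩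
    have := hAcomm 0 _ hx b⁻¹ (hHσ b⁻¹ (inv_mem (hA 1 hb)))
    rw [show b⁻¹ * (b * x * b⁻¹) * b⁻¹⁻¹ = x by group] at this
    rw [this]; exact hx
  have hHinj : ∀ x ∈ Ht, σ x = 1 → x = 1 := by
    intro x hx h1
    rw [hHt] at hx
    obtain ⟨a, ha, b, hb, rfl⟩ : ∃ a ∈ A 0, ∃ b ∈ A 1, a * b = x := by
      have := coe_mul_of_right_le_normalizer_left (A 0) (A 1) hA01
      have hx' : x ∈ ((A 0 : Set E) * (A 1 : Set E)) := this ▸ (SetLike.mem_coe.2 hx)
      exact Set.mem_mul.1 hx'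
    rw [map_mul] at h1
    have e0 := F.indep (σ a) ⟨ha.2, (hLt 0).mem ha.1⟩ (σ b) ⟨hb.2, (hLt 1).mem hb.1⟩ h1
    rw [e0, one_mul] at h1
    rw [(hLt 0).inj ha.1 (one_mem _) (by rw [e0, map_one]), (hLt 1).inj hb.1 (one_mem _) (by rw [h1, map_one]),
      mul_one]
  have hHcent : ∀ e : E, σ e ∈ F.H → ∀ x ∈ Ht, e * x * e⁻¹ = x := by
    intro e he x hx
    have hle : Ht ≤ centralizer {e} := sup_le
      (fun a ha => mem_centralizer_singleton_iff.2 (mul_inv_eq_iff_eq_mul.1 (hAcomm 0 a ha e he)).symm)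
      (fun a ha => mem_centralizer_singleton_iff.2 (mul_inv_eq_iff_eq_mul.1 (hAcomm 1 a ha e he)).symm)
    rw [← mem_centralizer_singleton_iff.1 (hle hx), mul_inv_cancel_right]
  have hwsq : ∀ i, w i * w i ∈ Ht := fun i =>
    hA i (mem_inf.2 ⟨mul_mem (hw i) (hw i), by rw [mem_comap, map_mul, hwn]; exact F.n_sq i⟩)
  -- the torus is normalised by the representatives
  have hwH : ∀ i, ∀ x ∈ Ht, w i * x * (w i)⁻¹ ∈ Ht := by
    intro i x hx
    have h1 : x⁻¹ * w i * x ∈ Lt i := by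
      have := F.transfer_H hk hLt hU (e := x⁻¹) (by simpa using hHσ x hx) i _ (hw i)
      rwa [inv_inv] at this
    have h2 : (x⁻¹ * w i * x) * (w i)⁻¹ ∈ A i := mem_inf.2 ⟨mul_mem h1 (inv_mem (hw i)), by
      rw [mem_comap, map_mul, map_mul, map_mul, map_inv, map_inv, hwn,
        show (σ x)⁻¹ * F.n i * σ x * (F.n i)⁻¹ = (σ x)⁻¹ * (F.n i * σ x * (F.n i)⁻¹) by group]
      exact mul_mem (inv_mem (hHσ x hx)) (F.n_conj i _ (hHσ x hx))⟩
    have := mul_mem hx (hA i h2)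
    convert this using 1; group
  -- the lifted monomial group
  set a := w 0 with ha0
  set b := w 1 with hb0
  have hrel : (a * b) ^ (2 * F.k) ∈ Ht := by
    set x := (a * b) ^ (F.k - 1) * a with hx
    have hσx : σ x = (F.n 0 * F.n 1) ^ (F.k - 1) * F.n 0 := by simp [hx, ha0, hb0, hwn]
    have h1 : x * b * x⁻¹ ∈ Lt 1 := F.transfer hk hLt hU (fun u hu => by rw [hσx]; exact F.braid u hu) _ (hw 1)
    have h2 : b⁻¹ * (x * b * x⁻¹) ∈ Ht := hA 1 (mem_inf.2 ⟨mul_mem (inv_mem (hw 1)) h1, by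
      rw [mem_comap]
      have := F.braid_n
      rw [← hσx] at this
      simpa [hb0, hwn] using this⟩)
    have hxH : ∀ j : ℕ, ∀ y ∈ Ht, ((b * a) ^ j)⁻¹ * y * (b * a) ^ j ∈ Ht := by
      have hinv : ∀ i, ∀ y ∈ Ht, (w i)⁻¹ * y * w i ∈ Ht := fun i y hy => by
        have h2 : (w i)⁻¹ * (w i)⁻¹ ∈ Ht := by rw [← mul_inv_rev]; exact inv_mem (hwsq i)
        have := mul_mem (mul_mem h2 (hwH i _ hy)) (inv_mem h2)
        convert this using 1; group
      intro j
      induction j with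
      | zero => intro y hy; simpa using hy
      | succ j ih =>
        intro y hy
        have := hinv 0 _ (hinv 1 _ (ih y hy))
        convert this using 1; rw [pow_succ, ha0, hb0]; group
    set h := b⁻¹ * (x * b * x⁻¹)
    have e1 : (a * b) ^ F.k = b * h * x := by
      have hk1 : F.k = F.k - 1 + 1 := (Nat.sub_add_cancel F.k_pos).symm
      conv_lhs => rw [hk1, pow_succ]
      simp only [h, hx]; group
    have e2 : (b * a) ^ F.k = b * x := by
      have key : ∀ j : ℕ, (b * a) ^ (j + 1) = b * ((a * b) ^ j * a) := by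
        intro j
        induction j with
        | zero => simp
        | succ j ih => rw [pow_succ, ih, pow_succ]; group
      conv_lhs => rw [← Nat.sub_add_cancel F.k_pos]
      exact key _
    have e3 : (a * b) ^ F.k = (b * a) ^ F.k * (x⁻¹ * h * x) := by rw [e1, e2]; group
    have hh' : x⁻¹ * h * x ∈ Ht := by
      have hinv0 : a⁻¹ * h * a ∈ Ht := by
        have h2' : a⁻¹ * a⁻¹ ∈ Ht := by rw [← mul_inv_rev]; exact inv_mem (hwsq 0)
        have := mul_mem (mul_mem h2' (hwH 0 _ h2)) (inv_mem h2')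
        convert this using 1; simp only [ha0]; group
      have hx' : x = a * (b * a) ^ (F.k - 1) := by
        have key : ∀ j : ℕ, (a * b) ^ j * a = a * (b * a) ^ j := by
          intro j
          induction j with
          | zero => simp
          | succ j ih => rw [pow_succ', mul_assoc (a * b), ih, pow_succ']; simp only [mul_assoc]
        rw [hx, key]
      have := hxH (F.k - 1) _ hinv0
      convert this using 1; rw [hx']; group
    rw [two_mul, pow_add]
    nth_rewrite 2 [e3]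
    rw [← mul_assoc]
    exact mul_mem (pow_mul_pow_mem Ht (hwsq 0) (hwsq 1) (hwH 0) (hwH 1) F.k) hh'
  set Nt : Subgroup E := closure {a, b} ⊔ Ht with hNt
  have hwN : ∀ i, w i ∈ Nt := Fin.forall_fin_two.2
    ⟨mem_sup_left (subset_closure (Set.mem_insert _ _)),
      mem_sup_left (subset_closure (Set.mem_insert_of_mem _ rfl))⟩
  have hNσ : ∀ x ∈ Nt, σ x ∈ F.N := by
    have : Nt ≤ F.N.comap σ := sup_le ((closure_le _).2 (by
      rintro _ (rfl | rfl)
      · show σ a ∈ F.N; rw [ha0, hwn]; exact F.n_mem 0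
      · show σ b ∈ F.N; rw [hb0, hwn]; exact F.n_mem 1))
      (le_trans (fun x hx => hHσ x hx) (comap_mono F.H_le))
    exact fun x hx => this hx
  have hNker : ∀ x ∈ Nt, σ x ∈ F.H → x ∈ Ht := by
    have hnorm : ∀ x ∈ Nt, ∀ y ∈ Ht, x * y * x⁻¹ ∈ Ht := by
      have hle : Nt ≤ normalizer (Ht : Set E) := by
        refine sup_le ((closure_le _).2 ?_) le_normalizer
        have hgen : ∀ i, w i ∈ normalizer (Ht : Set E) := fun i => by
          rw [mem_normalizer_iff]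
          refine fun y => ⟨hwH i y, fun hy => ?_⟩
          have h2 : (w i)⁻¹ * (w i)⁻¹ ∈ Ht := by rw [← mul_inv_rev]; exact inv_mem (hwsq i)
          have := mul_mem (mul_mem h2 (hwH i _ hy)) (inv_mem h2)
          convert this using 1; group
        rintro _ (rfl | rfl)
        · exact hgen 0
        · exact hgen 1
      exact fun x hx y hy => (mem_normalizer_iff.1 (hle hx) y).1 hy
    have hk2 : 0 < 2 * F.k := by have := F.k_pos; omega
    have hred : ∀ j : ℕ, ∃ j' < 2 * F.k, ∃ y ∈ Ht, (a * b) ^ j = (a * b) ^ j' * y := fun j => by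
      refine ⟨j % (2 * F.k), Nat.mod_lt _ hk2, ((a * b) ^ (2 * F.k)) ^ (j / (2 * F.k)), pow_mem hrel _, ?_⟩
      rw [← pow_mul, ← pow_add, Nat.mod_add_div]
    let S : Set E := {x | ∃ j : ℕ, ∃ y ∈ Ht, x = (a * b) ^ j * y ∨ x = (a * b) ^ j * a * y}
    have hSb : ∀ x ∈ S, a * b * x ∈ S := by
      rintro x ⟨j, y, hy, rfl | rfl⟩
      · exact ⟨j + 1, y, hy, Or.inl (by rw [pow_succ']; group)⟩
      · exact ⟨j + 1, y, hy, Or.inr (by rw [pow_succ']; group)⟩
    have hSinv : ∀ x ∈ S, (a * b)⁻¹ * x ∈ S := by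
      intro x hx
      have hh : ((a * b) ^ (2 * F.k))⁻¹ ∈ Ht := inv_mem hrel
      have hN : ∀ j, (a * b) ^ j ∈ Nt := fun j => pow_mem (mul_mem (hwN 0) (hwN 1)) j
      have eP : (a * b) ^ (2 * F.k - 1) * ((a * b) ^ (2 * F.k))⁻¹ = (a * b)⁻¹ := by
        conv_lhs => arg 2; rw [← Nat.sub_add_cancel (show 1 ≤ 2 * F.k by omega), pow_succ']
        simp [mul_assoc]
      obtain ⟨j, y, hy, rfl | rfl⟩ := hx
      · refine ⟨2 * F.k - 1 + j, ((a * b) ^ j)⁻¹ * ((a * b) ^ (2 * F.k))⁻¹ * (a * b) ^ j * y, mul_mem ?_ hy,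
          Or.inl ?_⟩
        · have := hnorm _ (inv_mem (hN j)) _ hh
          rwa [inv_inv] at this
        · rw [← eP, pow_add]
          simp only [mul_assoc, mul_inv_rev, mul_inv_cancel_left]
      · refine ⟨2 * F.k - 1 + j, ((a * b) ^ j * a)⁻¹ * ((a * b) ^ (2 * F.k))⁻¹ * ((a * b) ^ j * a) * y,
          mul_mem ?_ hy, Or.inr ?_⟩
        · have := hnorm _ (inv_mem (mul_mem (hN j) (hwN 0))) _ hh
          rwa [inv_inv] at this
        · rw [← eP, pow_add]
          simp only [mul_assoc, mul_inv_rev, mul_inv_cancel_left]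
    have hSa : ∀ x ∈ S, a * x ∈ S := by
      intro x hx
      obtain ⟨j, y, hy, e⟩ := hx
      clear hred
      induction j generalizing x with
      | zero =>
        rcases e with rfl | rfl
        · exact ⟨0, y, hy, Or.inr (by simp)⟩
        · exact ⟨0, a * a * y, mul_mem (hwsq 0) hy, Or.inl (by simp [mul_assoc])⟩
      | succ j ih =>
        -- `a (a b) = (a a) b`, and `b = (a a)⁻¹ a (a b)` reduces to the inverse of `a b`
        have hx' : ∃ x', ((x' = (a * b) ^ j * y ∨ x' = (a * b) ^ j * a * y)) ∧ x = a * b * x' := by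
          rcases e with rfl | rfl
          · exact ⟨_, Or.inl rfl, by rw [pow_succ']; group⟩
          · exact ⟨_, Or.inr rfl, by rw [pow_succ']; group⟩
        obtain ⟨x', hx', rfl⟩ := hx'
        have hb' : a * (a * b * x') = (a * a) * (b * b) * ((b * b)⁻¹ * b * a * ((a * a)⁻¹ * (a * x'))) := by group
        have hS' := ih x' hx'
        have hbab : (b * b)⁻¹ * b * a = ((a * b)⁻¹) * (a * a) := by group
        rw [hb', hbab]
        have e4 : a * a * (b * b) * ((a * b)⁻¹ * (a * a) * ((a * a)⁻¹ * (a * x'))) =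
            (a * a * (b * b)) * ((a * b)⁻¹ * (a * x')) := by group
        rw [e4]
        obtain ⟨j', y', hy', e'⟩ := hSinv _ hS'
        have hN : ∀ j, (a * b) ^ j ∈ Nt := fun j => pow_mem (mul_mem (hwN 0) (hwN 1)) j
        have hc := mul_mem (hwsq 0) (hwsq 1)
        rcases e' with e' | e'
        · rw [e']
          refine ⟨j', ((a * b) ^ j')⁻¹ * (a * a * (b * b)) * (a * b) ^ j' * y', mul_mem ?_ hy', Or.inl (by group)⟩
          have := hnorm _ (inv_mem (hN j')) _ hc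
          rwa [inv_inv] at this
        · rw [e']
          refine ⟨j', ((a * b) ^ j' * a)⁻¹ * (a * a * (b * b)) * ((a * b) ^ j' * a) * y', mul_mem ?_ hy',
            Or.inr (by group)⟩
          have := hnorm _ (inv_mem (mul_mem (hN j') (hwN 0))) _ hc
          rwa [inv_inv] at this
    have hSH : ∀ h ∈ Ht, ∀ x ∈ S, h * x ∈ S := by
      rintro h hh x ⟨j, y, hy, rfl | rfl⟩
      · refine ⟨j, ((a * b) ^ j)⁻¹ * h * (a * b) ^ j * y, mul_mem ?_ hy, Or.inl (by group)⟩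
        have := hnorm _ (inv_mem (pow_mem (mul_mem (hwN 0) (hwN 1)) j)) _ hh
        rwa [inv_inv] at this
      · refine ⟨j, ((a * b) ^ j * a)⁻¹ * h * ((a * b) ^ j * a) * y, mul_mem ?_ hy, Or.inr (by group)⟩
        have := hnorm _ (inv_mem (mul_mem (pow_mem (mul_mem (hwN 0) (hwN 1)) j) (hwN 0))) _ hh
        rwa [inv_inv] at this
    have hall : Nt ≤ closure ({a, b} ∪ (Ht : Set E)) := by
      rw [hNt, Subgroup.closure_union, closure_eq]
    intro x hx
    have hmon : x ∈ Submonoid.closure ({a, b} ∪ (Ht : Set E)) := by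
      rw [← closure_toSubmonoid_of_finite]; exact hall hx
    have hxS : x ∈ S := by
      refine Submonoid.closure_induction_left (motive := fun x _ => x ∈ S)
        ⟨0, 1, one_mem _, Or.inl (by simp)⟩ (fun g hg y _ hy => ?_) hmon
      rcases hg with (rfl | rfl) | hg
      · exact hSa y hy
      · rw [show b * y = (a * a)⁻¹ * (a * (a * b * y)) by group]
        exact hSH _ (inv_mem (hwsq 0)) _ (hSa _ (hSb _ hy))
      · exact hSH g hg y hy
    intro hσH
    obtain ⟨j, y, hy, e⟩ := hxS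
    obtain ⟨j', hj', y', hy', ej⟩ := hred j
    rcases e with rfl | rfl
    · rw [ej] at hσH ⊢
      rcases Nat.eq_zero_or_pos j' with rfl | hpos
      · rw [pow_zero, one_mul]; exact mul_mem hy' hy
      · exfalso
        refine F.inj1 j' hpos hj' ?_
        rw [map_mul, map_mul] at hσH
        have := mul_mem (mul_mem hσH (inv_mem (hHσ y hy))) (inv_mem (hHσ y' hy'))
        simpa [ha0, hb0, hwn] using this
    · exfalso
      refine F.inj2 j' hj' ?_
      rw [ej, map_mul, map_mul, map_mul] at hσH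
      have h2 := F.conj_word 0 (hHσ y' hy')
      have := mul_mem (mul_mem hσH (inv_mem (hHσ y hy))) (inv_mem h2)
      have e : σ ((a * b) ^ j') * σ y' * σ a * σ y * (σ y)⁻¹ * ((F.n 0)⁻¹ * σ y' * F.n 0)⁻¹ =
          (F.n 0 * F.n 1) ^ j' * F.n 0 := by
        simp only [ha0, hb0, map_pow, map_mul, hwn]; group
      rwa [e] at this
  -- the lifted Borel group
  have hUconj : ∀ h ∈ Ht, ∀ u ∈ Ut, h * u * h⁻¹ ∈ Ut := by
    intro h hh u hu
    refine hUt.mem_of_lft hk (lft_conj h (hUt.lft hu hU ?_)) ?_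
    · exact pow_card_mem (hUt.mem hu)
    · rw [map_mul, map_mul, map_inv]; exact F.H_conj _ (hHσ h hh) _ (hUt.mem hu)
  have hlftU : ∀ {u : E}, u ∈ Ut → Lft σ u := fun {u} hu => hUt.lft hu hU
    (pow_card_mem (hUt.mem hu))
  have hUmem : ∀ {g u : E}, u ∈ Ut → σ g * σ u * (σ g)⁻¹ ∈ F.U → g * u * g⁻¹ ∈ Ut := fun {g u} hu h =>
    hUt.mem_of_lft hk (lft_conj g (hlftU hu)) (by rwa [map_mul, map_mul, map_inv])
  set Bt : Subgroup E := Ut ⊔ Ht with hBt
  have hBdec : ∀ x ∈ Bt, ∃ u ∈ Ut, ∃ h ∈ Ht, u * h = x := by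
    intro x hx
    have hN : Ht ≤ normalizer (Ut : Set E) := fun h hh => by
      rw [mem_normalizer_iff]
      refine fun y => ⟨fun hy => hUconj h hh y hy, fun hy => ?_⟩
      have := hUconj h⁻¹ (inv_mem hh) _ hy
      rwa [show h⁻¹ * (h * y * h⁻¹) * h⁻¹⁻¹ = y by group] at this
    have := coe_mul_of_right_le_normalizer_left Ut Ht hN
    have hx' : x ∈ ((Ut : Set E) * (Ht : Set E)) := this ▸ (SetLike.mem_coe.2 hx)
    exact Set.mem_mul.1 hx'
  let S : Set E := {x | ∃ p ∈ Bt, ∃ y ∈ Nt, ∃ q ∈ Bt, x = p * y * q}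
  have hSB : ∀ p ∈ Bt, ∀ x ∈ S, p * x ∈ S := by
    rintro p hp x ⟨p', hp', y, hy, q, hq, rfl⟩
    exact ⟨p * p', mul_mem hp hp', y, hy, q, hq, by group⟩
  have hLtU : ∀ i, ∀ g ∈ F.Ui i, ∃ u ∈ Ut, u ∈ Lt i ∧ σ u = g := fun i g hg => by
    obtain ⟨u, hu, e⟩ := hUt.exists_mem (F.Ui_le i hg)
    refine ⟨u, hu, (hLt i).mem_of_lft hk (hlftU hu) ?_, e⟩
    rw [e, F.L_eq]; exact mem_sup_left hg
  have hkey : ∀ i, ∀ c ∈ Ut, σ c ∈ F.Ui i → ∀ y ∈ Nt, w i * c * y ∈ S := by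
    intro i c hc hci y hy
    have hA' : ∀ (d z : E), d ∈ Ut → σ d ∈ F.Ui i → (∀ u ∈ F.Ui i, (σ z)⁻¹ * u * σ z ∈ F.U) →
        z⁻¹ * d * z ∈ Ut := fun d z hd hdi hz => by
      have := hUmem (g := z⁻¹) hd (by simpa using hz _ hdi)
      rwa [inv_inv] at this
    rcases F.tri _ (hNσ y hy) i with h | h
    · exact ⟨1, one_mem _, w i * y, mul_mem (hwN i) hy, y⁻¹ * c * y,
        mem_sup_left (hA' c y hc hci h), by group⟩
    · set z := (w i)⁻¹ * y with hz
      have hzN : z ∈ Nt := mul_mem (inv_mem (hwN i)) hy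
      have hσz : σ z = (F.n i)⁻¹ * σ y := by simp [hz, hwn]
      rw [show w i * c * y = (w i * c * w i) * z by simp only [hz]; group]
      obtain ⟨c', hc', hc'L, ec⟩ := hLtU i _ hci
      have hcL : c ∈ Lt i := hUt.inj hc' hc ec ▸ hc'L
      have hmem : w i * c * w i ∈ Lt i := mul_mem (mul_mem (hw i) hcL) (hw i)
      have hσm : σ (w i * c * w i) = F.n i * σ c * F.n i := by simp [hwn]
      rcases F.one i _ hci with ⟨g, hg, h', hh', e⟩ | ⟨g, hg, g', hg', h', hh', e⟩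
      · obtain ⟨p, hp, hpL, rfl⟩ := hLtU i g hg
        have h1 : p⁻¹ * (w i * c * w i) ∈ Ht := hA i (mem_inf.2 ⟨mul_mem (inv_mem hpL) hmem, by
          rw [mem_comap, map_mul, map_inv, hσm, e, inv_mul_cancel_left]; exact hh'⟩)
        exact ⟨p, mem_sup_left hp, p⁻¹ * (w i * c * w i) * z, mul_mem (mem_sup_right h1) hzN, 1, one_mem _,
          by group⟩
      · obtain ⟨p, hp, hpL, rfl⟩ := hLtU i g hg
        obtain ⟨r, hr, hrL, rfl⟩ := hLtU i g' hg'
        set t := (p * w i * r)⁻¹ * (w i * c * w i) with ht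
        have h1 : t ∈ Ht := hA i (mem_inf.2 ⟨mul_mem (inv_mem (mul_mem (mul_mem hpL (hw i)) hrL)) hmem, by
          rw [mem_comap, ht, map_mul, map_inv, hσm, e, map_mul, map_mul, hwn, inv_mul_cancel_left]; exact hh'⟩)
        have hz' : ∀ u ∈ F.Ui i, (σ (t * z))⁻¹ * u * σ (t * z) ∈ F.U := fun u hu => by
          have := h _ (F.H_conj_Ui i _ (inv_mem (hHσ t h1)) u hu)
          rw [← hσz] at this
          convert this using 1; rw [map_mul]; group
        exact ⟨p, mem_sup_left hp, w i * (t * z), mul_mem (hwN i) (mul_mem (mem_sup_right h1) hzN),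
          (t * z)⁻¹ * r * (t * z), mem_sup_left (hA' r _ hr (by simpa using hg') hz'), by simp only [ht]; group⟩
  have hSw : ∀ i, ∀ x ∈ S, w i * x ∈ S := by
    rintro i x ⟨p, hp, y, hy, q, hq, rfl⟩
    obtain ⟨u, hu, h, hh, rfl⟩ := hBdec p hp
    obtain ⟨g, hg, g', hg', e⟩ := F.split i _ (hUt.mem hu)
    obtain ⟨u1, hu1, e1⟩ := hUt.exists_mem (F.Uc_le i hg)
    obtain ⟨u2, hu2, -, e2⟩ := hLtU i g' hg'
    have hdec : u = u1 * u2 := hUt.inj hu (mul_mem hu1 hu2) (by rw [map_mul, e1, e2, e])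
    have hu1' : w i * u1 * (w i)⁻¹ ∈ Ut := hUmem hu1 (by rw [hwn, e1]; exact F.Uc_le i (F.n_Uc i g hg))
    obtain ⟨p', hp', y', hy', q', hq', e'⟩ := hkey i u2 hu2 (e2 ▸ hg') (h * y) (mul_mem (mem_sup_right hh) hy)
    refine ⟨w i * u1 * (w i)⁻¹ * p', mul_mem (mem_sup_left hu1') hp', y', hy', q' * q, mul_mem hq' hq, ?_⟩
    calc w i * (u * h * y * q) = w i * u1 * (w i)⁻¹ * (w i * u2 * (h * y)) * q := by rw [hdec]; group
      _ = _ := by rw [e']; group
  refine ⟨closure (Set.range w ∪ (Bt : Set E)), ?_, ?_⟩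
  · rw [eq_top_iff, ← F.top, iSup_le_iff]
    intro i g hg
    have hUi : ∀ g ∈ F.Ui i, g ∈ (closure (Set.range w ∪ (Bt : Set E))).map σ := fun g hg => by
      obtain ⟨u, hu, -, rfl⟩ := hLtU i g hg
      exact mem_map_of_mem σ (subset_closure (Or.inr (show u ∈ Bt from mem_sup_left hu)))
    have hn : F.n i ∈ (closure (Set.range w ∪ (Bt : Set E))).map σ :=
      hwn i ▸ mem_map_of_mem σ (subset_closure (Or.inl ⟨i, rfl⟩))
    rw [F.L_eq] at hg
    refine (sup_le (fun g hg => hUi g hg) ?_ : _ ≤ (closure (Set.range w ∪ (Bt : Set E))).map σ) hg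
    rintro _ ⟨u, hu, rfl⟩
    exact mul_mem (mul_mem hn (hUi u hu)) (inv_mem hn)
  · rw [eq_bot_iff]
    rintro x ⟨hx, hx1⟩
    have hmon : x ∈ Submonoid.closure (Set.range w ∪ (Bt : Set E)) := by
      rw [← closure_toSubmonoid_of_finite]; exact hx
    have hxS : x ∈ S := by
      refine Submonoid.closure_induction_left (motive := fun x _ => x ∈ S)
        ⟨1, one_mem _, 1, one_mem _, 1, one_mem _, by simp⟩ (fun g hg y _ hy => ?_) hmon
      rcases hg with ⟨i, rfl⟩ | hg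
      · exact hSw i y hy
      · exact hSB g hg y hy
    obtain ⟨p, hp, y, hy, q, hq, rfl⟩ := hxS
    obtain ⟨u, hu, h, hh, rfl⟩ := hBdec p hp
    obtain ⟨v, hv, l, hl, rfl⟩ := hBdec q hq
    have h1 : σ u * σ h * σ y * (σ v * σ l) = 1 := by simpa using MonoidHom.mem_ker.1 hx1
    have hBG : σ y ∈ F.U ⊔ F.H := by
      have e : σ y = (σ u * σ h)⁻¹ * (σ v * σ l)⁻¹ := by
        rw [eq_inv_mul_iff_mul_eq, eq_inv_iff_mul_eq_one]; exact h1
      rw [e]
      exact mul_mem (inv_mem (mul_mem (mem_sup_left (hUt.mem hu)) (mem_sup_right (hHσ h hh))))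
        (inv_mem (mul_mem (mem_sup_left (hUt.mem hv)) (mem_sup_right (hHσ l hl))))
    have hNG : F.H ≤ normalizer (F.U : Set G) := fun h hh => by
      rw [mem_normalizer_iff]
      refine fun y => ⟨fun hy => F.H_conj h hh y hy, fun hy => ?_⟩
      have := F.H_conj h⁻¹ (inv_mem hh) _ hy
      rwa [show h⁻¹ * (h * y * h⁻¹) * h⁻¹⁻¹ = y by group] at this
    have hdecG : ∀ g ∈ F.U ⊔ F.H, ∃ u ∈ F.U, ∃ h ∈ F.H, u * h = g := fun g hg => by
      have := coe_mul_of_right_le_normalizer_left F.U F.H hNG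
      have hg' : g ∈ ((F.U : Set G) * (F.H : Set G)) := this ▸ (SetLike.mem_coe.2 hg)
      exact Set.mem_mul.1 hg'
    obtain ⟨g, hg, g', hg', e⟩ := hdecG _ hBG
    have := F.borel_N g hg g' hg' (e ▸ hNσ y hy)
    rw [this, one_mul] at e
    have hyH : y ∈ Ht := hNker y hy (e ▸ hg')
    obtain ⟨u', hu', h', hh', e'⟩ := hBdec (u * h * y * (v * l))
      (mul_mem (mul_mem (mul_mem (mem_sup_left hu) (mem_sup_right hh)) (mem_sup_right hyH))
        (mul_mem (mem_sup_left hv) (mem_sup_right hl)))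
    have h2 : σ u' * σ h' = 1 := by rw [← map_mul, e']; exact MonoidHom.mem_ker.1 hx1
    have hu1 : σ u' = 1 := F.borel_N _ (hUt.mem hu') _ (hHσ h' hh') (by rw [h2]; exact one_mem _)
    rw [hu1, one_mul] at h2
    rw [mem_bot, ← e', hUt.inj hu' (one_mem _) (hu1.trans (map_one σ).symm), hHinj h' hh' h2, one_mul]

end Frame

end Cfsg.Agent.Lib.TwMult
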