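import Cfsg.Agent.Lib.TwMult.HeisRad
import Cfsg.Agent.Lib.TwMult.Split

/-!
The lift of the centre of a Heisenberg radical by commutators.
-/

set_option autoImplicit false
set_option linter.unusedSectionVars false

namespace Cfsg.Agent.Lib.TwMult

open Subgroup
open Cfsg.Agent.Lib.ExcDeg48
open Cfsg.Agent.Lib.Schur.Fusion (commutator_congr commutator_conj central_of_commute)
open scoped commutatorElement

universe u v w

namespace Rad

variable {F K : Type w} [Field F] [Field K] [Algebra F K] {G : Type v} [Group G] (R : Rad F K G)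
  {E : Type u} [Group E] {σ : E →* G} (hk : σ.ker ≤ center E) (hσ : Function.Surjective σ)

/-- A lift. -/
noncomputable def lift (g : G) : E := Function.surjInv hσ g

theorem σ_lift (g : G) : σ (lift hσ g) = g := Function.surjInv_eq hσ g

/-- The lift of an element of the centre as a commutator. -/
noncomputable def f (y : F) : E := ⁅lift hσ (R.a 1), lift hσ (R.d y)⁆

theorem σ_f (y : F) : σ (R.f hσ y) = R.z (-y) := by
  rw [f, map_commutatorElement, σ_lift, σ_lift, comm_ad, one_mul]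

include hk

theorem f_commute {e : E} {g : G} (he : σ e = g) (h : ∀ x, LC σ (R.z x) g) (y : F) : Commute (R.f hσ y) e :=
  h _ _ _ (R.σ_f hσ y) he

theorem f_add (y y' : F) : R.f hσ (y + y') = R.f hσ y * R.f hσ y' := by
  have h : Commute ⁅lift hσ (R.a 1), lift hσ (R.d y')⁆ (lift hσ (R.d y)) :=
    R.f_commute hk hσ (σ_lift hσ _) (fun x => R.lc_zd hk hσ x y) y'
  rw [f, f, f, ← comm_mul_right h]
  exact commutator_congr hk rfl (by rw [map_mul, σ_lift, σ_lift, σ_lift, d_add])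

theorem f_zero : R.f hσ 0 = 1 := by
  have h := R.f_add hk hσ 0 0
  rwa [add_zero, left_eq_mul] at h

theorem f_neg (y : F) : R.f hσ (-y) = (R.f hσ y)⁻¹ :=
  eq_inv_of_mul_eq_one_left (by rw [← R.f_add hk, neg_add_cancel, R.f_zero hk])

/-- The lifted centre. -/
noncomputable def Z0 : Subgroup E :=
  (MonoidHom.mk' (fun y : Multiplicative F => R.f hσ y.toAdd) fun _ _ => R.f_add hk hσ _ _).range

theorem mem_Z0 {x : E} : x ∈ R.Z0 hk hσ ↔ ∃ y, x = R.f hσ y := by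
  constructor
  · rintro ⟨y, rfl⟩; exact ⟨_, rfl⟩
  · rintro ⟨y, rfl⟩; exact ⟨.ofAdd y, rfl⟩

theorem f_mem (y : F) : R.f hσ y ∈ R.Z0 hk hσ := (R.mem_Z0 hk hσ).2 ⟨y, rfl⟩

theorem Z0_comp : IsComp σ R.H.Z.range (R.Z0 hk hσ) := by
  constructor
  · ext g
    constructor
    · rintro ⟨x, hx, rfl⟩
      obtain ⟨y, rfl⟩ := (R.mem_Z0 hk hσ).1 hx
      exact ⟨_, (R.σ_f hσ y).symm⟩
    · rintro ⟨y, rfl⟩
      exact ⟨_, R.f_mem hk hσ (-y.toAdd), by rw [σ_f, neg_neg]; rfl⟩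
  · rw [eq_bot_iff]
    intro x hx
    obtain ⟨h1, h2⟩ := mem_inf.1 hx
    obtain ⟨y, rfl⟩ := (R.mem_Z0 hk hσ).1 h1
    rw [MonoidHom.mem_ker, σ_f, ← R.z_zero] at h2
    rw [mem_bot, neg_eq_zero.1 (R.z_inj h2), R.f_zero hk hσ]

theorem hk_f {e : E} {k : Kˣ} (he : σ e = R.H.hk k) (y : F) : e * R.f hσ y * e⁻¹ = R.f hσ y :=
  mul_inv_eq_iff_eq_mul.2 (R.lc_hk_z hk hσ k (-y) _ _ he (R.σ_f hσ y)).eq

theorem ad_eq {X Y : E} {x y : F} (hX : σ X = R.a x) (hY : σ Y = R.d y) : ⁅X, Y⁆ = R.f hσ (x * y) := by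
  by_cases hx : x = 0
  · subst hx
    rw [zero_mul, R.f_zero hk hσ]
    refine commutatorElement_eq_one_iff_commute.2 ?_
    rw [R.a_zero] at hX
    exact (mem_center_iff.1 (hk (MonoidHom.mem_ker.2 hX)) Y).symm
  · obtain ⟨k, hN⟩ := R.N_surj x hx
    set e := lift hσ (R.H.hk k)
    have h1 : e * ⁅X, Y⁆ * e⁻¹ = R.f hσ (x * y) := by
      rw [f, conjugate_commutatorElement]
      refine commutator_congr hk ?_ ?_
      · rw [map_mul, map_mul, map_inv, σ_lift, σ_lift, hX, hk_a, hN, inv_mul_cancel₀ hx]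
      · rw [map_mul, map_mul, map_inv, σ_lift, σ_lift, hY, hk_d, hN]
    calc ⁅X, Y⁆ = e⁻¹ * (e * ⁅X, Y⁆ * e⁻¹) * e⁻¹⁻¹ := by group
      _ = e⁻¹ * R.f hσ (x * y) * e⁻¹⁻¹ := by rw [h1]
      _ = R.f hσ (x * y) := by
        have h2 := R.hk_f hk hσ (e := e) (σ_lift hσ _) (x * y)
        conv_lhs => rw [← h2]
        group

theorem h1_f {e : E} {s : Fˣ} (he : σ e = R.H.h1 s) (y : F) :
    e * R.f hσ y * e⁻¹ = R.f hσ ((s : F) ^ 2 * y) := by
  rw [f, conjugate_commutatorElement,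
    R.ad_eq hk hσ (x := (s : F)) (y := (s : F) * y) (by rw [map_mul, map_mul, map_inv, he, σ_lift, h1_a, mul_one])
      (by rw [map_mul, map_mul, map_inv, he, σ_lift, h1_d]), sq, mul_assoc]

include R hσ in
theorem lc_self {φ : K → G} (hadd : ∀ x y, φ x * φ y = φ (x + y))
    (hscal : ∀ z, z ≠ 0 → ∃ g, ∀ x, g * φ x * g⁻¹ = φ (z * x)) (t t' : K) : LC σ (φ t) (φ t') := by
  have hcm : ∀ x y, Commute (φ x) (φ y) := fun x y => by rw [Commute, SemiconjBy, hadd, hadd, add_comm]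
  set β : K → K → E := fun t t' => ⁅lift hσ (φ t), lift hσ (φ t')⁆ with hβ
  have hc : ∀ t t' d, Commute (β t t') d := fun t t' d =>
    (mem_center_iff.1 (central_of_commute hk (a := lift hσ (φ t)) (b := lift hσ (φ t'))
      (by rw [σ_lift, σ_lift]; exact hcm _ _)) d).symm
  have h := pairing_eq_one β hc
    (fun t t' r => by
      simp only [hβ]
      rw [commutator_congr hk (a' := lift hσ (φ t) * lift hσ (φ t')) (b' := lift hσ (φ r))
        (by rw [map_mul, σ_lift, σ_lift, σ_lift, hadd]) rfl, comm_mul_left (hc t' r _)]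
      exact (hc t' r _).eq)
    (fun r t t' => by
      simp only [hβ]
      rw [commutator_congr hk (a' := lift hσ (φ r)) (b' := lift hσ (φ t) * lift hσ (φ t'))
        rfl (by rw [map_mul, σ_lift, σ_lift, σ_lift, hadd]), comm_mul_right (hc r t' _)])
    (fun z hz t t' => by
      obtain ⟨g, hg⟩ := hscal z hz
      simp only [hβ]
      exact commutator_conj hk (n := lift hσ g) (by rw [σ_lift, σ_lift]; exact hcm _ _)
        (by simp only [σ_lift, hg]) (by simp only [σ_lift, hg]))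
    R.big t t'
  exact fun X Y hX hY => commute_congr hk (by rw [σ_lift, hX]) (by rw [σ_lift, hY])
    (commutatorElement_eq_one_iff_commute.1 h)

theorem scal_b (z : K) (hz : z ≠ 0) : ∃ g, ∀ x, g * R.b x * g⁻¹ = R.b (z * x) := by
  obtain ⟨s, k, e⟩ := R.dec (Units.mk0 z hz)
  have hN := R.H.N_ne k
  refine ⟨R.H.h1 (s * Units.mk0 _ hN) * R.H.hk k, fun x => ?_⟩
  rw [mul_inv_rev, show R.H.h1 (s * Units.mk0 _ hN) * R.H.hk k * R.b x *
    ((R.H.hk k)⁻¹ * (R.H.h1 (s * Units.mk0 _ hN))⁻¹) = R.H.h1 (s * Units.mk0 _ hN) *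
    (R.H.hk k * R.b x * (R.H.hk k)⁻¹) * (R.H.h1 (s * Units.mk0 _ hN))⁻¹ by group, hk_b, h1_b]
  congr 1
  rw [Units.val_mk0] at e
  rw [e, smul_smul, Units.val_mul, Units.val_mk0, mul_assoc, mul_inv_cancel₀ hN, mul_one, smul_mul_assoc]

theorem scal_c (z : K) (hz : z ≠ 0) : ∃ g, ∀ x, g * R.c x * g⁻¹ = R.c (z * x) := by
  obtain ⟨s, k, e⟩ := R.dec (Units.mk0 z hz)
  have hN := R.H.N_ne k⁻¹
  refine ⟨R.H.h1 (s * (Units.mk0 _ hN)⁻¹) * R.H.hk k⁻¹, fun x => ?_⟩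
  rw [mul_inv_rev, show R.H.h1 (s * (Units.mk0 _ hN)⁻¹) * R.H.hk k⁻¹ * R.c x *
    ((R.H.hk k⁻¹)⁻¹ * (R.H.h1 (s * (Units.mk0 _ hN)⁻¹))⁻¹) = R.H.h1 (s * (Units.mk0 _ hN)⁻¹) *
    (R.H.hk k⁻¹ * R.c x * (R.H.hk k⁻¹)⁻¹) * (R.H.h1 (s * (Units.mk0 _ hN)⁻¹))⁻¹ by group, hk_c, h1_c]
  congr 1
  rw [Units.val_mk0] at e
  rw [e, smul_smul, Units.val_mul, Units.val_inv_eq_inv_val, Units.val_mk0, mul_assoc, inv_mul_cancel₀ hN,
    mul_one, smul_mul_assoc, Units.val_inv_eq_inv_val, inv_inv]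

include hσ in
theorem lc_bb (t t' : K) : LC σ (R.b t) (R.b t') := R.lc_self hk hσ R.b_add (R.scal_b hk) t t'

include hσ in
theorem lc_cc (t t' : K) : LC σ (R.c t) (R.c t') := R.lc_self hk hσ R.c_add (R.scal_c hk) t t'

theorem bc_base {X Y : E} {y : K} (hX : σ X = R.b (-1)) (hY : σ Y = R.c y) :
    ⁅X, Y⁆ = R.f hσ (-R.H.L y) := by
  obtain ⟨z1, hAu⟩ := R.Au1
  change R.a 1 * R.H.u 1 = R.H.u 1 * (R.a 1 * R.b (-1) * R.c 1 * R.d R.H.e * R.z z1.toAdd) at hAu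
  have hCu : R.c y * R.H.u 1 = R.H.u 1 * (R.c y * R.d (R.H.L y)) := by
    have h : R.c y * R.H.u 1 = R.H.u 1 * (R.c y * R.d (R.H.L (1 * y))) := R.H.Cu 1 y
    rwa [one_mul] at h
  set A' := lift hσ (R.a 1)
  set C' := lift hσ (R.c 1)
  set D' := lift hσ (R.d R.H.e)
  set Z' := lift hσ (R.z z1.toAdd)
  set Dl := lift hσ (R.d (R.H.L y))
  set U := lift hσ (R.H.u 1)
  have hAU : σ (U⁻¹ * A' * U) = σ (A' * X * C' * D' * Z') := by
    simp only [map_mul, map_inv, A', C', D', Z', U, σ_lift, hX]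
    rw [mul_assoc, hAu, inv_mul_cancel_left]
  have hYU : σ (U⁻¹ * Y * U) = σ (Y * Dl) := by
    simp only [map_mul, map_inv, Dl, U, σ_lift, hY]
    rw [mul_assoc, hCu, inv_mul_cancel_left]
  have h0 : ⁅A' * X * C' * D' * Z', Y * Dl⁆ = 1 := by
    rw [← commutator_congr hk hAU hYU]
    have : ⁅A', Y⁆ = 1 := commutatorElement_eq_one_iff_commute.2 (R.lc_ac hk hσ 1 y _ _ (σ_lift hσ _) hY)
    rw [show ⁅U⁻¹ * A' * U, U⁻¹ * Y * U⁆ = U⁻¹ * ⁅A', Y⁆ * U by simp [commutatorElement_def, mul_assoc], this]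
    group
  have hCY : Commute C' (Y * Dl) := (R.lc_cc hk hσ 1 y _ _ (σ_lift hσ _) hY).mul_right
    (R.lc_cd hk hσ 1 _ _ _ (σ_lift hσ _) (σ_lift hσ _))
  have hDY : Commute D' (Y * Dl) := ((R.lc_cd hk hσ y _ _ _ hY (σ_lift hσ _)).symm).mul_right
    (R.lc_dd hk hσ _ _ _ _ (σ_lift hσ _) (σ_lift hσ _))
  have hZY : Commute Z' (Y * Dl) := (R.lc_zc hk hσ _ y _ _ (σ_lift hσ _) hY).mul_right
    (R.lc_zd hk hσ _ _ _ _ (σ_lift hσ _) (σ_lift hσ _))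
  have hAX : ⁅A' * X * C' * D' * Z', Y * Dl⁆ = ⁅A' * X, Y * Dl⁆ := by
    have hrest : ⁅C' * D' * Z', Y * Dl⁆ = 1 :=
      commutatorElement_eq_one_iff_commute.2 ((hCY.mul_left hDY).mul_left hZY)
    rw [show A' * X * C' * D' * Z' = (A' * X) * (C' * D' * Z') by group,
      comm_mul_left (by rw [hrest]; exact Commute.one_left _), hrest, one_mul]
  rw [hAX] at h0
  have hXY : ⁅X, Y * Dl⁆ = ⁅X, Y⁆ := by
    have h1 : ⁅X, Dl⁆ = 1 :=
      commutatorElement_eq_one_iff_commute.2 (R.lc_bd hk hσ _ _ _ _ hX (σ_lift hσ _))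
    rw [comm_mul_right (by rw [h1]; exact Commute.one_left _), h1, mul_one]
  have hAD : ⁅A', Y * Dl⁆ = R.f hσ (R.H.L y) := by
    have h1 : ⁅A', Y⁆ = 1 := commutatorElement_eq_one_iff_commute.2 (R.lc_ac hk hσ 1 y _ _ (σ_lift hσ _) hY)
    have h2 : ⁅A', Dl⁆ = R.f hσ (1 * R.H.L y) := R.ad_eq hk hσ (σ_lift hσ _) (σ_lift hσ _)
    rw [one_mul] at h2
    rw [comm_mul_right (by rw [h2]; exact R.f_commute hk hσ hY (fun x => R.lc_zc hk hσ x y) _), h1, one_mul, h2]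
  have hσXY : σ ⁅X, Y⁆ = R.z (-R.H.L (-1 * y)) := by rw [map_commutatorElement, hX, hY, comm_bc]
  have hc : Commute ⁅X, Y⁆ A' := R.lc_za hk hσ _ 1 _ _ hσXY (σ_lift hσ _)
  rw [comm_mul_left (by rw [hXY]; exact hc), hXY, hAD, mul_eq_one_iff_eq_inv] at h0
  rw [h0, R.f_neg hk hσ]

theorem bc_eq {X Y : E} {x y : K} (hX : σ X = R.b x) (hY : σ Y = R.c y) :
    ⁅X, Y⁆ = R.f hσ (R.H.L (x * y)) := by
  by_cases hx : x = 0
  · subst hx
    rw [zero_mul, map_zero, R.f_zero hk hσ]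
    refine commutatorElement_eq_one_iff_commute.2 ?_
    rw [R.b_zero] at hX
    exact (mem_center_iff.1 (hk (MonoidHom.mem_ker.2 hX)) Y).symm
  · obtain ⟨s, k, e⟩ := R.dec (Units.mk0 (-x) (neg_ne_zero.2 hx))
    rw [Units.val_mk0] at e
    have hN := R.H.N_ne k
    set s' : Fˣ := s * Units.mk0 _ hN
    set y0 : K := (s : F)⁻¹ • ((R.H.N k)⁻¹ • (R.H.N k)⁻¹ • ((k : K) ^ 2 * y))
    have hb : R.H.h1 s' * (R.H.hk k * R.b (-1) * (R.H.hk k)⁻¹) * (R.H.h1 s')⁻¹ = R.b x := by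
      rw [hk_b, h1_b]
      congr 1
      rw [mul_neg_one, smul_neg, smul_neg, smul_smul, Units.val_mul, Units.val_mk0, mul_assoc, mul_inv_cancel₀ hN,
        mul_one, ← e, neg_neg]
    have hk0 : (k : K) ^ 2 ≠ 0 := pow_ne_zero _ k.ne_zero
    have hc : R.H.h1 s' * (R.H.hk k * R.c y0 * (R.H.hk k)⁻¹) * (R.H.h1 s')⁻¹ = R.c y := by
      rw [hk_c, h1_c]
      congr 1
      simp only [y0, mul_smul_comm, smul_smul, inv_pow, inv_mul_cancel_left₀ hk0]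
      convert one_smul F y using 2
      simp only [s', Units.val_mul, Units.val_mk0]
      field_simp
    have hv : (s' : F) ^ 2 * -R.H.L y0 = R.H.L (x * y) := by
      have hxe : x = -((s : F) • (k : K) ^ 2) := by rw [← e, neg_neg]
      rw [hxe]
      simp only [y0, map_smul, smul_eq_mul, neg_mul, smul_mul_assoc, map_neg, s', Units.val_mul, Units.val_mk0]
      field_simp
    set X0 := lift hσ (R.b (-1))
    set Y0 := lift hσ (R.c y0)
    set Hs := lift hσ (R.H.h1 s')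
    set Hk := lift hσ (R.H.hk k)
    rw [commutator_congr hk (a' := Hs * (Hk * X0 * Hk⁻¹) * Hs⁻¹) (b' := Hs * (Hk * Y0 * Hk⁻¹) * Hs⁻¹)
      (by simp only [map_mul, map_inv, Hs, Hk, X0, σ_lift, hb, hX])
      (by simp only [map_mul, map_inv, Hs, Hk, Y0, σ_lift, hc, hY]),
      ← conjugate_commutatorElement, ← conjugate_commutatorElement,
      R.bc_base hk hσ (σ_lift hσ _) (σ_lift hσ _), R.hk_f hk hσ (σ_lift hσ _), R.h1_f hk hσ (σ_lift hσ _), hv]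

/-- The lifts of the generators. -/
def gens : Set G := {g | (∃ x, g = R.z x) ∨ (∃ x, g = R.a x) ∨ (∃ x, g = R.b x) ∨ (∃ x, g = R.c x) ∨ ∃ x, g = R.d x}

omit hk in
theorem gens_closure : Subgroup.closure R.gens = R.Qg := by
  refine le_antisymm ((closure_le _).2 ?_) ?_
  · rintro g (⟨x, rfl⟩ | ⟨x, rfl⟩ | ⟨x, rfl⟩ | ⟨x, rfl⟩ | ⟨x, rfl⟩)
    exacts [R.z_mem x, R.a_mem x, R.b_mem x, R.c_mem x, R.d_mem x]
  · refine sup_le (sup_le (sup_le (sup_le ?_ ?_) ?_) ?_) ?_ <;> rintro _ ⟨x, rfl⟩ <;> refine subset_closure ?_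
    exacts [Or.inl ⟨x.toAdd, rfl⟩, Or.inr (Or.inl ⟨x.toAdd, rfl⟩), Or.inr (Or.inr (Or.inl ⟨x.toAdd, rfl⟩)),
      Or.inr (Or.inr (Or.inr (Or.inl ⟨x.toAdd, rfl⟩))), Or.inr (Or.inr (Or.inr (Or.inr ⟨x.toAdd, rfl⟩)))]

include hσ in
omit hk in
theorem comap_Qg : R.Qg.comap σ = closure {x : E | σ x ∈ R.gens} := by
  refine le_antisymm ?_ ((closure_le _).2 fun x hx => ?_)
  · have hker : σ.ker ≤ closure {x : E | σ x ∈ R.gens} := fun x hx =>
      subset_closure (show σ x ∈ R.gens by rw [MonoidHom.mem_ker.1 hx]; exact Or.inl ⟨0, R.z_zero.symm⟩)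
    have hmap : R.Qg ≤ (closure {x : E | σ x ∈ R.gens}).map σ := by
      rw [← R.gens_closure, closure_le]
      intro g hg
      exact ⟨lift hσ g, subset_closure (show σ (lift hσ g) ∈ R.gens by rwa [σ_lift]), σ_lift hσ g⟩
    refine (comap_mono hmap).trans ?_
    rw [comap_map_eq]
    exact sup_le le_rfl hker
  · show σ x ∈ R.Qg
    rw [← R.gens_closure]
    exact subset_closure hx

theorem Z0_le : R.Z0 hk hσ ≤ R.Qg.comap σ := by
  intro x hx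
  obtain ⟨y, rfl⟩ := (R.mem_Z0 hk hσ).1 hx
  rw [mem_comap, σ_f]
  exact R.z_mem _

theorem comm_gens : ∀ x : E, σ x ∈ R.gens → ∀ y : E, σ y ∈ R.gens → ⁅x, y⁆ ∈ R.Z0 hk hσ := by
  have h1 : ∀ {x y : E} {g g' : G}, LC σ g g' → σ x = g → σ y = g' → ⁅x, y⁆ ∈ R.Z0 hk hσ := fun h hx hy => by
    rw [commutatorElement_eq_one_iff_commute.2 (h _ _ hx hy)]
    exact one_mem _
  intro x hx y hy
  rcases hx with ⟨u, hu⟩ | ⟨u, hu⟩ | ⟨u, hu⟩ | ⟨u, hu⟩ | ⟨u, hu⟩ <;>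
    rcases hy with ⟨v, hv⟩ | ⟨v, hv⟩ | ⟨v, hv⟩ | ⟨v, hv⟩ | ⟨v, hv⟩
  · exact h1 (R.lc_zz hk hσ u v) hu hv
  · exact h1 (R.lc_za hk hσ u v) hu hv
  · exact h1 (R.lc_zb hk hσ u v) hu hv
  · exact h1 (R.lc_zc hk hσ u v) hu hv
  · exact h1 (R.lc_zd hk hσ u v) hu hv
  · exact h1 (R.lc_za hk hσ v u).symm hu hv
  · exact h1 (R.lc_aa hk hσ u v) hu hv
  · exact h1 (R.lc_ab hk hσ u v) hu hv
  · exact h1 (R.lc_ac hk hσ u v) hu hv
  · rw [R.ad_eq hk hσ hu hv]; exact R.f_mem hk hσ _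
  · exact h1 (R.lc_zb hk hσ v u).symm hu hv
  · exact h1 (R.lc_ab hk hσ v u).symm hu hv
  · exact h1 (R.lc_bb hk hσ u v) hu hv
  · rw [R.bc_eq hk hσ hu hv]; exact R.f_mem hk hσ _
  · exact h1 (R.lc_bd hk hσ u v) hu hv
  · exact h1 (R.lc_zc hk hσ v u).symm hu hv
  · exact h1 (R.lc_ac hk hσ v u).symm hu hv
  · rw [← commutatorElement_inv, R.bc_eq hk hσ hv hu]; exact inv_mem (R.f_mem hk hσ _)
  · exact h1 (R.lc_cc hk hσ u v) hu hv
  · exact h1 (R.lc_cd hk hσ u v) hu hv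
  · exact h1 (R.lc_zd hk hσ v u).symm hu hv
  · rw [← commutatorElement_inv, R.ad_eq hk hσ hv hu]; exact inv_mem (R.f_mem hk hσ _)
  · exact h1 (R.lc_bd hk hσ v u).symm hu hv
  · exact h1 (R.lc_cd hk hσ v u).symm hu hv
  · exact h1 (R.lc_dd hk hσ u v) hu hv

/-- The lifted radical is of class two with derived group the lifted centre. -/
theorem class_two : (∀ z ∈ R.Z0 hk hσ, ∀ x ∈ R.Qg.comap σ, Commute z x) ∧
    ∀ x ∈ R.Qg.comap σ, ∀ y ∈ R.Qg.comap σ, ⁅x, y⁆ ∈ R.Z0 hk hσ := by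
  rw [R.comap_Qg hσ]
  refine commutator_mem_of_gen ?_ (R.comm_gens hk hσ)
  intro z hz x hx
  obtain ⟨y, rfl⟩ := (R.mem_Z0 hk hσ).1 hz
  rcases hx with ⟨u, hu⟩ | ⟨u, hu⟩ | ⟨u, hu⟩ | ⟨u, hu⟩ | ⟨u, hu⟩
  exacts [R.f_commute hk hσ hu (fun w => R.lc_zz hk hσ w u) y, R.f_commute hk hσ hu (fun w => R.lc_za hk hσ w u) y,
    R.f_commute hk hσ hu (fun w => R.lc_zb hk hσ w u) y, R.f_commute hk hσ hu (fun w => R.lc_zc hk hσ w u) y,
    R.f_commute hk hσ hu (fun w => R.lc_zd hk hσ w u) y]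

theorem Z0_u {e : E} {t : K} (he : σ e = R.H.u t) : ∀ z ∈ R.Z0 hk hσ, e * z * e⁻¹ = z := by
  intro z hz
  obtain ⟨y, rfl⟩ := (R.mem_Z0 hk hσ).1 hz
  exact mul_inv_eq_iff_eq_mul.2 (R.f_commute hk hσ he (fun w => R.lc_zu hk hσ w t) y).symm.eq

theorem Qg_u {e : E} {t : K} (he : σ e = R.H.u t) : ∀ x ∈ R.Qg.comap σ, e * x * e⁻¹ ∈ R.Qg.comap σ := by
  intro x hx
  rw [mem_comap, map_mul, map_mul, map_inv, he]
  exact R.u_norm t _ hx

end Rad

end Cfsg.Agent.Lib.TwMult
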