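import Cfsg.Agent.Lib.TwMult.TwFrameN

/-!
The part prime to the characteristic of the multiplier of a twisted group with orthogonal orbits.
-/

set_option autoImplicit false
set_option linter.unusedSectionVars false

namespace Cfsg.Agent.Lib.TwMult.OrthN

open Cfsg.Lie
open Cfsg.Agent.Lib.ChevStructure Cfsg.Agent.Lib.LieTwisted.Twist
open scoped MatrixGroups

universe u

variable {D : ChevalleyDatum} {C : Core D} {K : Type u} [Field K] [Finite K] (O : Orth C K)

/-- The units of the field of an orbit as parameters in `Kˣ`. -/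
noncomputable def uK (m : Fin O.nn) : (OrthRank.Fo O (O.os m))ˣ →* Kˣ :=
  Units.map (OrthRank.Fo O (O.os m)).subtype.toMonoidHom

theorem uK_inj (m : Fin O.nn) : Function.Injective (uK O m) := fun a b h =>
  Units.ext (Subtype.ext (congrArg Units.val h))

theorem tup_mul (m : Fin O.nn) (u v : Kˣ) :
    OrthRank.tup O m (u * v) = OrthRank.tup O m u * OrthRank.tup O m v := by
  have hit : ∀ k, (Units.map (O.φ : K →* K) : Kˣ → Kˣ)^[k] (u * v) =
      (Units.map (O.φ : K →* K) : Kˣ → Kˣ)^[k] u * (Units.map (O.φ : K →* K) : Kˣ → Kˣ)^[k] v := fun k =>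
    iterate_map_mul (Units.map (O.φ : K →* K)) k u v
  simp only [OrthRank.tup]
  rw [← List.prod_map_mul]
  refine congrArg List.prod (List.map_congr_left fun k _ => ?_)
  rw [hit, Pi.mulSingle_mul]

theorem slH_hom {R : Type*} [CommRing R] (u v : Rˣ) : slH (u * v) = slH u * slH v := by
  refine Subtype.ext ?_
  rw [Matrix.SpecialLinearGroup.coe_mul, slH_val, slH_val, slH_val]
  simp [Matrix.mul_fin_two, mul_comm]

section Inj

variable (htr : ∀ (m : Fin O.nn) (u : Kˣ), O.Valid (O.os m) (u : K) → C.HT K (OrthRank.tup O m u) = 1 → u = 1)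
include htr

theorem orbS_inj (m : Fin O.nn) : Function.Injective (OrthRank.orbS O m) := by
  refine (injective_iff_map_eq_one _).2 fun g hg => ?_
  obtain ⟨u, rfl⟩ := OrthRank.orbS_torus O m (g := g) (hg ▸ one_mem _)
  have h1 : OrthRank.orbHom O (O.os m) (slH u) = 1 := by rw [← OrthRank.orbS_val, hg]; rfl
  rw [OrthRank.orbHom_slH] at h1
  have hu := htr m _ ((OrthRank.mem_Fo O).1 (u : OrthRank.Fo O (O.os m)).2) h1
  have : u = 1 := uK_inj O m (hu.trans (map_one _).symm)
  subst this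
  refine Subtype.ext ?_
  simp [slH_val, Matrix.one_fin_two]

/-- The groups of rank one are SL₂. -/
noncomputable def isoRank (m : Fin O.nn) : SL(2, OrthRank.Fo O (O.os m)) ≃* ↥(rankOne O.tw m) :=
  (MonoidHom.ofInjective (orbS_inj O htr m)).trans (MulEquiv.subgroupCongr (OrthRank.orbS_range O m))

theorem exists_comp_rankOne {p : ℕ} (hp : p.Prime) [CharP K p] {E : Type u} [Group E] [Finite E]
    {σ : E →* ↥O.tw.W} (hk : σ.ker ≤ Subgroup.center E) (hσ : Function.Surjective σ)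
    (hker : p.Coprime (Nat.card σ.ker)) (i : Fin O.nn) :
    ∃ T : Subgroup E, IsComp σ (rankOne O.tw i) T := by
  haveI := Fact.mk hp
  haveI : Fintype ↥(OrthRank.Fo O (O.os i)) := Fintype.ofFinite _
  haveI : CharP ↥(OrthRank.Fo O (O.os i)) p :=
    (RingHom.charP_iff_charP (OrthRank.Fo O (O.os i)).subtype p).2 inferInstance
  refine exists_comp_coprime hk hσ hp hker _ ?_
    fun r hr hrp => (noPart_sl2_cross hr hrp).of_equiv (isoRank O htr i)
  rw [← OrthRank.orbS_range O i, MonoidHom.range_eq_map]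
  set S := {g | g ∈ Subgroup.map (OrthRank.orbS O i) ⊤ ∧ ∃ j, g ^ p ^ j = 1}
  have hmem : ∀ g : SL(2, ↥(OrthRank.Fo O (O.os i))), g ^ p = 1 →
      OrthRank.orbS O i g ∈ Subgroup.closure S := fun g hg =>
    Subgroup.subset_closure ⟨⟨g, trivial, rfl⟩, 1, by rw [pow_one, ← map_pow, hg, map_one]⟩
  have hU : ∀ t : ↥(OrthRank.Fo O (O.os i)), ∀ k : ℕ, slU t ^ k = slU ((k : ℕ) * t) ∧ slL t ^ k = slL ((k : ℕ) * t) := by
    intro t k
    induction k with
    | zero => constructor <;> rw [pow_zero] <;> refine Subtype.ext ?_ <;> simp [slU, slL, Matrix.one_fin_two]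
    | succ k ih =>
      constructor <;> refine Subtype.ext ?_
      · rw [pow_succ, ih.1]; simp [Matrix.SpecialLinearGroup.coe_mul, add_mul, add_comm]
      · rw [pow_succ, ih.2]; simp [Matrix.SpecialLinearGroup.coe_mul, add_mul, add_comm]
  have key : (Subgroup.closure S).comap (OrthRank.orbS O i) = ⊤ := OrthRank.sl2_top
    (fun t => hmem _ (by rw [(hU t p).1, CharP.cast_eq_zero, zero_mul]; exact Subtype.ext (by simp [slU, Matrix.one_fin_two])))
    (fun t => hmem _ (by rw [(hU t p).2, CharP.cast_eq_zero, zero_mul]; exact Subtype.ext (by simp [slL, Matrix.one_fin_two])))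
  exact Subgroup.map_le_iff_le_comap.2 key.ge

/-- A stem extension with kernel of order prime to the characteristic has kernel of order dividing
that of the kernel of the torus map. -/
theorem card_ker_dvd (W : TwN.WData O.tw) (hq : 1 < O.q) {p : ℕ} (hp : p.Prime) [CharP K p] {e : ℕ} (hqp : O.q = p ^ e) {E : Type u} [Group E]
    [Finite E] {σ : E →* ↥O.tw.W} (hσ : Cfsg.IsStemExtension σ) (hker : p.Coprime (Nat.card σ.ker)) :
    Nat.card σ.ker ∣ Nat.card ↥((C.HThom K).comp O.TF.subtype).ker := by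
  classical
  have hk := hσ.2.1
  have hU : (Nat.card ↥(TwN.frameN W hq (OrthRank.nS_mem O) (OrthRank.top_eq O)).U).Coprime (Nat.card σ.ker) := by
    show (Nat.card ↥(uS O.tw C.Pos)).Coprime _
    rw [uS, ← Subgroup.inf_subgroupOf_right,
      (Nat.card_congr (Subgroup.subgroupOfEquivOfLe inf_le_right).toEquiv).trans O.tw.card_posU]
    show (O.q ^ _).Coprime _
    rw [hqp, ← pow_mul]
    exact hker.pow_left _
  obtain ⟨T, Lt, hLt, hcomm, hTσ, hTk⟩ : ∃ (T : Subgroup E) (Lt : Fin O.nn → Subgroup E),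
      (∀ i : Fin O.nn, IsComp σ (rankOne O.tw i) (Lt i)) ∧
      (∀ i j : Fin O.nn, ∀ a ∈ Lt i ⊓ (tor O.tw).comap σ, ∀ b ∈ Lt j ⊓ (tor O.tw).comap σ, Commute a b) ∧
      T.map σ = ⊤ ∧ T ⊓ σ.ker ≤ ⨆ i, Lt i ⊓ (tor O.tw).comap σ :=
    (TwN.frameN W hq (OrthRank.nS_mem O) (OrthRank.top_eq O)).exists_almost_complement hk hσ.1 hU (exists_comp_rankOne O htr hp hk hσ.1 hker)
  have hkerT : σ.ker ≤ T := by
    refine hσ.2.2.trans ?_
    rw [commutator_def, Subgroup.commutator_le]
    intro a _ b _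
    obtain ⟨a', ha', ea⟩ : σ a ∈ T.map σ := hTσ ▸ Subgroup.mem_top _
    obtain ⟨b', hb', eb⟩ : σ b ∈ T.map σ := hTσ ▸ Subgroup.mem_top _
    rw [Schur.Fusion.commutator_congr hk ea.symm eb.symm, commutatorElement_def]
    exact mul_mem (mul_mem (mul_mem ha' hb') (inv_mem ha')) (inv_mem hb')
  -- lifts of the tori
  let sH : ∀ i : Fin O.nn, (OrthRank.Fo O (O.os i))ˣ →* ↥(rankOne O.tw i) := fun i =>
    (isoRank O htr i).toMonoidHom.comp (MonoidHom.mk' slH slH_hom)
  let g : ∀ i : Fin O.nn, ↥(Lt i) →* ↥(rankOne O.tw i) := fun i =>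
    (σ.comp (Lt i).subtype).codRestrict _ fun x => (hLt i).mem x.2
  have hg : ∀ i, Function.Bijective (g i) := fun i => by
    refine ⟨fun a b h => Subtype.ext ((hLt i).inj a.2 b.2 (congrArg Subtype.val h)), fun y => ?_⟩
    obtain ⟨x, hx, e⟩ := (hLt i).exists_mem y.2
    exact ⟨⟨x, hx⟩, Subtype.ext e⟩
  let sec : ∀ i : Fin O.nn, ↥(rankOne O.tw i) →* E := fun i =>
    (Lt i).subtype.comp (MulEquiv.ofBijective (g i) (hg i)).symm.toMonoidHom
  have hsec : ∀ (i : Fin O.nn) (y : ↥(rankOne O.tw i)), sec i y ∈ Lt i ∧ σ (sec i y) = y := fun i y => by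
    refine ⟨((MulEquiv.ofBijective (g i) (hg i)).symm y).2, ?_⟩
    exact congrArg Subtype.val ((MulEquiv.ofBijective (g i) (hg i)).apply_symm_apply y)
  have hsH : ∀ (i : Fin O.nn) (u : (OrthRank.Fo O (O.os i))ˣ), ((sH i u : ↥(rankOne O.tw i)) : ↥O.tw.W) = OrthRank.orbS O i (slH u) := fun i u => rfl
  have hsHt : ∀ (i : Fin O.nn) (u : (OrthRank.Fo O (O.os i))ˣ), ((sH i u : ↥(rankOne O.tw i)) : ↥O.tw.W) ∈ tor O.tw := fun i u => by
    rw [hsH, mem_tor O.tw, OrthRank.orbS_val, OrthRank.orbHom_slH]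
    exact C.HT_mem_diagonal _
  have hmemA : ∀ (i : Fin O.nn) (u : (OrthRank.Fo O (O.os i))ˣ), sec i (sH i u) ∈ Lt i ⊓ (tor O.tw).comap σ := fun i u =>
    Subgroup.mem_inf.2 ⟨(hsec i _).1, Subgroup.mem_comap.2 ((hsec i _).2.symm ▸ hsHt i u)⟩
  let ψ : ∀ i : Fin O.nn, (OrthRank.Fo O (O.os i))ˣ →* E := fun i => (sec i).comp (sH i)
  have hψc : Pairwise fun i j => ∀ x y, Commute (ψ i x) (ψ j y) := fun i j _ x y =>
    hcomm i j _ (hmemA i x) _ (hmemA j y)
  let Φ := MonoidHom.noncommPiCoprod ψ hψc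
  let tupAll : (∀ i : Fin O.nn, (OrthRank.Fo O (O.os i))ˣ) →* (Fin D.rank → Kˣ) :=
    MonoidHom.mk' (fun u => ∏ i, OrthRank.tup O i (uK O i (u i))) fun u v => by
      rw [← Finset.prod_mul_distrib]
      exact Finset.prod_congr rfl fun i _ => by rw [Pi.mul_apply, map_mul, tup_mul]
  have hΦσ : O.tw.W.subtype.comp (σ.comp Φ) = (C.HThom K).comp tupAll := by
    refine MonoidHom.pi_ext fun i u => ?_
    show ((σ (Φ (Pi.mulSingle i u)) : ↥O.tw.W) : GL D.Idx K) = C.HT K (tupAll (Pi.mulSingle i u))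
    rw [MonoidHom.noncommPiCoprod_mulSingle]
    show ((σ (sec i (sH i u)) : ↥O.tw.W) : GL D.Idx K) = _
    rw [(hsec i _).2, hsH, OrthRank.orbS_val, OrthRank.orbHom_slH]
    congr 1
    show _ = ∏ j : Fin O.nn, OrthRank.tup O j (uK O j ((Pi.mulSingle i u : ∀ k : Fin O.nn, (OrthRank.Fo O (O.os k))ˣ) j))
    rw [Finset.prod_eq_single i]
    · rw [Pi.mulSingle_eq_same]; rfl
    · intro j _ hj
      rw [Pi.mulSingle_eq_of_ne hj, map_one]
      exact funext fun k => by
        have h := congrFun (tup_mul O j 1 1) k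
        rwa [mul_one, Pi.mul_apply, left_eq_mul] at h
    · simp
  have htupTF : ∀ u, tupAll u ∈ O.TF := fun u =>
    Subgroup.prod_mem _ fun i _ => OrthRank.tup_fix O i _ ((OrthRank.mem_Fo O).1 (u i : OrthRank.Fo O (O.os i)).2)
  have hrange : σ.ker ≤ ((C.HThom K).comp tupAll).ker.map Φ := by
    intro x hx
    have hle : (⨆ i, (Lt i ⊓ (tor O.tw).comap σ)) ≤ Φ.range := by
      refine iSup_le fun i a ha => ?_
      obtain ⟨haL, haH⟩ := Subgroup.mem_inf.1 ha
      obtain ⟨gg, hgg⟩ : σ a ∈ (OrthRank.orbS O i).range := OrthRank.orbS_range O i ▸ (hLt i).mem haL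
      obtain ⟨u, rfl⟩ := OrthRank.orbS_torus O i (g := gg) (hgg ▸ Subgroup.mem_comap.1 haH)
      refine ⟨Pi.mulSingle i u, ?_⟩
      rw [MonoidHom.noncommPiCoprod_mulSingle]
      show sec i (sH i u) = a
      exact (hLt i).inj (hsec i _).1 haL ((hsec i _).2.trans ((hsH i u).trans hgg))
    obtain ⟨u, hu⟩ := hle (hTk (Subgroup.mem_inf.2 ⟨hkerT hx, hx⟩))
    refine ⟨u, ?_, hu⟩
    have h := DFunLike.congr_fun hΦσ u
    rw [MonoidHom.comp_apply, MonoidHom.comp_apply] at h
    rw [SetLike.mem_coe, MonoidHom.mem_ker, ← h, hu, MonoidHom.mem_ker.1 hx]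
    rfl
  let ι : ↥((C.HThom K).comp tupAll).ker →* ↥((C.HThom K).comp O.TF.subtype).ker :=
    (((tupAll.comp ((C.HThom K).comp tupAll).ker.subtype).codRestrict O.TF fun u => htupTF u).codRestrict
      _ fun u => u.2)
  have hι : Function.Injective ι := by
    intro a b h
    have h' : tupAll a = tupAll b := congrArg (fun x : ↥((C.HThom K).comp O.TF.subtype).ker =>
      ((x : ↥O.TF) : Fin D.rank → Kˣ)) h
    refine Subtype.ext (funext fun i => uK_inj O i ?_)
    have hat : ∀ u : ∀ i : Fin O.nn, (OrthRank.Fo O (O.os i))ˣ,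
        tupAll u (O.os i) = uK O i (u i) := fun u => by
      show (∏ j, OrthRank.tup O j (uK O j (u j))) (O.os i) = _
      rw [Finset.prod_apply, Finset.prod_eq_single i]
      · exact OrthRank.tup_os O i _
      · intro j _ hj
        exact OrthRank.tup_off O _ (by rw [O.idx_os]; exact Ne.symm hj)
      · simp
    rw [← hat, ← hat, h']
  have h1 : Nat.card ↥((C.HThom K).comp tupAll).ker ∣ Nat.card ↥((C.HThom K).comp O.TF.subtype).ker :=
    Subgroup.card_dvd_of_injective ι hι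
  exact ((Subgroup.card_dvd_of_le hrange).trans (Subgroup.card_map_dvd _ Φ)).trans h1

end Inj

end Cfsg.Agent.Lib.TwMult.OrthN
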