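import Cfsg.Agent.Lib.TwMult.TwFrame
import Cfsg.Agent.Lib.LieTwisted.Twist.Orth
import Cfsg.Agent.Lib.LieTwisted.Twist.TwRankOne
import Cfsg.Agent.Lib.ChevStructure.RankOne
import Cfsg.Agent.Lib.Linear.Transvection

/-!
The groups of rank one of a twisted group with orthogonal orbits are images of SL₂.
-/

set_option autoImplicit false
set_option linter.unusedSectionVars false

namespace Cfsg.Agent.Lib.TwMult.OrthRank

open Cfsg.Lie
open Cfsg.Agent.Lib.ChevStructure Cfsg.Agent.Lib.LieTwisted.Twist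
open scoped MatrixGroups

variable {D : ChevalleyDatum} {C : Core D} {K : Type*} [Field K] (O : Orth C K)

/-- The field of parameters of an orbit. -/
def Fo (i : Fin D.rank) : Subfield K :=
  RingHom.eqLocusField ((O.φ : K →+* K) ^ O.sz i) (RingHom.id K)

theorem mem_Fo {i : Fin D.rank} {t : K} : t ∈ Fo O i ↔ O.Valid i t := by
  show ((O.φ : K →+* K) ^ O.sz i) t = t ↔ _
  rw [RingHom.coe_pow]
  rfl

/-- The homomorphism of a root. -/
noncomputable def rootHom (r : Rt D) : SL(2, K) →* GL D.Idx K := Classical.choose (C.exists_slHom K r)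

theorem rootHom_range (r : Rt D) : (rootHom (K := K) (C := C) r).range = C.US K {r} ⊔ C.US K {r.rev} :=
  (Classical.choose_spec (C.exists_slHom K r)).1

theorem rootHom_slU (r : Rt D) (t : K) : rootHom (C := C) r (slU t) = C.X K r t :=
  ((Classical.choose_spec (C.exists_slHom K r)).2 t).1

theorem rootHom_slL (r : Rt D) (t : K) : rootHom (C := C) r (slL t) = C.X K r.rev t :=
  ((Classical.choose_spec (C.exists_slHom K r)).2 t).2

theorem rootHom_slN (r : Rt D) (u : Kˣ) : rootHom (C := C) r (slN u) = C.nR K r u := by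
  rw [slN, map_mul, map_mul, rootHom_slU, rootHom_slL]
  rfl

theorem rootHom_slH (r : Rt D) (u : Kˣ) : rootHom (C := C) r (slH u) = Core.hD K r u := by
  rw [slH, map_mul, rootHom_slN, rootHom_slN, C.hR_eq]

/-- The entrywise map of the `k`-th factor. -/
def factorMap (i : Fin D.rank) (k : ℕ) : SL(2, Fo O i) →* SL(2, K) :=
  Matrix.SpecialLinearGroup.map (((O.φ : K →+* K) ^ k).comp (Fo O i).subtype)

theorem rootHom_comm {i : Fin D.rank} {a b : ℕ} (ha : a < O.sz i) (hb : b < O.sz i) (hab : a ≠ b)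
    (x y : SL(2, K)) : Commute (rootHom (C := C) (C.p ((O.ρ : _ → _)^[a] i)) x)
      (rootHom (C := C) (C.p ((O.ρ : _ → _)^[b] i)) y) := by
  have h1 : rootHom (C := C) (C.p ((O.ρ : _ → _)^[a] i)) x ∈
      C.US K {C.p ((O.ρ : _ → _)^[a] i)} ⊔ C.US K {(C.p ((O.ρ : _ → _)^[a] i)).rev} :=
    (rootHom_range (K := K) (C := C) _).le ⟨x, rfl⟩
  have h2 : rootHom (C := C) (C.p ((O.ρ : _ → _)^[b] i)) y ∈
      C.US K {C.p ((O.ρ : _ → _)^[b] i)} ⊔ C.US K {(C.p ((O.ρ : _ → _)^[b] i)).rev} :=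
    (rootHom_range (K := K) (C := C) _).le ⟨y, rfl⟩
  have gen : ∀ (s : Bool) (t : K), C.US K {C.p ((O.ρ : _ → _)^[a] i)} ⊔ C.US K {(C.p ((O.ρ : _ → _)^[a] i)).rev} ≤
      Subgroup.centralizer {C.X K (sd s (C.p ((O.ρ : _ → _)^[b] i))) t} := by
    intro s t
    refine sup_le ((Subgroup.closure_le _).2 ?_) ((Subgroup.closure_le _).2 ?_) <;> rintro _ ⟨r, hr, u, rfl⟩ <;>
      rw [Set.mem_singleton_iff] at hr <;> subst hr <;> refine Subgroup.mem_centralizer_singleton_iff.2 ?_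
    · exact (O.commute_root false s ha hb hab u t).eq
    · exact (O.commute_root true s ha hb hab u t).eq
  have hle : C.US K {C.p ((O.ρ : _ → _)^[b] i)} ⊔ C.US K {(C.p ((O.ρ : _ → _)^[b] i)).rev} ≤
      Subgroup.centralizer {rootHom (C := C) (C.p ((O.ρ : _ → _)^[a] i)) x} := by
    refine sup_le ((Subgroup.closure_le _).2 ?_) ((Subgroup.closure_le _).2 ?_) <;> rintro _ ⟨r, hr, u, rfl⟩ <;>
      rw [Set.mem_singleton_iff] at hr <;> subst hr <;> refine Subgroup.mem_centralizer_singleton_iff.2 ?_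
    · exact (Subgroup.mem_centralizer_singleton_iff.1 (gen false u h1)).symm
    · exact (Subgroup.mem_centralizer_singleton_iff.1 (gen true u h1)).symm
  exact (Subgroup.mem_centralizer_singleton_iff.1 (hle h2)).symm

/-- The homomorphism of an orbit. -/
noncomputable def orbHom (i : Fin D.rank) : SL(2, Fo O i) →* GL D.Idx K :=
  MonoidHom.mk' (fun g => ((List.range (O.sz i)).map fun k =>
      rootHom (C := C) (C.p ((O.ρ : _ → _)^[k] i)) (factorMap O i k g)).prod) fun g h => by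
    rw [← prod_split _ List.nodup_range _ _ fun a ha b hb hab =>
      rootHom_comm O (List.mem_range.1 ha) (List.mem_range.1 hb) hab _ _]
    simp only [map_mul]

theorem orbHom_apply (i : Fin D.rank) (g : SL(2, Fo O i)) : orbHom O i g =
    ((List.range (O.sz i)).map fun k => rootHom (C := C) (C.p ((O.ρ : _ → _)^[k] i)) (factorMap O i k g)).prod :=
  rfl

theorem pow_apply (k : ℕ) (t : K) : ((O.φ : K →+* K) ^ k) t = (O.φ : K → K)^[k] t := by
  rw [RingHom.coe_pow]
  rfl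

theorem factor_slU (i : Fin D.rank) (k : ℕ) (t : Fo O i) :
    factorMap O i k (slU t) = slU ((O.φ : K → K)^[k] (t : K)) := by
  refine Subtype.ext ?_
  ext a b
  show ((O.φ : K →+* K) ^ k) (((slU t : SL(2, Fo O i)) : Matrix (Fin 2) (Fin 2) (Fo O i)) a b : K) = _
  fin_cases a <;> fin_cases b <;>
    simp [slU, pow_apply, O.φ_iter_zero, O.φ_iter_one]

theorem factor_slL (i : Fin D.rank) (k : ℕ) (t : Fo O i) :
    factorMap O i k (slL t) = slL ((O.φ : K → K)^[k] (t : K)) := by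
  refine Subtype.ext ?_
  ext a b
  show ((O.φ : K →+* K) ^ k) (((slL t : SL(2, Fo O i)) : Matrix (Fin 2) (Fin 2) (Fo O i)) a b : K) = _
  fin_cases a <;> fin_cases b <;>
    simp [slL, pow_apply, O.φ_iter_zero, O.φ_iter_one]

theorem orbHom_slU (i : Fin D.rank) (t : Fo O i) : orbHom O i (slU t) = O.xS false i t := by
  rw [orbHom_apply, Orth.xS, Orth.oprod]
  refine congrArg List.prod (List.map_congr_left fun k _ => ?_)
  rw [factor_slU, rootHom_slU]
  rfl

theorem orbHom_slL (i : Fin D.rank) (t : Fo O i) : orbHom O i (slL t) = O.xS true i t := by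
  rw [orbHom_apply, Orth.xS, Orth.oprod]
  refine congrArg List.prod (List.map_congr_left fun k _ => ?_)
  rw [factor_slL, rootHom_slL]
  rfl

theorem sl2_top {F : Type*} [Field F] {H : Subgroup SL(2, F)} (hu : ∀ t, slU t ∈ H) (hl : ∀ t, slL t ∈ H) :
    H = ⊤ := by
  refine Linear.sl_eq_top_of_transvection_mem _ fun i j hij c => ?_
  obtain ⟨rfl, rfl⟩ | ⟨rfl, rfl⟩ : i = 0 ∧ j = 1 ∨ i = 1 ∧ j = 0 := by
    revert hij; revert i j; decide
  · convert hu c using 1
    refine Subtype.ext ?_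
    ext a b
    fin_cases a <;> fin_cases b <;> simp [slU, Matrix.SpecialLinearGroup.transvection_coe, Matrix.single]
  · convert hl c using 1
    refine Subtype.ext ?_
    ext a b
    fin_cases a <;> fin_cases b <;> simp [slL, Matrix.SpecialLinearGroup.transvection_coe, Matrix.single]

theorem orbHom_mem (i : Fin D.rank) (g : SL(2, Fo O i)) : orbHom O i g ∈ O.G1 := by
  have h : O.G1.comap (orbHom O i) = ⊤ := sl2_top
    (fun t => by rw [Subgroup.mem_comap, orbHom_slU]; exact O.xS_mem i ((mem_Fo O).1 t.2))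
    (fun t => by rw [Subgroup.mem_comap, orbHom_slL]; exact O.xS_mem i ((mem_Fo O).1 t.2))
  have hg := Subgroup.mem_top g
  rwa [← h] at hg

variable [Finite K]

/-- The group of rank one as an image. -/
noncomputable def orbS (m : Fin O.nn) : SL(2, Fo O (O.os m)) →* ↥O.tw.W :=
  (orbHom O (O.os m)).codRestrict O.tw.W (orbHom_mem O _)

theorem orbS_val (m : Fin O.nn) (g : SL(2, Fo O (O.os m))) :
    (orbS O m g : GL D.Idx K) = orbHom O (O.os m) g := rfl

theorem mem_uO {m : Fin O.nn} {g : ↥O.tw.W} :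
    g ∈ uO O.tw m ↔ ∃ t, O.Valid (O.os m) t ∧ (g : GL D.Idx K) = O.xS false (O.os m) t := by
  constructor
  · intro h
    exact O.fixed_eq_xS m ((mem_uS O.tw).1 h) (O.G1_fix _ g.2)
  · rintro ⟨t, -, e⟩
    exact (mem_uS O.tw).2 (e ▸ O.oprod_mem m _)

theorem orbS_slN_one (m : Fin O.nn) : orbS O m (slN 1) = O.tw.nS m := by
  refine Subtype.ext ?_
  show orbHom O (O.os m) (slN 1) = C.wprod K (O.Jl m)
  rw [orbHom_apply, Core.wprod, Orth.Jl, List.map_map]
  refine congrArg List.prod (List.map_congr_left fun k _ => ?_)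
  have e : factorMap O (O.os m) k (slN 1) = slN 1 := by
    refine Subtype.ext ?_
    ext a b
    show ((O.φ : K →+* K) ^ k) (((slN 1 : SL(2, Fo O (O.os m))).1 a b : Fo O (O.os m)) : K) = _
    fin_cases a <;> fin_cases b <;> simp [slN_val, pow_apply, O.φ_iter_zero, O.φ_iter_one, O.φ_iter_neg]
  rw [e, rootHom_slN]
  rfl

theorem slL_mem_Xn (m : Fin O.nn) (t : Fo O (O.os m)) : orbS O m (slL t) ∈ O.tw.Xn m := by
  refine Subgroup.mem_subgroupOf.2 ?_
  rw [orbS_val, orbHom_slL, Orth.xS, Orth.oprod]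
  refine list_prod_mem fun x hx => ?_
  rw [List.mem_map] at hx
  obtain ⟨k, hk, rfl⟩ := hx
  refine C.X_mem_US K (S := Fin.rev '' C.inv' (O.tw.wO m)) ?_ _
  refine ⟨C.p ((O.ρ : _ → _)^[k] (O.os m)), ?_, rfl⟩
  show _ ∈ C.inv' (C.pprod (O.Jl m))
  rw [O.inv'_Jl]
  exact ⟨_, List.mem_map.2 ⟨k, hk, rfl⟩, rfl⟩

theorem orbS_range (m : Fin O.nn) : (orbS O m).range = rankOne O.tw m := by
  have hu : uO O.tw m ≤ (orbS O m).range := fun g hg => by
    obtain ⟨t, ht, e⟩ := (mem_uO O).1 hg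
    exact ⟨slU ⟨t, (mem_Fo O).2 ht⟩, Subtype.ext ((orbHom_slU O _ _).trans e.symm)⟩
  refine le_antisymm ?_ (sup_le hu ?_)
  · rw [MonoidHom.range_eq_map, ← sl2_top (H := (rankOne O.tw m).comap (orbS O m)) (fun t => ?_) (fun t => ?_)]
    · exact Subgroup.map_comap_le _ _
    · exact Subgroup.mem_sup_left ((mem_uO O).2 ⟨t, (mem_Fo O).1 t.2, orbHom_slU O _ t⟩)
    · refine Subgroup.mem_sup_right ?_
      exact (O.tw.map_Xp m).ge (slL_mem_Xn O m t)
  · rintro _ ⟨g, hg, rfl⟩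
    exact mul_mem (mul_mem ⟨_, orbS_slN_one O m⟩ (hu hg)) (inv_mem ⟨_, orbS_slN_one O m⟩)

theorem nS_mem (m : Fin O.nn) : O.tw.nS m ∈ rankOne O.tw m :=
  orbS_range O m ▸ ⟨_, orbS_slN_one O m⟩

theorem top_eq : ⨆ m, rankOne O.tw m = ⊤ := by
  refine eq_top_iff.2 fun g _ => ?_
  have hle : O.G1 ≤ (⨆ m, rankOne O.tw m).map O.tw.W.subtype := by
    refine (Subgroup.closure_le _).2 ?_
    rintro x ⟨m, s, t, ht, rfl⟩
    refine ⟨orbS O m (cond s (slL ⟨t, (mem_Fo O).2 ht⟩) (slU ⟨t, (mem_Fo O).2 ht⟩)), ?_, ?_⟩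
    · exact Subgroup.mem_iSup_of_mem m (orbS_range O m ▸ ⟨_, rfl⟩)
    · cases s
      · exact orbHom_slU O _ _
      · exact orbHom_slL O _ _
  obtain ⟨y, hy, e⟩ := hle g.2
  rwa [show g = y from Subtype.ext e.symm]

/-- The torus parameters of an orbit. -/
def tup (m : Fin O.nn) (u : Kˣ) : Fin D.rank → Kˣ :=
  ((List.range (O.sz (O.os m))).map fun k =>
    Pi.mulSingle ((O.ρ : _ → _)^[k] (O.os m)) ((Units.map (O.φ : K →* K) : Kˣ → Kˣ)^[k] u)).prod

theorem units_iter (k : ℕ) (u : Kˣ) :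
    ((((Units.map (O.φ : K →* K) : Kˣ → Kˣ)^[k] u : Kˣ) : K)) = (O.φ : K → K)^[k] (u : K) := by
  induction k with
  | zero => rfl
  | succ k ih => rw [Function.iterate_succ_apply', Function.iterate_succ_apply', Units.coe_map, ih]; rfl

theorem tup_off {m : Fin O.nn} (u : Kˣ) {j : Fin D.rank} (hj : O.idx j ≠ m) : tup O m u j = 1 := by
  rw [tup, Pi.list_prod_apply, List.map_map]
  refine List.prod_eq_one fun x hx => ?_
  obtain ⟨k, -, rfl⟩ := List.mem_map.1 hx
  exact Pi.mulSingle_eq_of_ne (fun h => hj (by rw [h, O.idx_iterate, O.idx_os])) _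

theorem tup_os (m : Fin O.nn) (u : Kˣ) : tup O m u (O.os m) = u := by
  rw [tup, Pi.list_prod_apply, List.map_map, List.prod_map_eq_pow_single 0]
  · simp [List.count_eq_one_of_mem List.nodup_range (List.mem_range.2 (O.sz_pos _))]
  · intro k hk0 hk
    refine Pi.mulSingle_eq_of_ne (fun h => hk0 ?_) _
    exact (O.orbit_inj (a := 0) (O.sz_pos _) (List.mem_range.1 hk) h).symm

theorem tup_fix (m : Fin O.nn) (u : Kˣ) (hu : O.Valid (O.os m) (u : K)) : tup O m u ∈ O.TF := by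
  classical
  show O.τc (tup O m u) = tup O m u
  have e : ∀ i a, O.τc (Pi.mulSingle i a) = Pi.mulSingle (O.ρ i) (Units.map (O.φ : K →* K) a) := fun i a => by
    funext j
    obtain ⟨j, rfl⟩ := O.ρ.surjective j
    by_cases hj : j = i
    · subst hj; simp [Orth.τc]
    · simp [Orth.τc, hj]
  show (MonoidHom.mk' O.τc O.τc_mul) (tup O m u) = tup O m u
  rw [tup, map_list_prod, List.map_map]
  refine (congrArg List.prod (List.map_congr_left
    (g := fun k => Pi.mulSingle ((O.ρ : _ → _)^[k + 1] (O.os m))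
      ((Units.map (O.φ : K →* K) : Kˣ → Kˣ)^[k + 1] u)) fun k _ => ?_)).trans
    (prod_shift (O.sz (O.os m)) (fun k => (Pi.mulSingle ((O.ρ : _ → _)^[k] (O.os m))
      ((Units.map (O.φ : K →* K) : Kˣ → Kˣ)^[k] u) : Fin D.rank → Kˣ)) ?_ fun a _ b _ => Commute.all _ _)
  · rw [Function.comp_apply, MonoidHom.mk'_apply, e, Function.iterate_succ_apply', Function.iterate_succ_apply']
  · simp only [Function.iterate_zero, id_eq]
    rw [O.ρ_sz, show (Units.map (O.φ : K →* K) : Kˣ → Kˣ)^[O.sz (O.os m)] u = u from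
      Units.ext (by rw [units_iter]; exact hu)]

theorem orbHom_slH (m : Fin O.nn) (u : (Fo O (O.os m))ˣ) :
    orbHom O (O.os m) (slH u) = C.HT K (tup O m (Units.map (Fo O (O.os m)).subtype.toMonoidHom u)) := by
  classical
  rw [tup, show C.HT K _ = C.HThom K _ from rfl, map_list_prod, List.map_map, orbHom_apply]
  refine congrArg List.prod (List.map_congr_left fun k _ => ?_)
  rw [Function.comp_apply]
  show _ = C.HT K (Pi.mulSingle _ _)
  rw [C.HT_single, ← rootHom_slH (C := C)]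
  congr 1
  refine Subtype.ext ?_
  ext a b
  show ((O.φ : K →+* K) ^ k) (((slH u).1 a b : Fo O (O.os m)) : K) = _
  rw [slH_val, slH_val]
  fin_cases a <;> fin_cases b <;> simp [units_iter, pow_apply, O.φ_iter_zero]

theorem sl2_forms {F : Type*} [Field F] (g : SL(2, F)) :
    (∃ t u, g = slU t * slH u) ∨ ∃ t u s, g = slU t * slH u * slN 1 * slU s := by
  obtain ⟨g, hg⟩ := g
  obtain ⟨a, b, c, d, rfl⟩ : ∃ a b c d : F, g = !![a, b; c, d] := ⟨_, _, _, _, Matrix.eta_fin_two g⟩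
  rw [Matrix.det_fin_two_of] at hg
  by_cases hc : c = 0
  · have hd : a * d = 1 := by rw [hc, mul_zero, sub_zero] at hg; exact hg
    refine Or.inl ⟨a * b, ⟨a, d, hd, by rw [mul_comm]; exact hd⟩, Subtype.ext ?_⟩
    simp [slH_val, slU_val, Matrix.mul_fin_two, hc, Matrix.SpecialLinearGroup.coe_mul]
    linear_combination (-b) * hd
  · refine Or.inr ⟨a / c, -(Units.mk0 c hc)⁻¹, d / c, Subtype.ext ?_⟩
    have hb : b = (a * d - 1) / c := by rw [eq_div_iff hc]; linear_combination -hg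
    simp [slU_val, slH_val, slN_val, Matrix.mul_fin_two, hb, Matrix.SpecialLinearGroup.coe_mul]
    refine ⟨⟨?_, ?_⟩, ?_⟩ <;> field_simp
    ring

theorem orbS_torus (m : Fin O.nn) {g : SL(2, Fo O (O.os m))} (hg : orbS O m g ∈ tor O.tw) :
    ∃ u, g = slH u := by
  have hA : ∀ t, orbS O m (slU t) ∈ uO O.tw m := fun t =>
    (mem_uO O).2 ⟨t, (mem_Fo O).1 t.2, orbHom_slU O _ t⟩
  have hH : ∀ u, orbS O m (slH u) ∈ tor O.tw := fun u => (mem_tor O.tw).2 (by
    rw [orbS_val, orbHom_slH]; exact C.HT_mem_diagonal _)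
  have hA0 : ∀ t, orbS O m (slU t) ∈ tor O.tw → t = 0 := fun t ht => by
    have h : (orbS O m (slU t) : GL D.Idx K) ∈ C.US K C.Pos ⊓ D.diagonalSubgroup K :=
      Subgroup.mem_inf.2 ⟨(mem_uS O.tw).1 (uO_le O.tw m (hA t)), (mem_tor O.tw).1 ht⟩
    rw [C.US_inf_diagonal, Subgroup.mem_bot, orbS_val, orbHom_slU, ← O.xS_zero false (O.os m)] at h
    exact Subtype.ext (O.xS_inj m h)
  rcases sl2_forms g with ⟨t, u, eg⟩ | ⟨t, u, s, eg⟩
  · refine ⟨u, ?_⟩
    rw [eg, map_mul] at hg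
    have h0 : t = 0 := hA0 _ (by simpa using mul_mem hg (inv_mem (hH u)))
    rw [eg, h0]
    refine Subtype.ext ?_
    simp [Matrix.SpecialLinearGroup.coe_mul, slU_val, slH_val, Matrix.mul_fin_two]
  · exfalso
    rw [eg, map_mul, map_mul, map_mul, orbS_slN_one] at hg
    have hB : O.tw.nS m ∈ O.tw.B1 := by
      have hU : ∀ t, orbS O m (slU t) ∈ O.tw.B1 := fun t =>
        O.tw.mem_B1.2 (C.posUS_le_borel ((mem_uS O.tw).1 (uO_le O.tw m (hA t))))
      have hT : ∀ {x : ↥O.tw.W}, x ∈ tor O.tw → x ∈ O.tw.B1 := fun {x} hx =>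
        O.tw.mem_B1.2 (C.diagonal_le_borel ((mem_tor O.tw).1 hx))
      have := mul_mem (mul_mem (inv_mem (mul_mem (hU t) (hT (hH u)))) (hT hg)) (inv_mem (hU s))
      convert this using 1
      group
    have h2 : (O.tw.nS m : GL D.Idx K) ∈ D.borelSubgroup K ⊓ D.monomialSubgroup K :=
      Subgroup.mem_inf.2 ⟨O.tw.mem_B1.1 hB, O.tw.nO_mono m⟩
    rw [C.borel_inf_monomial] at h2
    have h1 : O.tw.wO m = 1 := C.acts_unique K (O.tw.nO_acts m) (C.acts_diagonal h2)
    obtain ⟨j, hj⟩ := List.exists_mem_of_ne_nil _ (O.tw.J_ne m)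
    have := O.tw.J_neg m j hj
    rw [show C.pprod (O.tw.J m) = O.tw.wO m from rfl, h1] at this
    exact (C.neg_iff_not_pos _).1 this (C.p_pos j)

section Ker

variable (hker : Nat.card ↥((C.HThom K).comp O.TF.subtype).ker = 1)

include hker

theorem HT_tup_one {c : Fin D.rank → Kˣ} (hc : c ∈ O.TF) (h : C.HT K c = 1) : c = 1 := by
  haveI := (Nat.card_eq_one_iff_unique.1 hker).1
  have : (⟨⟨c, hc⟩, h⟩ : ↥((C.HThom K).comp O.TF.subtype).ker) = 1 := Subsingleton.elim _ _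
  exact congrArg (fun x : ↥((C.HThom K).comp O.TF.subtype).ker => ((x : ↥O.TF) : Fin D.rank → Kˣ)) this

theorem orbS_injective (m : Fin O.nn) : Function.Injective (orbS O m) := by
  refine (injective_iff_map_eq_one _).2 fun g hg => ?_
  obtain ⟨u, rfl⟩ := orbS_torus O m (g := g) (hg ▸ one_mem _)
  have h1 : orbHom O (O.os m) (slH u) = 1 := by rw [← orbS_val, hg]; rfl
  rw [orbHom_slH] at h1
  have h2 := congrFun (HT_tup_one O hker (tup_fix O m _ ((mem_Fo O).1 (u : Fo O (O.os m)).2)) h1) (O.os m)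
  rw [tup_os] at h2
  have hu : u = 1 := Units.ext (Subtype.ext (congrArg Units.val h2))
  subst hu
  refine Subtype.ext ?_
  simp [slH_val, Matrix.one_fin_two]

/-- The group of rank one is SL₂. -/
noncomputable def iso (m : Fin O.nn) : SL(2, Fo O (O.os m)) ≃* ↥(rankOne O.tw m) :=
  (MonoidHom.ofInjective (orbS_injective O hker m)).trans (MulEquiv.subgroupCongr (orbS_range O m))

theorem indep {m m' : Fin O.nn} (hne : m ≠ m') :
    ∀ a ∈ tor O.tw ⊓ rankOne O.tw m, ∀ b ∈ tor O.tw ⊓ rankOne O.tw m', a * b = 1 → a = 1 := by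
  intro a ha b hb hab
  obtain ⟨ha1, ha2⟩ := Subgroup.mem_inf.1 ha
  obtain ⟨hb1, hb2⟩ := Subgroup.mem_inf.1 hb
  rw [← orbS_range] at ha2 hb2
  obtain ⟨g, rfl⟩ := ha2
  obtain ⟨g', rfl⟩ := hb2
  obtain ⟨u, rfl⟩ := orbS_torus O m ha1
  obtain ⟨v, rfl⟩ := orbS_torus O m' hb1
  have h : orbHom O (O.os m) (slH u) * orbHom O (O.os m') (slH v) = 1 := congrArg Subtype.val hab
  rw [orbHom_slH, orbHom_slH, C.HT_mul] at h
  have h1 := HT_tup_one O hker (mul_mem (tup_fix O m _ ((mem_Fo O).1 (u : Fo O (O.os m)).2))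
    (tup_fix O m' _ ((mem_Fo O).1 (v : Fo O (O.os m')).2))) h
  set u' := Units.map (Fo O (O.os m)).subtype.toMonoidHom u with hu'
  have h2 : tup O m u' = 1 := funext fun j => by
    by_cases hj : O.idx j = m
    · have := congrFun h1 j
      rwa [Pi.mul_apply, tup_off O _ (m := m') (by rw [hj]; exact hne), mul_one] at this
    · exact tup_off O _ hj
  refine Subtype.ext ?_
  rw [orbS_val, orbHom_slH, ← hu', h2, C.HT_one]
  rfl

end Ker

end Cfsg.Agent.Lib.TwMult.OrthRank
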