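import Cfsg.Agent.Lib.TwMult.FrameN
import Cfsg.Agent.Lib.TwMult.CoprimeComp
import Cfsg.Agent.Lib.TwMult.OrthRank

/-!
Twisted groups with orthogonal orbits as split (B,N)-pairs of any rank, and the bound on the part of
their multipliers prime to the characteristic by the kernel of the torus map.
-/

set_option autoImplicit false
set_option linter.unusedSectionVars false

namespace Cfsg.Agent.Lib.TwMult.TwN

open Cfsg.Lie
open Cfsg.Agent.Lib.ChevStructure Cfsg.Agent.Lib.LieTwisted.Twist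
open scoped MatrixGroups

universe u

variable {D : ChevalleyDatum} {C : Core D} {K : Type u} [Field K]

/-- What is needed of the twisted Weyl group. -/
structure WData (T : Tw C K) where
  M : CoxeterMatrix (Fin T.nn)
  M_ne : ∀ i j, M i j ≠ 0
  card : Nat.card M.Group = Nat.card T.WT
  rel : ∀ a b, (T.wO a * T.wO b) ^ M a b = 1
  perm : ∀ i j, i ≠ j → ∀ r ∈ C.inv' (T.wO (if Even (M i j - 1) then i else j)),
    altP (T.wO i) (T.wO j) (M i j - 1) r ∈ C.inv' (T.wO j)

variable [Finite K] {T : Tw C K} (W : WData T)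

theorem word_conj (i j : Fin T.nn) :
    altP (T.wO i) (T.wO j) (W.M i j - 1) * T.wO (if Even (W.M i j - 1) then i else j) *
      (altP (T.wO i) (T.wO j) (W.M i j - 1))⁻¹ = T.wO j := by
  have hm : W.M i j - 1 + 1 = W.M i j := Nat.sub_add_cancel (Nat.one_le_iff_ne_zero.2 (W.M_ne i j))
  set m := W.M i j - 1
  have hi : T.wO i * T.wO i = 1 := T.J_inv i
  have hj : T.wO j * T.wO j = 1 := T.J_inv j
  have h := altP_mul_inv (m + 1) hi hj
  rw [hm, W.rel i j, mul_inv_eq_one, ← hm] at h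
  have e : altP (T.wO i) (T.wO j) (m + 1) =
      altP (T.wO i) (T.wO j) m * T.wO (if Even m then i else j) := by
    rw [altP_succ, apply_ite T.wO]
  rw [mul_inv_eq_iff_eq_mul, ← e, h]
  rfl

theorem acts_altP : ∀ (k : ℕ) (i j : Fin T.nn),
    C.Acts ((altP (T.nS i) (T.nS j) k : ↥T.W) : GL D.Idx K) (altP (T.wO i) (T.wO j) k)
  | 0, _, _ => C.acts_diagonal (one_mem _)
  | k + 1, i, j => by
    show C.Acts ((T.nS i * altP (T.nS j) (T.nS i) k : ↥T.W) : GL D.Idx K) _
    exact C.acts_mul K (T.nO_acts i) (acts_altP k j i)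

theorem mono_altP : ∀ (k : ℕ) (i j : Fin T.nn),
    ((altP (T.nS i) (T.nS j) k : ↥T.W) : GL D.Idx K) ∈ D.monomialSubgroup K
  | 0, _, _ => one_mem _
  | k + 1, i, j => mul_mem (T.nO_mono i) (mono_altP k j i)

theorem exists_cox : ∃ cox : ↥T.N1 →* W.M.Group,
    (∀ (i : Fin T.nn) (h : T.nS i ∈ T.N1), cox ⟨T.nS i, h⟩ = W.M.simple i) ∧
      ∀ x : ↥T.N1, cox x = 1 ↔ (x : ↥T.W) ∈ tor T := by
  classical
  let f : Fin T.nn → ↥T.WT := fun m => ⟨T.wO m, T.wO_mem m⟩
  have hf : W.M.IsLiftable f := fun a b => Subtype.ext (W.rel a b)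
  let ψ : W.M.Group →* ↥T.WT := W.M.toCoxeterSystem.lift ⟨f, hf⟩
  have hcard := W.card
  have hne : Nat.card ↥T.WT ≠ 0 := Nat.card_ne_zero.2 ⟨inferInstance, inferInstance⟩
  have : Finite W.M.Group := Nat.finite_of_card_ne_zero (hcard ▸ hne)
  have hψs : ∀ i, ψ (W.M.simple i) = f i := fun i => W.M.toCoxeterSystem.lift_apply_simple hf i
  have hsurj : Function.Surjective ψ := by
    rintro ⟨σ, hσ⟩
    have hle : T.WTk T.nn ≤ ψ.range.map T.WT.subtype := (Subgroup.closure_le _).2 fun x ⟨m, _, e⟩ =>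
      ⟨f m, ⟨W.M.simple m, hψs m⟩, e.symm⟩
    rw [T.WTk_nn] at hle
    obtain ⟨x, ⟨g, hg⟩, hx⟩ := hle hσ
    exact ⟨g, hg.trans (Subtype.ext hx)⟩
  let e : W.M.Group ≃* ↥T.WT :=
    MulEquiv.ofBijective ψ ((Nat.bijective_iff_surjective_and_card ψ).2 ⟨hsurj, hcard⟩)
  let inc : ↥T.N1 →* ↥(D.monomialSubgroup K ⊓ T.W) :=
    (T.W.subtype.comp T.N1.subtype).codRestrict _ fun x => ⟨T.mem_N1.1 x.2, x.1.2⟩
  refine ⟨e.symm.toMonoidHom.comp (T.wT.comp inc), fun i h => ?_, fun x => ?_⟩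
  · refine e.symm_apply_eq.2 ?_
    show T.wT (inc ⟨T.nS i, h⟩) = ψ (W.M.simple i)
    rw [hψs]
    exact Subtype.ext (C.acts_unique K (T.acts_wT _) (T.nO_acts i))
  · show e.symm (T.wT (inc x)) = 1 ↔ _
    rw [EmbeddingLike.map_eq_one_iff, ← MonoidHom.mem_ker, T.wT_ker, Subgroup.mem_subgroupOf,
      Subgroup.mem_inf, mem_tor T]
    exact ⟨fun h => h.1, fun h => ⟨h, x.1.2⟩⟩

/-- The frame of a twisted group. -/
noncomputable def frameN (hq : 1 < T.q) (hL : ∀ m, T.nS m ∈ rankOne T m) (htop : ⨆ m, rankOne T m = ⊤) :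
    FrameN ↥T.W T.nn where
  U := uS T C.Pos
  N := T.N1
  H := tor T
  n i := T.nS i
  Ui i := uO T i
  Uc i := uS T (C.Pos \ C.inv' (T.wO i))
  L i := rankOne T i
  L_eq _ := rfl
  n_mem_L := hL
  n_mem i := T.mem_N1.2 (T.nO_mono i)
  H_le _ h := T.mem_N1.2 (Subgroup.mem_sup_left ((mem_tor T).1 h))
  n_sq i := (mem_tor T).2 (C.mem_diagonal_of_acts_one (mul_mem (T.nO_mono i) (T.nO_mono i)) (by
    have := C.acts_mul K (T.nO_acts i) (T.nO_acts i)
    rwa [T.J_inv] at this))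
  n_conj i h hh := (mem_tor T).2 (C.conj_diagonal (T.nO_mono i) ((mem_tor T).1 hh))
  H_comm := tor_comm T
  H_conj := tor_conj_uS T _
  H_conj_Ui i := tor_conj_uS T _
  Ui_le i := uO_le T i
  Uc_le _ _ h := (mem_uS T).2 (C.US_mono K (fun _ hr => hr.1) ((mem_uS T).1 h))
  split i := exists_split T i
  n_Uc i := conj_uS T (T.nO_acts i) fun _ hr => wO_off T i hr
  borel_N := fun u hu h hh hN => by
    have h1 : (u : GL D.Idx K) ∈ D.monomialSubgroup K := by
      have := mul_mem (T.mem_N1.1 hN) (inv_mem (Subgroup.mem_sup_left (T := _) ((mem_tor T).1 hh) :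
        (h : GL D.Idx K) ∈ D.monomialSubgroup K))
      simpa using this
    have h2 : (u : GL D.Idx K) ∈ D.borelSubgroup K ⊓ D.monomialSubgroup K :=
      Subgroup.mem_inf.2 ⟨C.posUS_le_borel ((mem_uS T).1 hu), h1⟩
    rw [C.borel_inf_monomial] at h2
    have h3 : (u : GL D.Idx K) ∈ C.US K C.Pos ⊓ D.diagonalSubgroup K :=
      Subgroup.mem_inf.2 ⟨(mem_uS T).1 hu, h2⟩
    rw [C.US_inf_diagonal, Subgroup.mem_bot] at h3
    exact Subtype.ext h3
  tri x hx i := tri_dichotomy T hx i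
  one i := one_dichotomy T hq i (hL i)
  top := htop
  M := W.M
  M_ne := W.M_ne
  cox := (exists_cox W).choose
  cox_n i := (exists_cox W).choose_spec.1 i _
  cox_ker := (exists_cox W).choose_spec.2
  braid i j hij u hu := by
    set x := altP (T.nS i) (T.nS j) (W.M i j - 1) with hx
    set e := if Even (W.M i j - 1) then i else j with he
    have hX := acts_altP (W.M i j - 1) i j
    refine ⟨Subgroup.mem_sup_left (conj_uS T hX (W.perm i j hij) u hu), ?_⟩
    have hc : C.Acts (((T.nS j)⁻¹ * x * T.nS e : ↥T.W) : GL D.Idx K)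
        (altP (T.wO i) (T.wO j) (W.M i j - 1)) := by
      have h := C.acts_mul K (C.acts_mul K (C.acts_inv K (T.nO_acts j)) hX) (T.nO_acts e)
      have hw : (T.wO j)⁻¹ * altP (T.wO i) (T.wO j) (W.M i j - 1) * T.wO e =
          altP (T.wO i) (T.wO j) (W.M i j - 1) := by
        rw [mul_assoc, inv_mul_eq_iff_eq_mul]
        exact mul_inv_eq_iff_eq_mul.1 (word_conj W i j)
      rwa [show C.pprod (T.J j) = T.wO j from rfl, show C.pprod (T.J e) = T.wO e from rfl, hw] at h
    have := conj_uS T hc (W.perm i j hij) u hu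
    exact Subgroup.mem_sup_right ⟨_, this, by show T.nS j * _ * (T.nS j)⁻¹ = _; group⟩
  braid_n i j hij := (mem_tor T).2 (by
    have hX := acts_altP (W.M i j - 1) i j
    have hxm := mono_altP (W.M i j - 1) i j
    refine C.mem_diagonal_of_acts_one (mul_mem (inv_mem (T.nO_mono j))
      (mul_mem (mul_mem hxm (T.nO_mono _)) (inv_mem hxm))) ?_
    have h := C.acts_mul K (C.acts_inv K (T.nO_acts j))
      (C.acts_mul K (C.acts_mul K hX (T.nO_acts (if Even (W.M i j - 1) then i else j))) (C.acts_inv K hX))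
    rwa [show C.pprod (T.J j) = T.wO j from rfl,
      show C.pprod (T.J (if Even (W.M i j - 1) then i else j)) =
        T.wO (if Even (W.M i j - 1) then i else j) from rfl, word_conj W i j, inv_mul_cancel] at h)

end Cfsg.Agent.Lib.TwMult.TwN
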